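import Mathlib
import Cfsg.Agent.Lib.Palfy.ND6
import Cfsg.Agent.Lib.Deg.FewDeg3
import Cfsg.Agent.Lib.Deg.Anti
import Cfsg.Agent.Lib.Core.CoprimeExt
import Cfsg.Agent.Lib.Char.ExtDeg
import Cfsg.Agent.Lib.Misc92.Mann

/-! Definitions for groups without divisibility among non-linear degrees (project NDA). -/

set_option autoImplicit false
open Cfsg Subgroup
open scoped commutatorElement

namespace H84.NDA

section act
variable {J P : Type*} [Group J] [Group P]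

/-- lower central series, `ga P 0 = ⊤`, `ga P 1 = commutator P`. -/
abbrev ga (P : Type*) [Group P] (i : ℕ) : Subgroup P := (⊤ : Subgroup P).lowerCentralSeries i

/-- stabilizer of a function on `P`. -/
def stab (φ : J →* MulAut P) (ψ : P → ℂ) : Subgroup J where
  carrier := {c | ∀ x, ψ (φ c x) = ψ x}
  one_mem' := fun x => by rw [map_one]; rfl
  mul_mem' := fun {a b} ha hb x => by rw [map_mul, MulAut.mul_apply, ha, hb]
  inv_mem' := fun {a} ha x => by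
    rw [← ha, ← MulAut.mul_apply, ← map_mul, mul_inv_cancel, map_one]; rfl

theorem mem_stab {φ : J →* MulAut P} {ψ : P → ℂ} {c : J} :
    c ∈ stab φ ψ ↔ ∀ x, ψ (φ c x) = ψ x := Iff.rfl

/-- the degree of the characters of `P ⋊ J` over `ψ`. -/
noncomputable def dg (φ : J →* MulAut P) (ψ : P → ℂ) : ℕ := (stab φ ψ).index * charDegree ψ

/-- fixed points `P0`. -/
abbrev fx (φ : J →* MulAut P) : Subgroup P := H2.fixSub φ ⊤

/-- `M = [P, J]`. -/
abbrev cm (φ : J →* MulAut P) : Subgroup P := H2.actComm φ ⊤ ⊤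

/-- `P0 P'`. -/
abbrev k0 (φ : J →* MulAut P) : Subgroup P := fx φ ⊔ commutator P

/-- `A` is invariant under `S`. -/
def Iv (φ : J →* MulAut P) (S : Subgroup J) (A : Subgroup P) : Prop := ∀ c ∈ S, ∀ x ∈ A, φ c x ∈ A

/-- `c` fixes the linear character `μ` of `A`. -/
def Fx (φ : J →* MulAut P) (c : J) {A : Subgroup P} (μ : A →* ℂˣ) : Prop :=
  ∀ x y : A, (y : P) = φ c x → μ y = μ x

/-- `μ` is trivial on `B`. -/
def Tr {A : Subgroup P} (μ : A →* ℂˣ) (B : Subgroup P) : Prop := ∀ x : A, (x : P) ∈ B → μ x = 1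

/-- `μ g = 1`. -/
def Tv {A : Subgroup P} (μ : A →* ℂˣ) (g : P) : Prop := ∀ h : g ∈ A, μ ⟨g, h⟩ = 1

/-- `c` has no fixed point on `A / B`. -/
def Fp (φ : J →* MulAut P) (c : J) (A B : Subgroup P) : Prop :=
  ∀ x ∈ A, x⁻¹ * φ c x ∈ B → x ∈ B

/-- `ψ` restricts to a multiple of `μ`. -/
def Ov (ψ : P → ℂ) {A : Subgroup P} (μ : A →* ℂˣ) : Prop := ∀ x : A, ψ x = ψ 1 * (μ x : ℂ)

theorem ga_inv (φ : J →* MulAut P) (c : J) (i : ℕ) {x : P} (hx : x ∈ ga P i) : φ c x ∈ ga P i :=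
  (characteristic_iff_le_comap.mp inferInstance (φ c)) hx

theorem iv_ga (φ : J →* MulAut P) (S : Subgroup J) (i : ℕ) : Iv φ S (ga P i) :=
  fun c _ _ hx => ga_inv φ c i hx

theorem ga_succ (i : ℕ) : ga P (i + 1) = ⁅ga P i, ⊤⁆ := rfl

theorem ga_one : ga P 1 = commutator P := rfl

theorem ga_le (i : ℕ) : ga P (i + 1) ≤ ga P i :=
  Subgroup.lowerCentralSeries_antitone _ (Nat.le_succ i)

theorem ga_anti {i j : ℕ} (h : i ≤ j) : ga P j ≤ ga P i :=
  Subgroup.lowerCentralSeries_antitone _ h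

theorem comm_ga {i j : ℕ} {x y : P} (hx : x ∈ ga P i) (hy : y ∈ ga P j) :
    ⁅x, y⁆ ∈ ga P (i + j + 1) := H92.lcs_commutator_le i j (commutator_mem_commutator hx hy)

theorem comm_ga_left {i : ℕ} {x : P} (hx : x ∈ ga P i) (y : P) : ⁅x, y⁆ ∈ ga P (i + 1) :=
  commutator_mem_commutator hx (mem_top y)

theorem comm_ga_right {i : ℕ} (x : P) {y : P} (hy : y ∈ ga P i) : ⁅x, y⁆ ∈ ga P (i + 1) := by
  rw [← commutatorElement_inv]; exact inv_mem (comm_ga_left hy x)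

theorem ga_comm_le (i : ℕ) : ⁅ga P i, ga P i⁆ ≤ ga P (i + 1) := commutator_mono le_rfl le_top

/-- the kernel of the action on `ga i / ga (i+1)`. -/
def ck (φ : J →* MulAut P) (i : ℕ) : Subgroup J where
  carrier := {c | ∀ x ∈ ga P i, x⁻¹ * φ c x ∈ ga P (i + 1)}
  one_mem' := fun x _ => by rw [map_one, MulAut.one_apply, inv_mul_cancel]; exact one_mem _
  mul_mem' := fun {a b} ha hb x hx => by
    have := mul_mem (hb x hx) (ha _ (ga_inv φ b i hx))
    rwa [mul_assoc, mul_inv_cancel_left, ← MulAut.mul_apply, ← map_mul] at this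
  inv_mem' := fun {a} ha x hx => by
    have := inv_mem (ha _ (ga_inv φ a⁻¹ i hx))
    rwa [← MulAut.mul_apply, ← map_mul, mul_inv_cancel, map_one, MulAut.one_apply, mul_inv_rev,
      inv_inv] at this

theorem mem_ck {φ : J →* MulAut P} {i : ℕ} {c : J} :
    c ∈ ck φ i ↔ ∀ x ∈ ga P i, x⁻¹ * φ c x ∈ ga P (i + 1) := Iff.rfl

theorem ker_le_ck (φ : J →* MulAut P) (i : ℕ) : φ.ker ≤ ck φ i := fun c hc x _ => by
  rw [MonoidHom.mem_ker.mp hc, MulAut.one_apply, inv_mul_cancel]; exact one_mem _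

theorem ker_le_stab (φ : J →* MulAut P) (ψ : P → ℂ) : φ.ker ≤ stab φ ψ := fun c hc x => by
  rw [MonoidHom.mem_ker.mp hc, MulAut.one_apply]

/-- a non-abelian `p`-group with an abelian group of operators of order prime to `p`. -/
structure PJ (p : ℕ) (φ : J →* MulAut P) : Prop where
  prime : p.Prime
  pg : IsPGroup p P
  cop : ¬ p ∣ Nat.card J
  comm : ∀ a b : J, a * b = b * a
  nd : ∀ ψ η, IsIrrCharacter P ψ → IsIrrCharacter P η → dg φ ψ ≠ 1 → dg φ ψ ∣ dg φ η →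
    dg φ ψ = dg φ η
  lin : ∃ lam : P →* ℂˣ, stab φ (fun x => (lam x : ℂ)) = φ.ker
  ne : φ.ker ≠ ⊤
  nab : commutator P ≠ ⊥

/-- no fixed points. -/
structure CJ (p : ℕ) (φ : J →* MulAut P) : Prop extends PJ p φ where
  fpf : fx φ = ⊥

/-- `π` identifies `A / B` with the additive group `L`. -/
structure Lay (A B : Subgroup P) {L : Type*} [AddCommGroup L] (π : P → L) : Prop where
  surj : ∀ l, ∃ x ∈ A, π x = l
  add : ∀ x ∈ A, ∀ y ∈ A, π (x * y) = π x + π y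
  ker : ∀ x ∈ A, π x = 0 ↔ x ∈ B

end act

/-- the linear data of a hypothetical class four quotient. -/
structure LD {F L1 L2 L3 : Type*} [Field F] [AddCommGroup L1] [Module F L1] [AddCommGroup L2]
    [Module F L2] [AddCommGroup L3] [Module F L3] (br : L1 →ₗ[F] L1 →ₗ[F] L2)
    (ad : L2 →ₗ[F] L1 →ₗ[F] L3) (m : L3 →ₗ[F] L1 →ₗ[F] F) (g : L2 →ₗ[F] L2 →ₗ[F] F) : Prop where
  alt : ∀ u, br u u = 0
  j3 : ∀ x y z, ad (br x y) z + ad (br y z) x + ad (br z x) y = 0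
  j4 : ∀ y u z, m (ad y u) z - m (ad y z) u = g y (br u z)
  sbr : ∀ x, x ≠ 0 → Function.Surjective (br x)
  sad : ∀ y, y ≠ 0 → Function.Surjective (ad y)
  im : ∀ w, m w = 0 → w = 0
  n2 : Nontrivial L2
  n3 : Nontrivial L3
  hf : ∀ u, u ≠ 0 → Module.finrank F L3 + 1 ≤
    Module.finrank F (LinearMap.ker (br u)) + Module.finrank F (LinearMap.range (ad.flip u))

section amb
variable {G : Type*} [Group G]

/-- conjugation action of `J` on the normal subgroup `P`. -/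
abbrev act (P J : Subgroup G) [P.Normal] : J →* MulAut P := MulAut.conjNormal.comp J.subtype

/-- action of `H` on the linear characters of the normal subgroup `B`. -/
noncomputable abbrev dl (B H : Subgroup G) [B.Normal] : H →* MulAut (B →* ℂˣ) :=
  (H64.Palfy.dual B).comp H.subtype

/-- elements of `N` central modulo `N'`. -/
def kz (N : Subgroup G) [hN : N.Normal] : Subgroup G where
  carrier := {x | x ∈ N ∧ ∀ g : G, ⁅g, x⁆ ∈ ⁅N, N⁆}
  one_mem' := ⟨one_mem _, fun g => by rw [commutatorElement_one_right]; exact one_mem _⟩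
  mul_mem' := fun {a b} ha hb => ⟨mul_mem ha.1 hb.1, fun g => by
    have e : ⁅g, a * b⁆ = ⁅g, a⁆ * (a * ⁅g, b⁆ * a⁻¹) := by
      simp only [commutatorElement_def]; group
    rw [e]
    exact mul_mem (ha.2 g) (Normal.conj_mem inferInstance _ (hb.2 g) a)⟩
  inv_mem' := fun {a} ha => ⟨inv_mem ha.1, fun g => by
    have e : ⁅g, a⁻¹⁆ = a⁻¹ * ⁅g, a⁆⁻¹ * a⁻¹⁻¹ := by
      simp only [commutatorElement_def]; group
    rw [e]
    exact Normal.conj_mem inferInstance _ (inv_mem (ha.2 g)) _⟩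

theorem mem_kz {N : Subgroup G} [N.Normal] {x : G} :
    x ∈ kz N ↔ x ∈ N ∧ ∀ g : G, ⁅g, x⁆ ∈ ⁅N, N⁆ := Iff.rfl

/-- no non-abelian quotient of prime power order. -/
def NoQ (G : Type*) [Group G] : Prop :=
  ∀ (r : ℕ) (L : Subgroup G) [L.Normal], r.Prime → IsPGroup r (G ⧸ L) → commutator G ≤ L

/-- the shape of `G` in the Frobenius case; `H` is the normalizer of `P`. -/
structure Amb (p : ℕ) (N P B D H : Subgroup G) : Prop where
  pg : IsPGroup p P
  idx : ¬ p ∣ P.index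
  le : P ≤ N
  nor : H = normalizer (P : Set G)
  copB : ¬ p ∣ Nat.card B
  inf : B ⊓ H = ⊥
  sup : B ⊔ H = ⊤
  der : ⁅N, N⁆ = B ⊔ ⁅P, P⁆
  infN : H ⊓ N = P ⊔ D
  commD : ∀ a ∈ D, ∀ b ∈ D, a * b = b * a
  copD : ¬ p ∣ Nat.card D
  cenD : D ≤ centralizer (P : Set G)
  norD : ∀ h ∈ H, ∀ d ∈ D, h * d * h⁻¹ ∈ D

/-- a normal non-abelian Sylow subgroup containing the derived subgroup. -/
structure HP (p : ℕ) (P : Subgroup G) : Prop where
  prime : p.Prime
  pg : IsPGroup p P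
  idx : ¬ p ∣ P.index
  comm : commutator G ≤ P
  nd : H64.Palfy.ND G
  ne : P ⊔ centralizer (P : Set G) ≠ ⊤
  deg : ∃ τ, IsIrrCharacter G τ ∧ charDegree τ = (P ⊔ centralizer (P : Set G)).index
  nab : ⁅P, P⁆ ≠ ⊥

/-- a Frobenius-like group `E Y` acting on `W`, with `E Z` semiregular. -/
structure FQ {W : Type*} [Group W] (φ : G →* MulAut W) (E Y Z : Subgroup G) : Prop where
  nE : E.Normal
  cyc : IsCyclic E
  ne : E ≠ ⊥
  commY : ∀ a ∈ Y, ∀ b ∈ Y, a * b = b * a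
  le : Z ≤ Y
  lt : ¬ Y ≤ Z
  cen : Z ≤ center G
  sup : E ⊔ Y = ⊤
  inf : E ⊓ Y = ⊥
  fpf : ∀ y ∈ Y, y ∉ Z → ∀ e ∈ E, y * e = e * y → e = 1
  semi : ∀ x ∈ E ⊔ Z, x ≠ 1 → ∀ w, φ x w = w → w = 1
  nd1 : ∀ w, w ≠ 1 → ¬ (E ⊔ Z).index ∣ (H64.Palfy.st φ w).index
  nd2 : ∀ v w, v ≠ 1 → w ≠ 1 → (H64.Palfy.st φ v).index ∣ (H64.Palfy.st φ w).index →
    (H64.Palfy.st φ v).index = (H64.Palfy.st φ w).index

/-- an abelian normal subgroup with cyclic quotient acting on `W`. -/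
structure FH {W : Type*} [Group W] (φ : G →* MulAut W) (A : Subgroup G) [A.Normal] : Prop where
  comm : ∀ a ∈ A, ∀ b ∈ A, a * b = b * a
  cyc : IsCyclic (G ⧸ A)
  nc : ¬ A ≤ center G
  fr : ∀ g, g ∉ A → ∀ n ∈ A, ⁅g, n⁆ ∈ center G → n ∈ center G
  fp : ∀ x ∈ A, x ∉ center G → ∀ w, φ x w = w → w = 1
  nd1 : ∀ w, w ≠ 1 → ¬ A.index ∣ (H64.Palfy.st φ w).index
  nd2 : ∀ v w, v ≠ 1 → w ≠ 1 → (H64.Palfy.st φ v).index ∣ (H64.Palfy.st φ w).index →
    (H64.Palfy.st φ v).index = (H64.Palfy.st φ w).index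

end amb

end H84.NDA
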