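import Mathlib
import Cfsg.Agent.Lib.NDA.Defs
import Cfsg.Agent.Lib.Glaub.Over

/-! Project NDA, package GL. -/

set_option autoImplicit false
set_option linter.unusedSectionVars false
set_option linter.style.haveILetI false
open Cfsg Subgroup
open scoped commutatorElement

namespace H84.NDA

variable {J P : Type*} [Group J] [Finite J] [Group P] [Finite P] {φ : J →* MulAut P} {p : ℕ}

theorem gl_ne {ψ : P → ℂ} (hψ : IsIrrCharacter P ψ) : ψ 1 ≠ 0 := by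
  rw [← H87.irr_deg_cast hψ]; exact_mod_cast H87.deg_ne_zero hψ

theorem exists_over_inv [Group.IsSolvable P] (hcop : (Nat.card J).Coprime (Nat.card P))
    {S : Subgroup J} {A : Subgroup P} [A.Normal] (hA : Iv φ S A) (μ : A →* ℂˣ)
    (hμ : ∀ c ∈ S, Fx φ c μ) :
    ∃ ψ, IsIrrCharacter P ψ ∧ H87.Over A ψ (fun x => (μ x : ℂ)) ∧ S ≤ stab φ ψ := by
  classical
  have := Fintype.ofFinite P
  letI : MulDistribMulAction S P := MulDistribMulAction.compHom P (φ.comp S.subtype)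
  letI : MulDistribMulAction S A := H88.subAction A fun c k hk => hA c c.2 k hk
  haveI : A.subtype.range.Normal := by rw [range_subtype]; infer_instance
  obtain ⟨χ, h1, h2⟩ := H88.exists_inv_over_solv (A := S) A.subtype A.subtype_injective
    (fun _ _ => rfl)
    ((hcop.symm.coprime_dvd_left (index_dvd_card _)).coprime_dvd_right (card_subgroup_dvd_card S))
    inferInstance ⟨_, H6.isIrrCharacter_hom μ⟩ (fun c x => congrArg Units.val (hμ c c.2 x (c • x) rfl))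
  exact ⟨χ.1, χ.2, H87.over_iff.2 h2, fun c hc x => h1 ⟨c, hc⟩ x⟩

theorem ov_of_over {A : Subgroup P} [A.Normal] {μ : A →* ℂˣ}
    (hc : ∀ g : P, ∀ x ∈ A, Tv μ ⁅g, x⁆) {ψ : P → ℂ} (hψ : IsIrrCharacter P ψ)
    (h : H87.Over A ψ (fun x => (μ x : ℂ))) : Ov ψ μ := by
  obtain ⟨e, -, -, he⟩ := h.res_eq_of_invariant hψ (H6.isIrrCharacter_hom μ) (eq_top_iff.2 fun g _ =>
    H7.mem_inertia'.2 fun n => by
      have hm : ⁅g, (n : P)⁆ ∈ A := mul_mem (Normal.conj_mem inferInstance _ n.2 g) (inv_mem n.2)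
      have e : (⟨g * n * g⁻¹, Normal.conj_mem inferInstance _ n.2 g⟩ : A) = ⟨_, hm⟩ * n :=
        Subtype.ext (by simp [commutatorElement_def])
      rw [e, map_mul, hc g n n.2 hm, one_mul])
  intro x
  have h1 := he 1
  rw [map_one, Units.val_one, mul_one, coe_one] at h1
  rw [he x, h1]

theorem exists_ov [Group.IsSolvable P] (hcop : (Nat.card J).Coprime (Nat.card P))
    {S : Subgroup J} {A : Subgroup P} [A.Normal] (hA : Iv φ S A) (μ : A →* ℂˣ)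
    (hμ : ∀ c ∈ S, Fx φ c μ) (hc : ∀ g : P, ∀ x ∈ A, Tv μ ⁅g, x⁆) :
    ∃ ψ, IsIrrCharacter P ψ ∧ Ov ψ μ ∧ S ≤ stab φ ψ := by
  obtain ⟨ψ, h1, h2, h3⟩ := exists_over_inv hcop hA μ hμ
  exact ⟨ψ, h1, ov_of_over hc h1 h2, h3⟩

theorem exists_ov' {A : Subgroup P} [A.Normal] (μ : A →* ℂˣ)
    (hc : ∀ g : P, ∀ x ∈ A, Tv μ ⁅g, x⁆) : ∃ ψ, IsIrrCharacter P ψ ∧ Ov ψ μ := by
  obtain ⟨ψ, h1, h2⟩ := H87.exists_over (H6.isIrrCharacter_hom μ)
  exact ⟨ψ, h1, ov_of_over hc h1 h2⟩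

theorem tv_ga {i : ℕ} {μ : ga P i →* ℂˣ} (h : Tr μ (ga P (i + 1))) :
    ∀ g : P, ∀ x ∈ ga P i, Tv μ ⁅g, x⁆ := fun g _ hx _ => h _ (comm_ga_right g hx)

theorem exists_un {A : Subgroup P} [A.Normal] {ψ : P → ℂ} (hψ : IsIrrCharacter P ψ)
    (h : ⁅A, ⊤⁆ ≤ H6.charKer ψ) : ∃ μ : A →* ℂˣ, Ov ψ μ := by
  obtain ⟨θ, hθ, ho⟩ := H87.exists_under hψ A
  have hch := H6.irr_isCharacter hψ
  have key : ∀ x : A, (x : P) ∈ ⁅A, ⊤⁆ → θ x = θ 1 := fun x hx =>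
    ho.apply_eq_of_mem_ker hch hθ ((H6.mem_charKer hch).1 (h hx))
  have h1 : charDegree θ = 1 := H87.deg_eq_one_of_commutator_le hθ (commutator_le.2 fun a _ b _ =>
    (H6.mem_charKer (H6.irr_isCharacter hθ)).2 (key _ (commutator_mem_commutator a.2 (mem_top (b : P)))))
  obtain ⟨μ, rfl⟩ := H6.exists_hom_of_char_one_eq_one (H6.irr_isCharacter hθ)
    ((H87.deg_eq_one_iff (H6.irr_isCharacter hθ)).1 h1)
  refine ⟨μ, ov_of_over (fun g x hx hm => ?_) hψ ho⟩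
  have := key ⟨_, hm⟩ (by
    rw [Subgroup.commutator_comm]; exact commutator_mem_commutator (mem_top g) hx)
  simpa using this

theorem Ov.fx {A : Subgroup P} {μ : A →* ℂˣ} {ψ : P → ℂ} (h : Ov ψ μ) (hψ : IsIrrCharacter P ψ)
    {c : J} (hc : c ∈ stab φ ψ) : Fx φ c μ := fun x y e => by
  have := hc x
  rw [← e, h x, h y] at this
  exact Units.ext (mul_left_cancel₀ (gl_ne hψ) this)

theorem Ov.mem_ker {A : Subgroup P} {μ : A →* ℂˣ} {ψ : P → ℂ} (h : Ov ψ μ)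
    (hψ : IsIrrCharacter P ψ) (x : A) : (x : P) ∈ H6.charKer ψ ↔ μ x = 1 := by
  rw [H6.mem_charKer (H6.irr_isCharacter hψ), h x, mul_eq_left₀ (gl_ne hψ), Units.val_eq_one]

theorem Ov.norm {A : Subgroup P} {μ : A →* ℂˣ} {ψ : P → ℂ} (h : Ov ψ μ) {x : P} (hx : x ∈ A) :
    ‖ψ x‖ = ‖ψ 1‖ := by
  have e : ‖(μ ⟨x, hx⟩ : ℂ)‖ = 1 := Complex.norm_eq_one_of_pow_eq_one (n := Nat.card A)
    (by rw [← Units.val_pow_eq_pow_val, ← map_pow, pow_card_eq_one', map_one, Units.val_one])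
    Nat.card_pos.ne'
  rw [show ψ x = _ from h ⟨x, hx⟩, norm_mul, e, mul_one]

theorem Ov.mul {A : Subgroup P} {μ : A →* ℂˣ} {ψ : P → ℂ} (h : Ov ψ μ)
    (hψ : IsIrrCharacter P ψ) (x : A) (g : P) : ψ (x * g) = (μ x : ℂ) * ψ g := by
  obtain ⟨ω, hω⟩ := H6.char_mul_of_norm_eq (H6.irr_isCharacter hψ) (h.norm x.2)
  have := hω 1
  rw [mul_one, h x, mul_comm] at this
  rw [hω, mul_right_cancel₀ (gl_ne hψ) this]

theorem Ov.vanish {A : Subgroup P} {μ : A →* ℂˣ} {ψ : P → ℂ} (h : Ov ψ μ)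
    (hψ : IsIrrCharacter P ψ) {g y : P} (hm : ⁅g, y⁆ ∈ A) (hn : ¬ Tv μ ⁅g, y⁆) :
    ψ g = 0 ∧ ψ y = 0 := by
  have h1 : (μ ⟨_, hm⟩ : ℂ) ≠ 1 := fun e => hn fun _ => Units.val_eq_one.1 e
  have cl := H6.irr_isClassFunction hψ
  constructor
  · have e := h.mul hψ ⟨_, hm⟩ (y * g * y⁻¹)
    have e' : ⁅g, y⁆ * (y * g * y⁻¹) = g := by simp only [commutatorElement_def]; group
    rw [Subgroup.coe_mk, e', cl g y] at e
    by_contra h0
    exact h1 (mul_right_cancel₀ h0 (e.symm.trans (one_mul _).symm))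
  · have e := h.mul hψ ⟨_, hm⟩ y
    have e' : ⁅g, y⁆ * y = g * y * g⁻¹ := by simp only [commutatorElement_def]; group
    rw [Subgroup.coe_mk, e', cl y g] at e
    by_contra h0
    exact h1 (mul_right_cancel₀ h0 (e.symm.trans (one_mul _).symm))

theorem Ov.deg_ne_one {A : Subgroup P} {μ : A →* ℂˣ} {ψ : P → ℂ} (h : Ov ψ μ)
    (hψ : IsIrrCharacter P ψ) (hA : A ≤ commutator P) (h1 : μ ≠ 1) : charDegree ψ ≠ 1 := fun e =>
  h1 (MonoidHom.ext fun x => (h.mem_ker hψ x).1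
    (H87.commutator_le_charKer_of_deg_one (H6.irr_isCharacter hψ) e (hA x.2)))

theorem over_fx {A : Subgroup P} [hN : A.Normal] {ν : A →* ℂˣ} {ψ : P → ℂ}
    (hψ : IsIrrCharacter P ψ) (h : H87.Over A ψ (fun x => (ν x : ℂ))) {c : J}
    (hA : ∀ x ∈ A, φ c x ∈ A) (hc : c ∈ stab φ ψ) :
    ∃ g : P, ∀ x y : A, (y : P) = φ c x → ν y = ν ⟨g * x * g⁻¹, hN.conj_mem _ x.2 g⟩ := by
  let r : A →* A := ((φ c).toMonoidHom.comp A.subtype).codRestrict A fun x => hA x x.2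
  have hr : Function.Bijective r := Finite.injective_iff_bijective.1 fun a b e =>
    Subtype.ext ((φ c).injective (congrArg Subtype.val e))
  have h' : H87.Over A ψ (fun x => ((ν.comp r) x : ℂ)) := by
    unfold H87.Over at h ⊢
    rw [← finsum_comp r hr] at h
    convert h using 4 with x x
    · exact (hc x).symm
    · rfl
  obtain ⟨g, hg⟩ := h.exists_conj h' hψ (H6.isIrrCharacter_hom ν) (H6.isIrrCharacter_hom (ν.comp r))
  refine ⟨g, fun x y e => Units.ext ?_⟩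
  have := congrFun hg x
  rw [H7.conjChar_apply] at this
  rw [← this, show y = r x from Subtype.ext e]
  rfl

theorem over_res {A B : Subgroup P} (hBA : B ≤ A) {ν : A →* ℂˣ} {μ : B →* ℂˣ}
    (e : ∀ x : B, ν ⟨x, hBA x.2⟩ = μ x) {ψ : P → ℂ} (hψ : IsIrrCharacter P ψ)
    (h : H87.Over A ψ (fun x => (ν x : ℂ))) : H87.Over B ψ (fun x => (μ x : ℂ)) :=
  h.trans hBA (H87.finsum_ne_zero_of_eq_mul (H6.isIrrCharacter_hom μ) one_ne_zero fun x => by
    rw [e, one_mul]) (H6.irr_isCharacter hψ) (H6.isIrrCharacter_hom ν) (H6.isCharacter_hom μ)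

end H84.NDA
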