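import Mathlib
import Cfsg.Agent.Lib.NDA.Defs

/-! Project NDA, package BAS. -/

set_option autoImplicit false
open Cfsg Subgroup
open scoped commutatorElement

namespace H84.NDA

variable {J P : Type*} [Group J] [Finite J] [Group P] [Finite P] {φ : J →* MulAut P} {p : ℕ}

theorem bas_comm_le {A B : Subgroup P} (hc : ⁅A, A⁆ ≤ B) : commutator A ≤ B.subgroupOf A :=
  commutator_le.2 fun a _ b _ => hc (commutator_mem_commutator a.2 b.2)

theorem exists_tr_ne {A B : Subgroup P} (hc : ⁅A, A⁆ ≤ B) {x : P} (hx : x ∈ A) (hn : x ∉ B) :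
    ∃ μ : A →* ℂˣ, Tr μ B ∧ μ ⟨x, hx⟩ ≠ 1 := by
  obtain ⟨l, h1, h2⟩ := H87.exists_hom_trivial_ne_one (B.subgroupOf A) (bas_comm_le hc) (g := ⟨x, hx⟩) hn
  exact ⟨l, h1, h2⟩

theorem exists_ext {A B : Subgroup P} (hBA : B ≤ A) (μ : B →* ℂˣ)
    (hc : ∀ x ∈ A, ∀ y ∈ A, ⁅x, y⁆ ∈ B ∧ Tv μ ⁅x, y⁆) :
    ∃ ν : A →* ℂˣ, ∀ x : B, ν ⟨x, hBA x.2⟩ = μ x := by
  let f : B →* Abelianization A := Abelianization.of.comp (inclusion hBA)
  have k : commutator A ≤ (μ.ker.map B.subtype).subgroupOf A :=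
    commutator_le.2 fun a _ b _ => ⟨⟨_, (hc a a.2 b b.2).1⟩, (hc a a.2 b b.2).2 _, rfl⟩
  have hk : f.rangeRestrict.ker ≤ μ.ker := fun x hx => by
    rw [MonoidHom.ker_rangeRestrict, MonoidHom.mem_ker] at hx
    obtain ⟨y, hy, e⟩ := k ((QuotientGroup.eq_one_iff _).1 hx)
    rwa [← show y = x from Subtype.ext e]
  obtain ⟨ν, hν⟩ := MonoidHom.domRestrict_surjective ℂ f.range
    (f.rangeRestrict.liftOfSurjective f.rangeRestrict_surjective ⟨μ, hk⟩)
  refine ⟨ν.comp Abelianization.of, fun x => ?_⟩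
  have := DFunLike.congr_fun hν (f.rangeRestrict x)
  rw [MonoidHom.liftOfSurjective, MonoidHom.liftOfRightInverse_comp_apply] at this
  exact this

theorem fp_surj {A B : Subgroup P} {c : J} (hBA : B ≤ A) (hc : ⁅A, A⁆ ≤ B)
    (hA : ∀ x ∈ A, φ c x ∈ A) (hB : ∀ x ∈ B, φ c x ∈ B) (h : Fp φ c A B) {y : P} (hy : y ∈ A) :
    ∃ x ∈ A, y⁻¹ * (x⁻¹ * φ c x) ∈ B := by
  have hN := bas_comm_le hc
  haveI : (B.subgroupOf A).Normal := Normal.of_commutator_le _ hN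
  letI : CommGroup (A ⧸ B.subgroupOf A) :=
    { (inferInstance : Group (A ⧸ B.subgroupOf A)) with
      mul_comm := (Normal.quotient_commutative_iff_commutator_le.2 hN).is_comm.comm }
  let cA : A →* A := ((φ c).toMonoidHom.comp A.subtype).codRestrict A fun x => hA x x.2
  let δ : A →* A ⧸ B.subgroupOf A :=
    (QuotientGroup.mk' (B.subgroupOf A))⁻¹ * (QuotientGroup.mk' (B.subgroupOf A)).comp cA
  have hδ : ∀ x : A, δ x = QuotientGroup.mk (x⁻¹ * cA x) := fun x => rfl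
  let δ' := QuotientGroup.lift (B.subgroupOf A) δ fun x hx => by
    rw [MonoidHom.mem_ker, hδ, QuotientGroup.eq_one_iff]
    exact mul_mem (inv_mem hx) (hB x hx)
  have inj : Function.Injective δ' := (injective_iff_map_eq_one _).2 fun q e => by
    obtain ⟨x, rfl⟩ := QuotientGroup.mk_surjective q
    rw [QuotientGroup.lift_mk, hδ, QuotientGroup.eq_one_iff] at e
    exact (QuotientGroup.eq_one_iff _).2 (h x x.2 e)
  obtain ⟨q, e⟩ := Finite.surjective_of_injective inj (QuotientGroup.mk ⟨y, hy⟩)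
  obtain ⟨x, rfl⟩ := QuotientGroup.mk_surjective q
  rw [QuotientGroup.lift_mk, hδ, eq_comm, QuotientGroup.eq] at e
  exact ⟨x, x.2, e⟩

theorem fp_hom_eq_one {A B : Subgroup P} {c : J} (hBA : B ≤ A) (hc : ⁅A, A⁆ ≤ B)
    (hA : ∀ x ∈ A, φ c x ∈ A) (hB : ∀ x ∈ B, φ c x ∈ B) (h : Fp φ c A B) {μ : A →* ℂˣ}
    (ht : Tr μ B) (hf : Fx φ c μ) : μ = 1 := by
  refine MonoidHom.ext fun y => ?_
  obtain ⟨x, hx, e⟩ := fp_surj hBA hc hA hB h y.2
  have e1 := ht (y⁻¹ * ((⟨x, hx⟩ : A)⁻¹ * ⟨_, hA x hx⟩)) e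
  rw [map_mul, map_mul, map_inv, map_inv, hf ⟨x, hx⟩ ⟨_, hA x hx⟩ rfl, inv_mul_cancel, mul_one,
    inv_eq_one] at e1
  exact e1

theorem ga_eq_bot [Group.IsNilpotent P] {i : ℕ} (h : ga P i ≤ ga P (i + 1)) : ga P i = ⊥ := by
  obtain ⟨n, hn⟩ := Subgroup.nilpotent_iff_lowerCentralSeries.1 (inferInstance : Group.IsNilpotent P)
  have : ∀ k, ga P i ≤ ga P (i + k) := fun k => by
    induction k with
    | zero => exact le_rfl
    | succ k ih => exact h.trans (commutator_mono ih le_rfl)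
  exact le_bot_iff.1 ((this n).trans ((ga_anti (Nat.le_add_left n i)).trans hn.le))

theorem exists_layer [Group.IsNilpotent P] {j : ℕ} {x : P} (hx : x ∈ ga P j) (h1 : x ≠ 1) :
    ∃ i, x ∈ ga P (j + i) ∧ x ∉ ga P (j + i + 1) := by
  obtain ⟨n, hn⟩ := Subgroup.nilpotent_iff_lowerCentralSeries.1 (inferInstance : Group.IsNilpotent P)
  by_contra c
  simp only [not_exists, not_and, not_not] at c
  have : ∀ k, x ∈ ga P (j + k) := fun k => by
    induction k with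
    | zero => exact hx
    | succ k ih => exact c k ih
  exact h1 (mem_bot.1 (hn.le (ga_anti (Nat.le_add_left n j) (this n))))

theorem normal_of_between {i : ℕ} {T : Subgroup P} (h1 : ga P (i + 1) ≤ T) (h2 : T ≤ ga P i) :
    T.Normal :=
  ⟨fun t ht g => by
    have := mul_mem (h1 (comm_ga_right g (h2 ht))) ht
    rwa [commutatorElement_def, inv_mul_cancel_right] at this⟩

/-- the subgroup of `J` fixing `μ` (and mapping `A` to itself). -/
theorem exists_fxSub {A : Subgroup P} (hA : Iv φ ⊤ A) (μ : A →* ℂˣ) :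
    ∃ S : Subgroup J, ∀ c, c ∈ S ↔ Fx φ c μ :=
  ⟨{ carrier := {c | Fx φ c μ}
     one_mem' := fun x y e => congrArg μ (Subtype.ext (by rw [e, map_one]; rfl))
     mul_mem' := fun {a b} ha hb x y e =>
       (ha ⟨_, hA b trivial x x.2⟩ y (by rw [e, map_mul]; rfl)).trans (hb x _ rfl)
     inv_mem' := fun {a} ha x y e => (ha y x (by
       rw [e, ← MulAut.mul_apply, ← map_mul, mul_inv_cancel, map_one]; rfl)).symm }, fun _ => Iff.rfl⟩

theorem PJ.coprime (h : PJ p φ) : (Nat.card J).Coprime (Nat.card P) := by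
  haveI := Fact.mk h.prime
  obtain ⟨n, hn⟩ := IsPGroup.iff_card.1 h.pg
  rw [hn]
  exact ((h.prime.coprime_iff_not_dvd.2 h.cop).symm).pow_right n

theorem PJ.nil (h : PJ p φ) : Group.IsNilpotent P :=
  haveI := Fact.mk h.prime
  h.pg.isNilpotent

theorem dg_ne_one {ψ : P → ℂ} (h : charDegree ψ ≠ 1) : dg φ ψ ≠ 1 :=
  fun e => h (Nat.eq_one_of_mul_eq_one_left e)

theorem PJ.dg_eq (h : PJ p φ) {ψ η : P → ℂ} (hψ : IsIrrCharacter P ψ) (hη : IsIrrCharacter P η)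
    (e : dg φ ψ = dg φ η) :
    (stab φ ψ).index = (stab φ η).index ∧ charDegree ψ = charDegree η := by
  haveI := Fact.mk h.prime
  obtain ⟨a, ha⟩ := H87.deg_pow_of_isPGroup h.pg hψ
  obtain ⟨b, hb⟩ := H87.deg_pow_of_isPGroup h.pg hη
  have c : ∀ (S : Subgroup J) (k : ℕ), (p ^ k).Coprime S.index := fun S k =>
    ((h.prime.coprime_iff_not_dvd.2 h.cop).coprime_dvd_right S.index_dvd_card).pow_left k
  rw [dg, dg, ha, hb] at e
  have e2 : p ^ a = p ^ b := Nat.dvd_antisymm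
    ((c _ a).dvd_of_dvd_mul_left (e ▸ dvd_mul_left _ _)) ((c _ b).dvd_of_dvd_mul_left (e.symm ▸ dvd_mul_left _ _))
  rw [e2] at e
  exact ⟨Nat.eq_of_mul_eq_mul_right (pow_pos h.prime.pos b) e, by rw [ha, hb, e2]⟩

theorem PJ.eq_of_le (h : PJ p φ) {ψ η : P → ℂ} (hψ : IsIrrCharacter P ψ) (hη : IsIrrCharacter P η)
    (h1 : charDegree ψ ≠ 1) (hs : stab φ η ≤ stab φ ψ) (hd : charDegree ψ ≤ charDegree η) :
    stab φ η = stab φ ψ ∧ charDegree ψ = charDegree η := by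
  haveI := Fact.mk h.prime
  obtain ⟨a, ha⟩ := H87.deg_pow_of_isPGroup h.pg hψ
  obtain ⟨b, hb⟩ := H87.deg_pow_of_isPGroup h.pg hη
  have d : charDegree ψ ∣ charDegree η := by
    rw [ha, hb] at hd ⊢
    exact pow_dvd_pow p ((Nat.pow_le_pow_iff_right h.prime.one_lt).1 hd)
  obtain ⟨e1, e2⟩ := h.dg_eq hψ hη (h.nd ψ η hψ hη (dg_ne_one h1) (mul_dvd_mul (index_dvd_of_le hs) d))
  refine ⟨eq_of_le_of_card_ge hs (le_of_eq ?_), e2⟩
  refine Nat.eq_of_mul_eq_mul_right (Nat.pos_of_ne_zero (index_ne_zero_of_finite (H := stab φ ψ))) ?_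
  rw [card_mul_index, e1, card_mul_index]

end H84.NDA
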