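import Mathlib
import Cfsg.Agent.Lib.NDA.BAS

/-! Project NDA, package IE. -/

set_option autoImplicit false
open Cfsg Subgroup
open scoped commutatorElement

namespace H84.NDA

variable {J P : Type*} [Group J] [Finite J] [Group P] [Finite P] {φ : J →* MulAut P} {p : ℕ}

theorem ie (hcop : (Nat.card J).Coprime (Nat.card P)) {S : Subgroup J} {A : Subgroup P}
    (hA : Iv φ S A) (ν : A →* ℂˣ) : ∃ θ : A →* ℂˣ, (∀ c ∈ S, Fx φ c θ) ∧
      ∀ x : A, (∀ c ∈ S, ∀ y : A, (y : P) = φ c x → ν y = ν x) → θ x = ν x := by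
  classical
  have := Fintype.ofFinite S
  let r : S → A →* A := fun c =>
    ((φ c).toMonoidHom.comp A.subtype).codRestrict A fun x => hA c c.2 x x.2
  have hr : ∀ (c : S) (x : A), (r c x : P) = φ c x := fun _ _ => rfl
  let N : A →* ℂˣ := ∏ c : S, ν.comp (r c)
  have hN : ∀ x, N x = ∏ c : S, ν (r c x) := fun x => MonoidHom.finsetProd_apply _ _ _
  have cop : (Fintype.card S).Coprime (Nat.card P) := by
    rw [← Nat.card_eq_fintype_card]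
    exact Nat.Coprime.coprime_dvd_left (card_subgroup_dvd_card S) hcop
  obtain ⟨m, hm⟩ := Nat.exists_mul_mod_eq_of_coprime 1 cop Nat.card_pos.ne'
  refine ⟨N ^ m, fun c hc x y e => ?_, fun x hx => ?_⟩
  · rw [MonoidHom.pow_apply, MonoidHom.pow_apply, hN, hN]
    congr 1
    refine Fintype.prod_equiv (Equiv.mulRight (⟨c, hc⟩ : S)) _ _ fun d => congrArg ν (Subtype.ext ?_)
    rw [hr, hr, e, ← MulAut.mul_apply, ← map_mul]
    rfl
  · rw [MonoidHom.pow_apply, hN, Finset.prod_congr rfl fun (c : S) _ => hx c c.2 (r c x) (hr c x),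
      Finset.prod_const, Finset.card_univ, ← pow_mul]
    have h1 : ν x ^ Nat.card P = 1 := by
      rw [← map_pow, show x ^ Nat.card P = 1 from Subtype.ext (by simp), map_one]
    rw [pow_eq_pow_mod _ h1, hm.2, ← pow_eq_pow_mod _ h1, pow_one]

theorem av (hcop : (Nat.card J).Coprime (Nat.card P)) {S : Subgroup J} {A B : Subgroup P}
    (hA : Iv φ S A) (hB : Iv φ S B) (hc : ⁅A, A⁆ ≤ B) {x : P} (hx : x ∈ A) (hn : x ∉ B)
    (hf : ∀ c ∈ S, x⁻¹ * φ c x ∈ B) :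
    ∃ μ : A →* ℂˣ, Tr μ B ∧ (∀ c ∈ S, Fx φ c μ) ∧ μ ⟨x, hx⟩ ≠ 1 := by
  obtain ⟨ν, ht, hν⟩ := exists_tr_ne hc hx hn
  obtain ⟨θ, h1, h2⟩ := ie hcop hA ν
  refine ⟨θ, fun z hz => ?_, h1, ?_⟩
  · rw [h2 z fun c hc y e => by rw [ht z hz, ht y (e ▸ hB c hc z hz)], ht z hz]
  · rw [h2 ⟨x, hx⟩ fun c hc y e => ?_]
    · exact hν
    · have := ht ((⟨x, hx⟩ : A)⁻¹ * y) (by simpa [e] using hf c hc)
      rw [map_mul, map_inv, inv_mul_eq_one] at this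
      exact this.symm

omit [Finite P] in
theorem ie_zp {c : J} {A : Subgroup P} (hA : ∀ x ∈ A, φ c x ∈ A) : Iv φ (zpowers c) A := fun d hd => by
  obtain ⟨n, rfl⟩ := (mem_powers_iff_mem_zpowers.2 hd)
  induction n with
  | zero => intro x hx; simpa using hx
  | succ n ih =>
    intro x hx
    have := hA _ (ih (pow_mem (mem_zpowers c) n) x hx)
    simpa only [pow_succ', map_mul, MulAut.mul_apply] using this

theorem av_one (hcop : (Nat.card J).Coprime (Nat.card P)) {c : J} {A B : Subgroup P}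
    (hA : ∀ x ∈ A, φ c x ∈ A) (hB : ∀ x ∈ B, φ c x ∈ B) (hc : ⁅A, A⁆ ≤ B) {x : P} (hx : x ∈ A)
    (hn : x ∉ B) (hf : x⁻¹ * φ c x ∈ B) :
    ∃ μ : A →* ℂˣ, Tr μ B ∧ Fx φ c μ ∧ μ ⟨x, hx⟩ ≠ 1 := by
  obtain ⟨μ, h1, h2, h3⟩ := av hcop (ie_zp hA) (ie_zp hB) hc hx hn fun d hd => by
    obtain ⟨n, rfl⟩ := (mem_powers_iff_mem_zpowers.2 hd)
    clear hd
    induction n with
    | zero => simp
    | succ n ih =>
      have := mul_mem hf (hB _ ih)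
      simpa only [pow_succ', map_mul, map_inv, MulAut.mul_apply, mul_assoc, mul_inv_cancel_left] using this
  exact ⟨μ, h1, h2 c (mem_zpowers c), h3⟩

theorem fp_of_forall (hcop : (Nat.card J).Coprime (Nat.card P)) {c : J} {A B : Subgroup P}
    (hA : ∀ x ∈ A, φ c x ∈ A) (hB : ∀ x ∈ B, φ c x ∈ B) (hc : ⁅A, A⁆ ≤ B)
    (h : ∀ μ : A →* ℂˣ, Tr μ B → Fx φ c μ → μ = 1) : Fp φ c A B := fun x hx hf => by
  by_contra hn
  obtain ⟨μ, h1, h2, h3⟩ := av_one hcop hA hB hc hx hn hf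
  exact h3 (by rw [h μ h1 h2]; rfl)

theorem ie_ext (hcop : (Nat.card J).Coprime (Nat.card P)) {S : Subgroup J} {A B : Subgroup P}
    (hA : Iv φ S A) (hB : Iv φ S B) (hBA : B ≤ A) (μ : B →* ℂˣ) (hμ : ∀ c ∈ S, Fx φ c μ)
    (hc : ∀ x ∈ A, ∀ y ∈ A, ⁅x, y⁆ ∈ B ∧ Tv μ ⁅x, y⁆) :
    ∃ θ : A →* ℂˣ, (∀ c ∈ S, Fx φ c θ) ∧ ∀ x : B, θ ⟨x, hBA x.2⟩ = μ x := by
  obtain ⟨ν, hν⟩ := exists_ext hBA μ hc
  obtain ⟨θ, h1, h2⟩ := ie hcop hA ν
  refine ⟨θ, h1, fun x => ?_⟩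
  rw [h2 ⟨x, hBA x.2⟩ fun c hc y e => ?_, hν]
  have hy : (y : P) ∈ B := e ▸ hB c hc x x.2
  rw [hν, ← hμ c hc x ⟨y, hy⟩ e, ← hν ⟨y, hy⟩]

end H84.NDA
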