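import Mathlib
import Cfsg.Agent.Lib.NDA.IE
import Cfsg.Agent.Lib.NDA.GL

/-! Project NDA, package A1. -/

set_option autoImplicit false
open Cfsg Subgroup
open scoped commutatorElement

namespace H84.NDA

variable {J P : Type*} [Group J] [Finite J] [Group P] [Finite P] {φ : J →* MulAut P} {p : ℕ}

omit [Finite J] [Finite P] in
theorem a1_map_le {c : J} {A B : Subgroup P} (h : ∀ x ∈ A, φ c x ∈ B) :
    A ≤ B.comap (φ c).toMonoidHom := fun x hx => h x hx

theorem iv_k0 (S : Subgroup J) : Iv φ S (k0 φ) := by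
  intro c _ x hx
  have : k0 φ ≤ (k0 φ).comap (φ c).toMonoidHom := by
    refine sup_le (a1_map_le fun y hy => ?_) (a1_map_le fun y hy => ?_)
    · rw [H2.mem_fixSub_top.1 hy c]; exact mem_sup_left hy
    · exact mem_sup_right (ga_inv φ c 1 hy)
  exact this hx

theorem iv_cm (S : Subgroup J) : Iv φ S (cm φ) := by
  intro c _ x hx
  have : cm φ ≤ (cm φ).comap (φ c).toMonoidHom := by
    refine H2.actComm_le.2 fun d _ y _ => ?_
    have e : φ c (y⁻¹ * φ d y) = (φ c y)⁻¹ * φ (c * d * c⁻¹) (φ c y) := by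
      rw [map_mul, map_inv, ← MulAut.mul_apply _ (φ (c * d * c⁻¹)), ← map_mul φ,
        inv_mul_cancel_right, map_mul φ, MulAut.mul_apply]
    show φ c (y⁻¹ * φ d y) ∈ cm φ
    rw [e]
    exact H2.mem_actComm (mem_top _) (mem_top _)
  exact this hx

omit [Finite J] [Finite P] in
theorem a1_dg_hom (lam : P →* ℂˣ) :
    dg φ (fun x => (lam x : ℂ)) = (stab φ (fun x => (lam x : ℂ))).index := by
  rw [dg, H87.deg_hom, mul_one]

theorem PJ.stab_lin (h : PJ p φ) (lam : P →* ℂˣ) :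
    stab φ (fun x => (lam x : ℂ)) = ⊤ ∨ stab φ (fun x => (lam x : ℂ)) = φ.ker := by
  obtain ⟨l0, h0⟩ := h.lin
  by_cases h1 : stab φ (fun x => (lam x : ℂ)) = ⊤
  · exact Or.inl h1
  · right
    have hle := ker_le_stab φ (fun x => (lam x : ℂ))
    have := h.nd _ _ (H6.isIrrCharacter_hom lam) (H6.isIrrCharacter_hom l0)
      (by rw [a1_dg_hom]; exact fun e => h1 (index_eq_one.1 e))
      (by rw [a1_dg_hom, a1_dg_hom, h0]; exact index_dvd_of_le hle)
    rw [a1_dg_hom, a1_dg_hom, h0] at this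
    refine (eq_of_le_of_card_ge hle ?_).symm
    have e1 := (stab φ (fun x => (lam x : ℂ))).card_mul_index
    have e2 := φ.ker.card_mul_index
    rw [this, ← e2] at e1
    exact (Nat.eq_of_mul_eq_mul_right (Nat.pos_of_ne_zero index_ne_zero_of_finite) e1).le

theorem PJ.dg_one (h : PJ p φ) {ψ : P → ℂ} (hψ : IsIrrCharacter P ψ) (h1 : charDegree ψ = 1) :
    dg φ ψ = 1 ∨ dg φ ψ = φ.ker.index := by
  have hc := H6.irr_isCharacter hψ
  obtain ⟨lam, rfl⟩ := H6.exists_hom_of_char_one_eq_one hc ((H87.deg_eq_one_iff hc).1 h1)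
  rw [a1_dg_hom]
  rcases h.stab_lin lam with e | e
  · left; rw [e, index_top]
  · right; rw [e]

theorem PJ.exists_outer (h : PJ p φ) {ψ : P → ℂ} (hψ : IsIrrCharacter P ψ)
    (h1 : charDegree ψ ≠ 1) : ∃ c ∈ stab φ ψ, c ∉ φ.ker := by
  by_contra hn
  push Not at hn
  obtain ⟨l0, h0⟩ := h.lin
  haveI := Fact.mk h.prime
  have := h.nd _ _ (H6.isIrrCharacter_hom l0) hψ
    (by rw [a1_dg_hom, h0]; exact fun e => h.ne (index_eq_one.1 e))
    (by rw [a1_dg_hom, h0, dg]; exact (index_dvd_of_le hn).mul_right _)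
  rw [a1_dg_hom, h0, dg] at this
  obtain ⟨k, hk⟩ := H87.deg_pow_of_isPGroup h.pg hψ
  have hk0 : k ≠ 0 := fun e => h1 (by rw [hk, e, pow_zero])
  refine h.cop (Dvd.dvd.trans ?_ φ.ker.index_dvd_card)
  rw [this, hk]
  exact (dvd_pow_self p hk0).mul_left _

theorem PJ.a1_dec (h : PJ p φ) : cm φ ⊔ fx φ = ⊤ := by
  haveI := h.nil
  have := H2.ext_actComm_sup_fixSub (φ := φ) (K := ⊤) (B := ⊤) (fun _ _ _ _ => mem_top _)
    (by rw [card_top, card_top]; exact h.coprime) (Or.inr inferInstance)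
  rwa [top_inf_eq] at this

theorem PJ.fp_k0 (h : PJ p φ) {c : J} (hc : c ∉ φ.ker) : Fp φ c ⊤ (k0 φ) := by
  intro x hx hf
  by_contra hn
  obtain ⟨μ, ht, hμ, h1⟩ := av_one h.coprime (A := ⊤) (B := k0 φ) (fun _ _ => mem_top _)
    (iv_k0 ⊤ c (mem_top _)) (le_sup_right (a := fx φ) (b := commutator P)) hx hn hf
  let lam : P →* ℂˣ := μ.comp (topEquiv (G := P)).symm.toMonoidHom
  have hl : ∀ y, lam y = μ ⟨y, mem_top y⟩ := fun _ => rfl
  have hs : c ∈ stab φ (fun y => (lam y : ℂ)) := fun y => by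
    simp only [hl]
    rw [hμ ⟨y, mem_top y⟩ ⟨φ c y, mem_top _⟩ rfl]
  have hs' : stab φ (fun y => (lam y : ℂ)) = ⊤ :=
    (h.stab_lin lam).resolve_right fun e => hc (e ▸ hs)
  have hk : cm φ ⊔ fx φ ≤ lam.ker := by
    refine sup_le (H2.actComm_le.2 fun d _ y _ => ?_) fun y hy => ?_
    · have e : d ∈ stab φ (fun y => (lam y : ℂ)) := hs' ▸ mem_top d
      have e' : lam (φ d y) = lam y := Units.ext (e y)
      rw [MonoidHom.mem_ker, map_mul, map_inv, e', inv_mul_cancel]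
    · exact ht ⟨y, mem_top y⟩ (mem_sup_left hy)
  rw [h.a1_dec] at hk
  exact h1 (hk (mem_top x))

theorem PJ.k0_ne_top (h : PJ p φ) : k0 φ ≠ ⊤ := by
  intro e
  obtain ⟨l0, h0⟩ := h.lin
  refine h.ne (h0 ▸ eq_top_iff.2 fun c _ x => ?_)
  have hk : k0 φ ≤ (l0.comp (φ c).toMonoidHom).eqLocus l0 := by
    refine sup_le (fun y hy => ?_) fun y hy => ?_
    · show l0 (φ c y) = l0 y
      rw [H2.mem_fixSub_top.1 hy c]
    · show l0 (φ c y) = l0 y
      have e1 : l0 y = 1 := Abelianization.commutator_subset_ker l0 hy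
      have e2 : l0 (φ c y) = 1 := Abelianization.commutator_subset_ker l0 (ga_inv φ c 1 hy)
      rw [e1, e2]
  rw [e] at hk
  have : l0 (φ c x) = l0 x := hk (mem_top x)
  simp only [this]

theorem PJ.lay_outer (h : PJ p φ) {i : ℕ} {μ : ga P (i + 1) →* ℂˣ} (ht : Tr μ (ga P (i + 2)))
    (h1 : μ ≠ 1) : ∃ c, c ∉ φ.ker ∧ Fx φ c μ := by
  obtain ⟨ψ, hψ, ho⟩ := exists_ov' μ (tv_ga ht)
  obtain ⟨c, hc, hn⟩ := h.exists_outer hψ
    (ho.deg_ne_one hψ (ga_anti (i := 1) (by omega)) h1)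
  exact ⟨c, hn, ho.fx hψ hc⟩

end H84.NDA
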