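import Mathlib
import Cfsg.Agent.Lib.NDA.BAS

/-! Project NDA, package TS. -/

set_option autoImplicit false
open Cfsg Subgroup
open scoped commutatorElement

namespace H84.NDA

variable {J P : Type*} [Group J] [Finite J] [Group P] [Finite P] {φ : J →* MulAut P} {p : ℕ}

/-- restriction of `φ c` to an invariant subgroup. -/
def ts_res (φ : J →* MulAut P) (c : J) {A : Subgroup P} (hA : ∀ x ∈ A, φ c x ∈ A) : A →* A :=
  ((φ c).toMonoidHom.comp A.subtype).codRestrict A fun x => hA x x.2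

theorem ts_key {A B : Subgroup P} (hBA : B ≤ A) (hc : ⁅A, A⁆ ≤ B) {d : J}
    (hA : ∀ x ∈ A, φ d x ∈ A) (hB : ∀ x ∈ B, φ d x ∈ B) (hd : Fp φ d A B) (V : Set A)
    (hV : ∀ x ∈ V, ts_res φ d hA x ∈ V) {μ : A →* ℂˣ} (ht : Tr μ B)
    (hf : ∀ x ∈ V, μ (ts_res φ d hA x) = μ x) : ∀ x ∈ V, μ x = 1 := by
  set W : Subgroup P := closure ((Subtype.val '' V) ∪ (B : Set P)) with hW
  have WA : W ≤ A := (closure_le _).2 (by
    rintro _ (⟨x, -, rfl⟩ | hx)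
    exacts [x.2, hBA hx])
  have BW : B ≤ W := fun x hx => subset_closure (Or.inr hx)
  have iW : W ≤ W.comap (φ d).toMonoidHom := (closure_le _).2 (by
    rintro _ (⟨x, hx, rfl⟩ | hx)
    exacts [subset_closure (Or.inl ⟨_, hV x hx, rfl⟩), BW (hB _ hx)])
  have fW : W ≤ ((μ.comp (ts_res φ d hA)).eqLocus μ).map A.subtype := (closure_le _).2 (by
    rintro _ (⟨x, hx, rfl⟩ | hx)
    · exact ⟨x, hf x hx, rfl⟩
    · exact ⟨⟨_, hBA hx⟩, (ht (ts_res φ d hA ⟨_, hBA hx⟩) (hB _ hx)).trans (ht _ hx).symm, rfl⟩)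
  have k : μ.comp (inclusion WA) = 1 := fp_hom_eq_one (φ := φ) (c := d) BW
    ((commutator_mono WA WA).trans hc) (fun x hx => iW hx) hB (fun x hx => hd x (WA hx))
    (fun x hx => ht _ hx) fun x y e => by
      obtain ⟨z, hz, e'⟩ := fW x.2
      have e1 : inclusion WA x = z := Subtype.ext e'.symm
      have e2 : inclusion WA y = ts_res φ d hA z := Subtype.ext (e.trans (congrArg (φ d) e'.symm))
      rw [MonoidHom.comp_apply, MonoidHom.comp_apply, e1, e2]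
      exact hz
  exact fun x hx => DFunLike.congr_fun k ⟨x, subset_closure (Or.inl ⟨x, hx, rfl⟩)⟩

theorem ts {S : Subgroup J} {A B : Subgroup P} (hBA : B ≤ A) (hc : ⁅A, A⁆ ≤ B) (hA : Iv φ S A)
    (hB : Iv φ S B)
    (hS : ∀ c ∈ S, ∀ d ∈ S, ∃ a ∈ A, ∀ z ∈ A, φ c (φ d z) = a * φ d (φ c z) * a⁻¹)
    (θ : A → ℂ) (hθ : ∀ a x : A, θ (a * x * a⁻¹) = θ x)
    (h : ∀ ρ : A →* ℂˣ, Tr ρ B → ∃ c ∈ S, Fp φ c A B ∧
      ∀ x y : A, (y : P) = φ c x → θ y * (ρ y : ℂ) = θ x * (ρ x : ℂ))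
    (x : A) (hx : (x : P) ∉ B) : θ x = 0 := by
  by_contra h0
  obtain ⟨ν, hν, hx1⟩ := exists_tr_ne hc x.2 hx
  obtain ⟨c, hcS, fc, ec⟩ := h 1 fun _ _ => rfl
  obtain ⟨d, hdS, fd, ed⟩ := h ν hν
  obtain ⟨a, ha, e⟩ := hS c hcS d hdS
  set rc := ts_res φ c (hA c hcS)
  set rd := ts_res φ d (hA d hdS)
  have ec' : ∀ z, θ (rc z) = θ z := fun z => by simpa using ec z (rc z) rfl
  have ed' : ∀ z, θ (rd z) * (ν (rd z) : ℂ) = θ z * (ν z : ℂ) := fun z => ed z (rd z) rfl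
  have e1 : ∀ z, θ (rd z) * (ν (rc (rd z)) : ℂ) = θ z * (ν (rc z) : ℂ) := fun z => by
    have k : rc (rd z) = ⟨a, ha⟩ * rd (rc z) * ⟨a, ha⟩⁻¹ := Subtype.ext (e z z.2)
    have k2 : ν (rc (rd z)) = ν (rd (rc z)) := by
      rw [k, map_mul, map_mul, map_inv, mul_inv_cancel_comm]
    rw [← ec' (rd z), k2, k, hθ, ed', ec']
  have vd : ∀ z, θ z ≠ 0 → θ (rd z) ≠ 0 := fun z hz e0 => by
    have := ed' z
    rw [e0, zero_mul] at this
    exact mul_ne_zero hz (ν z).ne_zero this.symm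
  have k1 := ts_key hBA hc (hA d hdS) (hB d hdS) fd {z | θ z ≠ 0} vd (μ := ν.comp rc / ν)
    (fun z hz => by
      rw [MonoidHom.div_apply, MonoidHom.comp_apply, hν z hz, hν (rc z) (hB c hcS _ hz), div_one])
    fun z hz => by
      change ν (rc (rd z)) / ν (rd z) = ν (rc z) / ν z
      rw [div_eq_div_iff_mul_eq_mul, ← Units.val_inj, Units.val_mul, Units.val_mul]
      refine mul_left_cancel₀ (vd z hz) ?_
      linear_combination (ν z : ℂ) * e1 z - (ν (rc z) : ℂ) * ed' z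
  exact hx1 (ts_key hBA hc (hA c hcS) (hB c hcS) fc {z | θ z ≠ 0}
    (fun z (hz : θ z ≠ 0) => (ec' z).trans_ne hz) hν (fun z hz => div_eq_one.1 (k1 z hz)) x h0)

theorem ts_lin (hJ : ∀ a b : J, a * b = b * a) {S : Subgroup J} {A B : Subgroup P} (hBA : B ≤ A)
    (hc : ⁅A, A⁆ ≤ B) (hA : Iv φ S A) (hB : Iv φ S B) (ν₀ : A →* ℂˣ)
    (h : ∀ ν : A →* ℂˣ, (∀ x : A, (x : P) ∈ B → ν x = ν₀ x) → ∃ c ∈ S, Fp φ c A B ∧ Fx φ c ν) :
    A ≤ B := by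
  intro x hx
  by_contra hn
  refine (ν₀ ⟨x, hx⟩).ne_zero (ts hBA hc hA hB (fun c _ d _ => ⟨1, one_mem _, fun z _ => ?_⟩)
    (fun z => (ν₀ z : ℂ)) (fun a z => ?_) (fun ρ hρ => ?_) ⟨x, hx⟩ hn)
  · rw [one_mul, inv_one, mul_one, ← MulAut.mul_apply, ← MulAut.mul_apply, ← map_mul, ← map_mul, hJ]
  · rw [map_mul, map_mul, map_inv, mul_inv_cancel_comm]
  · obtain ⟨c, hcS, fc, e⟩ := h (ν₀ * ρ) fun z hz => by rw [MonoidHom.mul_apply, hρ z hz, mul_one]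
    exact ⟨c, hcS, fc, fun y z k => by
      rw [← Units.val_mul, ← Units.val_mul]
      exact congrArg Units.val (e y z k)⟩

end H84.NDA
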