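import Mathlib
import Cfsg.Agent.Lib.NDA.A1
import Cfsg.Agent.Lib.NDA.TS

/-! Project NDA, package A3. -/

set_option autoImplicit false
open Cfsg Subgroup
open scoped commutatorElement

namespace H84.NDA

variable {J P : Type*} [Group J] [Finite J] [Group P] [Finite P] {φ : J →* MulAut P} {p : ℕ}

theorem PJ.vanish (h : PJ p φ) {ψ : P → ℂ} (hψ : IsIrrCharacter P ψ) (h1 : charDegree ψ ≠ 1)
    {x : P} (hx : x ∉ k0 φ) : ψ x = 0 := by
  refine ts (φ := φ) (S := ⊤) (A := ⊤) (B := k0 φ) le_top le_sup_right (fun _ _ _ _ => trivial) (iv_k0 ⊤)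
    (fun c _ d _ => ⟨1, trivial, fun z _ => ?_⟩) (fun x => ψ x) (fun a x => H6.irr_isClassFunction hψ _ _)
    (fun ρ _ => ?_) ⟨x, trivial⟩ hx
  · rw [← MulAut.mul_apply, ← MulAut.mul_apply, ← map_mul, ← map_mul, h.comm, one_mul, inv_one, mul_one]
  · let lam : P →* ℂˣ := ρ.comp topEquiv.symm.toMonoidHom
    obtain ⟨c, hc, hk⟩ := h.exists_outer (H6.isIrrCharacter_mul_hom hψ lam) (by rwa [H87.deg_mul_hom])
    refine ⟨c, trivial, h.fp_k0 hk, fun x y e => ?_⟩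
    have := hc x
    rw [← e] at this
    exact this

theorem PJ.conj (h : PJ p φ) {x b : P} (hx : x ∉ k0 φ) (hb : b ∈ commutator P) :
    ∃ g : P, ⁅g, x⁆ = b := by
  have := H64.Palfy.isConj_of_vanish (x := x) (fun χ h1 h2 => h.vanish h1 h2 hx)
    (Normal.conj_mem' inferInstance b hb x)
  obtain ⟨g, hg⟩ := isConj_iff.1 this
  refine ⟨g, ?_⟩
  rw [commutatorElement_def, hg]
  group

theorem cm_normal : (cm φ).Normal := ⟨fun n hn g => by
  have : cm φ ≤ (cm φ).comap (MulAut.conj g).toMonoidHom := H2.actComm_le.2 fun c hc x _ => by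
    have h1 := mul_mem (H2.mem_actComm (φ := φ) hc (mem_top (x * g⁻¹)))
      (inv_mem (H2.mem_actComm (φ := φ) hc (mem_top g⁻¹)))
    change g * (x⁻¹ * φ c x) * g⁻¹ ∈ cm φ
    convert h1 using 1
    rw [map_mul]
    group
  exact this hn⟩

theorem PJ.dec (h : PJ p φ) (g : P) : ∃ m ∈ cm φ, ∃ z ∈ fx φ, g = m * z := by
  have := h.nil
  have := cm_normal (φ := φ)
  have e := H2.ext_actComm_sup_fixSub (φ := φ) (K := ⊤) (B := ⊤) (fun _ _ _ _ => trivial)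
    (H2.coprime_subgroups h.coprime) (Or.inr inferInstance)
  rw [top_inf_eq] at e
  obtain ⟨m, hm, z, hz, k⟩ := mem_sup_of_normal_left.1 (e.symm ▸ mem_top g : g ∈ cm φ ⊔ fx φ)
  exact ⟨m, hm, z, hz, k.symm⟩

theorem PJ.exists_cm (h : PJ p φ) : ∃ x ∈ cm φ, x ∉ k0 φ := by
  by_contra hn
  push Not at hn
  refine h.k0_ne_top (eq_top_iff.2 fun g _ => ?_)
  obtain ⟨m, hm, z, hz, rfl⟩ := h.dec g
  exact mul_mem (hn m hm) (mem_sup_left hz)

theorem PJ.comm_le_cm (h : PJ p φ) : commutator P ≤ cm φ := fun b hb => by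
  obtain ⟨x, hx, hk⟩ := h.exists_cm
  obtain ⟨g, rfl⟩ := h.conj hk hb
  exact mul_mem (cm_normal.conj_mem x hx g) (inv_mem hx)

theorem PJ.cm_fx_le (h : PJ p φ) : cm φ ⊓ fx φ ≤ ⁅cm φ, cm φ⁆ := by
  have e := H2.ext_actComm_inf_fixSub_le (φ := φ) (K := cm φ) (B := ⊤) (iv_cm ⊤)
    (H2.coprime_subgroups h.coprime)
  rwa [H2.ext_actComm_actComm (φ := φ) (K := ⊤) (B := ⊤) (fun _ _ _ _ => trivial)
    (H2.coprime_subgroups h.coprime)] at e

theorem PJ.cm_inf (h : PJ p φ) : cm φ ⊓ k0 φ = commutator P := by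
  refine le_antisymm (fun m hm => ?_) (le_inf h.comm_le_cm le_sup_right)
  obtain ⟨z, hz, b, hb, rfl⟩ := mem_sup_of_normal_right.1 hm.2
  have h1 : z ∈ cm φ := (mul_mem_cancel_right (h.comm_le_cm hb)).1 hm.1
  exact mul_mem (commutator_mono le_top le_top (h.cm_fx_le ⟨h1, hz⟩)) hb

theorem PJ.fp_cm (h : PJ p φ) {c : J} (hc : c ∉ φ.ker) : Fp φ c (cm φ) (commutator P) := fun x hx e =>
  h.cm_inf ▸ ⟨hx, h.fp_k0 hc x trivial (mem_sup_right e)⟩

end H84.NDA
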