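import Mathlib
import Cfsg.Agent.Lib.NDA.Defs

/-! Project NDA, package BRG1. -/

set_option autoImplicit false
open Cfsg Subgroup
open scoped commutatorElement

namespace H84.NDA

universe u
variable {P : Type u} [Group P] [Finite P] {p : ℕ} [Fact p.Prime]

theorem exists_lay {A B : Subgroup P} (hBA : B ≤ A) (hc : ⁅A, A⁆ ≤ B)
    (hp : ∀ x ∈ A, x ^ p ∈ B) : ∃ (L : Type u) (_ : AddCommGroup L) (_ : Module (ZMod p) L)
      (_ : Finite L) (π : P → L), Lay A B π := by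
  classical
  have k : ∀ x y : A, ⁅x, y⁆ ∈ B.subgroupOf A := fun x y =>
    hc (commutator_mem_commutator x.2 y.2)
  haveI : (B.subgroupOf A).Normal := ⟨fun n hn g => by
    have := mul_mem (k g n) hn
    rwa [commutatorElement_def, inv_mul_cancel_right] at this⟩
  letI : CommGroup (A ⧸ B.subgroupOf A) :=
    { (inferInstance : Group (A ⧸ B.subgroupOf A)) with
      mul_comm := fun x y => by
        induction' x using QuotientGroup.induction_on with x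
        induction' y using QuotientGroup.induction_on with y
        rw [← commutatorElement_eq_one_iff_mul_comm]
        exact (QuotientGroup.eq_one_iff ⁅x, y⁆).mpr (k x y) }
  have e : ∀ l : Additive (A ⧸ B.subgroupOf A), p • l = 0 := fun l => by
    induction' l using QuotientGroup.induction_on with x
    exact (QuotientGroup.eq_one_iff (x ^ p)).mpr (hp x x.2)
  refine ⟨Additive (A ⧸ B.subgroupOf A), inferInstance, AddCommGroup.zmodModule e, inferInstance,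
    fun x => if h : x ∈ A then Additive.ofMul (QuotientGroup.mk ⟨x, h⟩) else 0, fun l => ?_,
    fun x hx y hy => ?_, fun x hx => ?_⟩
  · induction' l using QuotientGroup.induction_on with x
    exact ⟨x, x.2, by rw [dif_pos x.2]; rfl⟩
  · simp only [dif_pos hx, dif_pos hy, dif_pos (mul_mem hx hy)]
    rfl
  · simp only [dif_pos hx]
    exact QuotientGroup.eq_one_iff (⟨x, hx⟩ : A)

theorem exists_lay_mu {A : Subgroup P} (μ : A →* ℂˣ) (hp : ∀ x, μ x ^ p = 1) (h1 : μ ≠ 1) :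
    ∃ κ : P → ZMod p, Lay A (μ.ker.map A.subtype) κ := by
  classical
  obtain ⟨a, ha⟩ := DFunLike.ne_iff.mp h1
  have hz : IsPrimitiveRoot (μ a) p :=
    (orderOf_eq_prime (hp a) ha) ▸ IsPrimitiveRoot.orderOf (μ a)
  have m : ∀ x, μ x ∈ zpowers (μ a) := fun x => hz.zpowers_eq ▸ (mem_rootsOfUnity _ _).mpr (hp x)
  refine ⟨fun x => if h : x ∈ A then hz.zmodEquivZPowers.symm (Additive.ofMul ⟨μ ⟨x, h⟩, m _⟩)
    else 0, fun l => ?_, fun x hx y hy => ?_, fun x hx => ?_⟩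
  · obtain ⟨n, hn⟩ := (Additive.toMul (hz.zmodEquivZPowers l)).2
    refine ⟨(a ^ n : A), (a ^ n).2, ?_⟩
    rw [dif_pos (a ^ n).2, AddEquiv.symm_apply_eq]
    exact congrArg Additive.ofMul (Subtype.ext ((map_zpow μ a n).trans hn))
  · simp only [dif_pos hx, dif_pos hy, dif_pos (mul_mem hx hy), ← map_add]
    exact congrArg _ (congrArg Additive.ofMul (Subtype.ext (map_mul μ ⟨x, hx⟩ ⟨y, hy⟩)))
  · simp only [dif_pos hx, EmbeddingLike.map_eq_zero_iff]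
    exact ⟨fun h => ⟨⟨x, hx⟩, congrArg Subtype.val (ofMul_eq_zero.mp h), rfl⟩,
      fun ⟨y, k1, k2⟩ => congrArg Additive.ofMul (Subtype.ext (by subst k2; exact k1))⟩

omit [Finite P] in
theorem brg1_inv {A B : Subgroup P} {L : Type*} [AddCommGroup L] {π : P → L} (l : Lay A B π)
    {x : P} (hx : x ∈ A) : π x⁻¹ = -π x := by
  have := l.add x hx _ (inv_mem hx)
  rw [mul_inv_cancel, (l.ker 1 A.one_mem).mpr B.one_mem] at this
  exact (neg_eq_of_add_eq_zero_right this.symm).symm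

theorem exists_bil {A B A' B' C D : Subgroup P} {L L' N : Type*} [AddCommGroup L]
    [Module (ZMod p) L] [AddCommGroup L'] [Module (ZMod p) L'] [AddCommGroup N]
    [Module (ZMod p) N] {π : P → L} {π' : P → L'} {κ : P → N} (l1 : Lay A B π) (l2 : Lay A' B' π')
    (l3 : Lay C D κ) (hDC : D ≤ C) (h1 : ∀ x ∈ A, ∀ y ∈ A', ⁅x, y⁆ ∈ C)
    (h2 : ∀ x ∈ A, x ∈ B → ∀ y ∈ A', ⁅x, y⁆ ∈ D) (h3 : ∀ x ∈ A, ∀ y ∈ A', y ∈ B' → ⁅x, y⁆ ∈ D)
    (h4 : ∀ g : P, ∀ z ∈ C, ⁅g, z⁆ ∈ D) :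
    ∃ β : L →ₗ[ZMod p] L' →ₗ[ZMod p] N, ∀ x ∈ A, ∀ y ∈ A', β (π x) (π' y) = κ ⁅x, y⁆ := by
  have c : ∀ g : P, ∀ z ∈ C, g * z * g⁻¹ ∈ C ∧ κ (g * z * g⁻¹) = κ z := fun g z hz => by
    rw [show g * z * g⁻¹ = ⁅g, z⁆ * z by rw [commutatorElement_def]; group]
    exact ⟨mul_mem (hDC (h4 g z hz)) hz, by
      rw [l3.add _ (hDC (h4 g z hz)) _ hz, (l3.ker _ (hDC (h4 g z hz))).mpr (h4 g z hz), zero_add]⟩
  have a1 : ∀ x ∈ A, ∀ x' ∈ A, ∀ y ∈ A', κ ⁅x * x', y⁆ = κ ⁅x, y⁆ + κ ⁅x', y⁆ :=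
    fun x hx x' hx' y hy => by
      rw [show ⁅x * x', y⁆ = x * ⁅x', y⁆ * x⁻¹ * ⁅x, y⁆ by
        simp only [commutatorElement_def]; group,
        l3.add _ (c x _ (h1 x' hx' y hy)).1 _ (h1 x hx y hy), (c x _ (h1 x' hx' y hy)).2, add_comm]
  have a2 : ∀ x ∈ A, ∀ y ∈ A', ∀ y' ∈ A', κ ⁅x, y * y'⁆ = κ ⁅x, y⁆ + κ ⁅x, y'⁆ :=
    fun x hx y hy y' hy' => by
      rw [show ⁅x, y * y'⁆ = ⁅x, y⁆ * (y * ⁅x, y'⁆ * y⁻¹) by
        simp only [commutatorElement_def]; group,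
        l3.add _ (h1 x hx y hy) _ (c y _ (h1 x hx y' hy')).1, (c y _ (h1 x hx y' hy')).2]
  have e : ∀ x ∈ A, ∀ x' ∈ A, ∀ y ∈ A', ∀ y' ∈ A', π x = π x' → π' y = π' y' →
      κ ⁅x, y⁆ = κ ⁅x', y'⁆ := fun x hx x' hx' y hy y' hy' k k' => by
    have m := mul_mem (inv_mem hx) hx'
    have m' := mul_mem (inv_mem hy) hy'
    have b := (l1.ker _ m).mp (by rw [l1.add _ (inv_mem hx) _ hx', brg1_inv l1 hx, k, neg_add_cancel])
    have b' := (l2.ker _ m').mp (by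
      rw [l2.add _ (inv_mem hy) _ hy', brg1_inv l2 hy, k', neg_add_cancel])
    have d := a1 x hx _ m y' hy'
    have d' := a2 x hx y hy _ m'
    rw [mul_inv_cancel_left, (l3.ker _ (h1 _ m _ hy')).mpr (h2 _ m b _ hy'), add_zero] at d
    rw [mul_inv_cancel_left, (l3.ker _ (h1 _ hx _ m')).mpr (h3 _ hx _ m' b'), add_zero] at d'
    rw [d, d']
  choose s s1 s2 using l1.surj
  choose t t1 t2 using l2.surj
  let f : L → L' →+ N := fun l => AddMonoidHom.mk' (fun l' => κ ⁅s l, t l'⁆) fun a b => by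
    rw [← a2 _ (s1 l) _ (t1 a) _ (t1 b)]
    exact e _ (s1 l) _ (s1 l) _ (t1 _) _ (mul_mem (t1 a) (t1 b)) rfl (by
      rw [l2.add _ (t1 a) _ (t1 b), t2, t2, t2])
  refine ⟨(AddMonoidHom.mk' (fun l => (f l).toZModLinearMap p) fun a b =>
    LinearMap.ext fun l' => ?_).toZModLinearMap p, fun x hx y hy =>
      e _ (s1 _) _ hx _ (t1 _) _ hy (s2 _) (t2 _)⟩
  show κ ⁅s (a + b), t l'⁆ = κ ⁅s a, t l'⁆ + κ ⁅s b, t l'⁆
  rw [← a1 _ (s1 a) _ (s1 b) _ (t1 l')]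
  exact e _ (s1 _) _ (mul_mem (s1 a) (s1 b)) _ (t1 _) _ (t1 _) (by
    rw [l1.add _ (s1 a) _ (s1 b), s2, s2, s2]) rfl

end H84.NDA
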