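import Mathlib
import Cfsg.Agent.Lib.NDA.Defs

/-! Project NDA, package HF. -/

set_option autoImplicit false
open Cfsg Subgroup
open scoped commutatorElement

namespace H84.NDA

universe u
variable {P : Type u} [Group P] [Finite P] {p : ℕ} [Fact p.Prime]

theorem hf_bound {L1 L2 L3 : Type*} [AddCommGroup L1] [Module (ZMod p) L1] [Finite L1]
    [AddCommGroup L2] [Module (ZMod p) L2] [Finite L2] [AddCommGroup L3] [Module (ZMod p) L3]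
    [Finite L3] {π1 : P → L1} {π2 : P → L2} {π3 : P → L3} (l1 : Lay ⊤ (ga P 1) π1)
    (l2 : Lay (ga P 1) (ga P 2) π2) (l3 : Lay (ga P 2) (ga P 3) π3)
    {br : L1 →ₗ[ZMod p] L1 →ₗ[ZMod p] L2} {ad : L2 →ₗ[ZMod p] L1 →ₗ[ZMod p] L3}
    (hbr : ∀ x y : P, br (π1 x) (π1 y) = π2 ⁅x, y⁆)
    (had : ∀ y ∈ ga P 1, ∀ x : P, ad (π2 y) (π1 x) = π3 ⁅y, x⁆)
    (cam : ∀ x, x ∉ ga P 1 → ∀ b ∈ ga P 1, ∃ g : P, ⁅g, x⁆ = b) (u : L1) (hu : u ≠ 0) :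
    Module.finrank (ZMod p) L3 + 1 ≤ Module.finrank (ZMod p) (LinearMap.ker (br u)) +
      Module.finrank (ZMod p) (LinearMap.range (ad.flip u)) := by
  obtain ⟨x, -, rfl⟩ := l1.surj u
  have hx : x ∉ ga P 1 := fun h => hu ((l1.ker x (mem_top _)).2 h)
  have c1 : ∀ a b : P, ⁅a, b⁆ ∈ ga P 1 := fun a b => comm_ga_left (i := 0) (mem_top a) b
  have k1 : ∀ g : P, π1 g ∈ LinearMap.ker (br (π1 x)) ↔ ⁅g, x⁆ ∈ ga P 2 := fun g => by
    rw [LinearMap.mem_ker, hbr, l2.ker _ (c1 _ _), ← commutatorElement_inv g x, inv_mem_iff]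
  have ad2 : ∀ g g' : P, ⁅g, x⁆ ∈ ga P 2 → ⁅g', x⁆ ∈ ga P 2 → π3 ⁅g * g', x⁆ = π3 ⁅g, x⁆ + π3 ⁅g', x⁆ := by
    intro g g' h h'
    have h3 := comm_ga_right g h'
    rw [show ⁅g * g', x⁆ = ⁅g, ⁅g', x⁆⁆ * ⁅g', x⁆ * ⁅g, x⁆ by simp only [commutatorElement_def]; group,
      l3.add _ (mul_mem (ga_le 2 h3) h') _ h, l3.add _ (ga_le 2 h3) _ h',
      (l3.ker _ (ga_le 2 h3)).2 h3, zero_add, add_comm]
  let R := LinearMap.range (ad.flip (π1 x))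
  have wd : ∀ g g' : P, ⁅g, x⁆ ∈ ga P 2 → π1 g' = π1 g → R.mkQ (π3 ⁅g', x⁆) = R.mkQ (π3 ⁅g, x⁆) := by
    intro g g' h e
    have hy : g⁻¹ * g' ∈ ga P 1 := by
      refine (l1.ker _ (mem_top _)).1 ?_
      have := l1.add g (mem_top _) (g⁻¹ * g') (mem_top _)
      rw [mul_inv_cancel_left, e] at this
      exact left_eq_add.1 this
    have h0 : R.mkQ (π3 ⁅g⁻¹ * g', x⁆) = 0 :=
      (Submodule.Quotient.mk_eq_zero R).2 ⟨π2 (g⁻¹ * g'), had _ hy x⟩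
    rw [← mul_inv_cancel_left g g', ad2 g _ h (comm_ga_left hy x), map_add, h0, add_zero]
  choose s hs0 hs using l1.surj
  have k2 : ∀ v : LinearMap.ker (br (π1 x)), ⁅s v, x⁆ ∈ ga P 2 := fun v => (k1 _).1 (by rw [hs]; exact v.2)
  let δ : LinearMap.ker (br (π1 x)) →ₗ[ZMod p] L3 ⧸ R := AddMonoidHom.toZModLinearMap p
    (AddMonoidHom.mk' (fun v => R.mkQ (π3 ⁅s v, x⁆)) fun v w => by
      rw [← map_add, ← ad2 _ _ (k2 v) (k2 w)]
      refine wd _ _ ((k1 _).1 ?_) ?_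
      · rw [l1.add _ (mem_top _) _ (mem_top _), hs, hs]; exact add_mem v.2 w.2
      · rw [l1.add _ (mem_top _) _ (mem_top _), hs, hs, hs]; rfl)
  have hδ : ∀ (g : P) (h : ⁅g, x⁆ ∈ ga P 2), δ ⟨π1 g, (k1 g).2 h⟩ = R.mkQ (π3 ⁅g, x⁆) := fun g h =>
    wd g _ h (hs _)
  have sur : LinearMap.range δ = ⊤ := by
    rw [LinearMap.range_eq_top]
    intro l
    obtain ⟨l, rfl⟩ := R.mkQ_surjective l
    obtain ⟨b, hb, rfl⟩ := l3.surj l
    obtain ⟨g, rfl⟩ := cam x hx b (ga_le 1 hb)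
    exact ⟨_, hδ g hb⟩
  have xx : ⁅x, x⁆ ∈ ga P 3 := by rw [commutatorElement_self]; exact one_mem _
  have ne : LinearMap.ker δ ≠ ⊥ := (Submodule.ne_bot_iff _).2
    ⟨⟨π1 x, (k1 x).2 (ga_le 2 xx)⟩, by
      rw [LinearMap.mem_ker, hδ x (ga_le 2 xx), (l3.ker _ (ga_le 2 xx)).2 xx, map_zero],
      fun e => hu (congrArg Subtype.val e)⟩
  have e1 := LinearMap.finrank_range_add_finrank_ker δ
  have e2 := R.finrank_quotient_add_finrank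
  have e3 : Module.finrank (ZMod p) (LinearMap.ker δ) ≠ 0 := fun e => ne (Submodule.finrank_eq_zero.1 e)
  rw [sur, finrank_top] at e1
  change _ ≤ _ + Module.finrank (ZMod p) R
  omega

end H84.NDA
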