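import Mathlib
import Cfsg.Agent.Lib.NDA.Defs

/-! Project NDA, package HW. -/

set_option autoImplicit false
open Cfsg Subgroup
open scoped commutatorElement

namespace H84.NDA

variable {J P : Type*} [Group J] [Finite J] [Group P] [Finite P] {φ : J →* MulAut P} {p : ℕ}

omit [Finite P] in
theorem hw_cj {s t m : ℕ} (h : m = s + t + 2) {x c : P} (hx : x ∈ ga P s) (hc : c ∈ ga P t) (b : P) :
    QuotientGroup.mk' (ga P m) ⁅x, b * c * b⁻¹⁆ = QuotientGroup.mk' (ga P m) ⁅x, c⁆ := by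
  subst h
  rw [← mul_inv_eq_one, ← map_inv, ← map_mul, QuotientGroup.mk'_apply, QuotientGroup.eq_one_iff,
    show ⁅x, b * c * b⁻¹⁆ * ⁅x, c⁆⁻¹ = ⁅x, ⁅b, c⁆⁆ * ⁅⁅b, c⁆, ⁅x, c⁆⁆ by
      simp only [commutatorElement_def]; group]
  exact mul_mem (comm_ga (i := s) (j := t + 1) hx (comm_ga_right b hc))
    (comm_ga_right (i := s + t + 1) _ (comm_ga hx hc))

omit [Finite P] in
theorem hw_cen {m : ℕ} {x : P} (hx : x ∈ ga P m) (g : P) :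
    Commute (QuotientGroup.mk' (ga P (m + 1)) x) (QuotientGroup.mk' (ga P (m + 1)) g) := by
  rw [← commutatorElement_eq_one_iff_commute, ← map_commutatorElement, QuotientGroup.mk'_apply,
    QuotientGroup.eq_one_iff]
  exact comm_ga_left hx g

theorem hw {i j k : ℕ} {a b c : P} (ha : a ∈ ga P i) (hb : b ∈ ga P j) (hc : c ∈ ga P k) :
    ⁅⁅a, b⁆, c⁆ * ⁅⁅b, c⁆, a⁆ * ⁅⁅c, a⁆, b⁆ ∈ ga P (i + j + k + 3) := by
  rw [← QuotientGroup.eq_one_iff, ← QuotientGroup.mk'_apply, map_mul, map_mul,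
    ← hw_cj (by omega) (comm_ga ha hb) hc b, ← hw_cj (by omega) (comm_ga hb hc) ha c,
    ← hw_cj (by omega) (comm_ga hc ha) hb a, ← map_mul, ← map_mul,
    show ⁅⁅a, b⁆, b * c * b⁻¹⁆ * ⁅⁅b, c⁆, c * a * c⁻¹⁆ * ⁅⁅c, a⁆, a * b * a⁻¹⁆ = 1 by
      simp only [commutatorElement_def]; group, map_one]

theorem hw4 {y : P} (hy : y ∈ ga P 1) (u z : P) :
    ⁅⁅y, u⁆, z⁆ * ⁅⁅y, z⁆, u⁆⁻¹ * ⁅y, ⁅u, z⁆⁆⁻¹ ∈ ga P 4 := by
  have h : _ ∈ ga P (3 + 1) := hw (j := 0) (k := 0) hy (mem_top u) (mem_top z)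
  have c : ⁅⁅y, z⁆, u⁆⁻¹ ∈ ga P 3 := inv_mem (comm_ga_left (comm_ga_left hy z) u)
  rw [← QuotientGroup.eq_one_iff, ← QuotientGroup.mk'_apply] at h ⊢
  rw [show ⁅⁅z, y⁆, u⁆ = ⁅y, z⁆⁻¹ * (⁅⁅y, z⁆, u⁆⁻¹ * ⁅y, z⁆) by simp only [commutatorElement_def]; group,
    ← commutatorElement_inv y, map_mul, map_mul, map_mul, map_mul, (hw_cen c _).eq, map_inv _ ⁅y, z⁆,
    inv_mul_cancel_left, mul_assoc, ← (hw_cen c _).eq, ← mul_assoc] at h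
  rw [map_mul, map_mul]
  exact h

end H84.NDA
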