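import Mathlib
import Cfsg.Agent.Lib.NDA.Defs

/-! Project NDA, package PF. -/

set_option autoImplicit false
open Cfsg Subgroup
open scoped commutatorElement

namespace H84.NDA

variable {F L1 L2 L3 : Type*} [Field F] [AddCommGroup L1] [Module F L1] [Module.Finite F L1]
  [AddCommGroup L2] [Module F L2] [Module.Finite F L2] [AddCommGroup L3] [Module F L3]
  [Module.Finite F L3]

theorem pf_step {K : Type*} [Field K] {m : ℕ} (A : Matrix (Fin 2 ⊕ Fin m) (Fin 2 ⊕ Fin m) K)
    (h1 : ∀ i j, A j i = -A i j) (h2 : ∀ i, A i i = 0) (ha : A (.inl 0) (.inl 1) ≠ 0) :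
    ∃ E : Matrix (Fin m) (Fin m) K, (∀ i j, E j i = -E i j) ∧ (∀ i, E i i = 0) ∧
      A.det = A (.inl 0) (.inl 1) ^ 2 * E.det := by
  set a := A (.inl 0) (.inl 1) with hA
  have hB : A.toBlocks₁₁ = !![0, a; -a, 0] := by
    ext i j
    fin_cases i <;> fin_cases j
    exacts [h2 _, rfl, h1 _ _, h2 _]
  have hi : !![0, -a⁻¹; a⁻¹, 0] * A.toBlocks₁₁ = 1 := by
    rw [hB]
    ext i j
    fin_cases i <;> fin_cases j <;> simp [Matrix.mul_apply, Fin.sum_univ_two, ha]
  letI := invertibleOfLeftInverse _ _ hi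
  have he : ⅟A.toBlocks₁₁ = !![0, -a⁻¹; a⁻¹, 0] := rfl
  refine ⟨A.toBlocks₂₂ - A.toBlocks₂₁ * ⅟A.toBlocks₁₁ * A.toBlocks₁₂, fun i j => ?_, fun i => ?_, ?_⟩
  · simp only [he, Matrix.sub_apply, Matrix.mul_apply, Fin.sum_univ_two, Matrix.toBlocks₂₂,
      Matrix.toBlocks₂₁, Matrix.toBlocks₁₂, Matrix.of_apply, h1 (.inl _) (.inr _), h1 (.inr i) (.inr j)]
    simp
    ring
  · simp only [he, Matrix.sub_apply, Matrix.mul_apply, Fin.sum_univ_two, Matrix.toBlocks₂₂,
      Matrix.toBlocks₂₁, Matrix.toBlocks₁₂, Matrix.of_apply, h1 (.inl _) (.inr _), h2]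
    simp
    ring
  · conv_lhs => rw [← A.fromBlocks_toBlocks, Matrix.det_fromBlocks₁₁]
    congr 1
    rw [hB, Matrix.det_fin_two_of]
    ring

theorem pf_aux {K : Type*} [Field K] (n : ℕ) : ∀ A : Matrix (Fin n) (Fin n) K,
    (∀ i j, A j i = -A i j) → (∀ i, A i i = 0) → IsSquare A.det := by
  induction n using Nat.strong_induction_on with
  | _ n ih =>
    intro A h1 h2
    by_cases h0 : A = 0
    · rcases n with _ | n
      · simp
      · rw [h0, Matrix.det_zero]
        exact IsSquare.zero
    obtain ⟨i, j, hij⟩ : ∃ i j, A i j ≠ 0 := by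
      by_contra h
      push Not at h
      exact h0 (Matrix.ext h)
    have hne : i ≠ j := fun e => hij (e ▸ h2 i)
    have h2n : 2 ≤ n := by
      have := Fintype.one_lt_card_iff.2 ⟨i, j, hne⟩
      rwa [Fintype.card_fin] at this
    obtain ⟨m, rfl⟩ := Nat.exists_eq_add_of_le h2n
    obtain ⟨σ, hσ⟩ := Equiv.Perm.exists_extending_pair (fun t : Fin 2 => finSumFinEquiv (n := m) (.inl t))
      ![i, j] (finSumFinEquiv.injective.comp Sum.inl_injective) (by
        intro s t h
        fin_cases s <;> fin_cases t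
        exacts [rfl, absurd h hne, absurd h hne.symm, rfl])
    obtain ⟨E, e1, e2, e3⟩ := pf_step (A.submatrix (finSumFinEquiv.trans σ) (finSumFinEquiv.trans σ))
      (fun _ _ => h1 _ _) (fun _ => h2 _) (by
        rw [Matrix.submatrix_apply, Equiv.trans_apply, Equiv.trans_apply, hσ, hσ]; exact hij)
    rw [Matrix.det_submatrix_equiv_self] at e3
    rw [e3]
    exact (IsSquare.sq _).mul (ih m (by omega) E e1 e2)

theorem det_alt_sq {K : Type*} [Field K] {n : ℕ} (A : Matrix (Fin n) (Fin n) K)
    (h1 : A.transpose = -A) (h2 : ∀ i, A i i = 0) : IsSquare A.det :=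
  pf_aux n A (fun i j => congrFun (congrFun h1 i) j) h2

open MvPolynomial in
theorem pf [Finite F] [Nontrivial L1] (br : L1 →ₗ[F] L1 →ₗ[F] L2) (alt : ∀ u, br u u = 0)
    (sbr : ∀ x, x ≠ 0 → Function.Surjective (br x)) :
    2 * Module.finrank F L2 ≤ Module.finrank F L1 := by
  classical
  by_contra hlt
  let b := Module.finBasis F L1
  let c := Module.finBasis F L2
  set n := Module.finrank F L1
  set k := Module.finrank F L2
  have hn : 0 < n := Module.finrank_pos
  have sk : ∀ u v, br v u = -br u v := fun u v => by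
    have := alt (u + v)
    simp only [map_add, LinearMap.add_apply, alt, zero_add, add_zero] at this
    exact eq_neg_of_add_eq_zero_left this
  let A : Matrix (Fin n) (Fin n) (MvPolynomial (Fin k) F) :=
    Matrix.of fun i j => ∑ t, C (c.repr (br (b i) (b j)) t) * X t
  have hsq := pf_aux n (A.map (algebraMap _ (FractionRing (MvPolynomial (Fin k) F))))
    (fun i j => by simp [A, sk (b i) (b j)]) fun i => by simp [A, alt]
  obtain ⟨r, hr⟩ := hsq
  rw [← RingHom.mapMatrix_apply, ← RingHom.map_det, ← sq] at hr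
  obtain ⟨g, rfl⟩ := IsIntegrallyClosed.exists_algebraMap_eq_of_isIntegral_pow
    (R := MvPolynomial (Fin k) F) two_pos (hr ▸ isIntegral_algebraMap)
  rw [← map_pow] at hr
  have hg : A.det = g ^ 2 := IsFractionRing.injective _ _ hr
  have hh : A.det.IsHomogeneous n := by
    rw [Matrix.det_apply']
    refine IsHomogeneous.sum _ _ _ fun σ _ => ?_
    rw [← map_intCast (C : F →+* MvPolynomial (Fin k) F)]
    refine IsHomogeneous.C_mul ?_ _
    have := IsHomogeneous.prod Finset.univ (fun i => A (σ i) i) (fun _ => 1) fun i _ => by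
      simp only [A, Matrix.of_apply]
      exact IsHomogeneous.sum _ _ _ fun t _ => (isHomogeneous_X _ t).C_mul _
    simpa using this
  have hd : g.totalDegree < Fintype.card (Fin k) := by
    rw [Fintype.card_fin]
    by_cases g0 : g = 0
    · rw [g0, totalDegree_zero]; omega
    · have := hh.totalDegree_le
      rw [hg, sq, totalDegree_mul_of_isDomain g0 g0] at this
      omega
  have hz : ∀ l : Fin k → F, eval l g = 0 ↔ l = 0 := fun l => by
    rw [← sq_eq_zero_iff, ← map_pow, ← hg, RingHom.map_det]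
    constructor
    · intro h
      obtain ⟨v, v0, hv⟩ := Matrix.exists_vecMul_eq_zero_iff.2 h
      have hx : b.equivFun.symm v ≠ 0 := (LinearEquiv.map_ne_zero_iff _).2 v0
      let lam : L2 →ₗ[F] F := ∑ t, l t • c.coord t
      have h3 : lam ∘ₗ br (b.equivFun.symm v) = 0 := b.ext fun j => by
        have := congrFun hv j
        simp only [Matrix.vecMul, dotProduct, RingHom.mapMatrix_apply, Matrix.map_apply, A,
          Matrix.of_apply, map_sum, map_mul, eval_C, eval_X, Pi.zero_apply] at this
        simp only [LinearMap.comp_apply, Module.Basis.equivFun_symm_apply, map_sum, map_smul,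
          LinearMap.sum_apply, LinearMap.smul_apply, LinearMap.zero_apply, lam,
          Module.Basis.coord_apply, smul_eq_mul]
        rw [← this]
        simp only [mul_comm (l _)]
      funext t
      obtain ⟨y, hy⟩ := sbr _ hx (c t)
      have := LinearMap.congr_fun h3 y
      rw [LinearMap.comp_apply, hy] at this
      simpa [lam, Finsupp.single_apply] using this
    · rintro rfl
      have : (eval (0 : Fin k → F)).mapMatrix A = 0 := by
        ext i j
        simp [A]
      have _ne : Nonempty (Fin n) := ⟨⟨0, hn⟩⟩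
      rw [this, Matrix.det_zero]
  obtain ⟨p, hp⟩ := CharP.exists F
  letI := Fintype.ofFinite F
  have h1 := char_dvd_card_solutions p hd
  have h2 : Fintype.card {x : Fin k → F // eval x g = 0} = 1 :=
    Fintype.card_eq_one_iff.2 ⟨⟨0, (hz 0).2 rfl⟩, fun x => Subtype.ext ((hz _).1 x.2)⟩
  rw [h2] at h1
  exact (CharP.char_is_prime F p).one_lt.ne' (Nat.dvd_one.1 h1)

end H84.NDA
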