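import Mathlib
import Cfsg.Agent.Lib.NDA.PF

/-! Project NDA, package LA. -/

set_option autoImplicit false
open Cfsg Subgroup
open scoped commutatorElement

namespace H84.NDA

variable {F L1 L2 L3 : Type*} [Field F] [AddCommGroup L1] [Module F L1] [Module.Finite F L1]
  [AddCommGroup L2] [Module F L2] [Module.Finite F L2] [AddCommGroup L3] [Module F L3]
  [Module.Finite F L3]

open Module

section
variable {br : L1 →ₗ[F] L1 →ₗ[F] L2} {ad : L2 →ₗ[F] L1 →ₗ[F] L3}
  {m : L3 →ₗ[F] L1 →ₗ[F] F} {g : L2 →ₗ[F] L2 →ₗ[F] F}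

theorem LD.la_perp (h : LD br ad m g) (W : Submodule F L3) : ∃ Z : Submodule F L1,
    (∀ z, z ∈ Z ↔ ∀ w ∈ W, m w z = 0) ∧ finrank F W + finrank F Z = finrank F L1 := by
  have inj : Function.Injective (m ∘ₗ W.subtype) :=
    (injective_iff_map_eq_zero _).2 fun w hw => Subtype.ext (h.im _ hw)
  have s := (LinearMap.flip_surjective_iff₁ (B := m ∘ₗ W.subtype)).2 inj
  refine ⟨LinearMap.ker (m ∘ₗ W.subtype).flip, fun z => ?_, ?_⟩
  · rw [LinearMap.mem_ker]
    exact ⟨fun e w hw => LinearMap.congr_fun e ⟨w, hw⟩, fun e => LinearMap.ext fun w => e w w.2⟩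
  · have := LinearMap.finrank_range_add_finrank_ker (m ∘ₗ W.subtype).flip
    rw [LinearMap.range_eq_top.2 s, finrank_top] at this
    rw [← this]
    congr 1
    exact Subspace.dual_finrank_eq.symm

omit [Module.Finite F L1] [Module.Finite F L2] [Module.Finite F L3] in
theorem LD.la_anti (h : LD br ad m g) (u v : L1) : br u v = - br v u := by
  have := h.alt (u + v)
  simp only [map_add, LinearMap.add_apply, h.alt, zero_add, add_zero] at this
  exact eq_neg_of_add_eq_zero_right this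

omit [Module.Finite F L2] [Module.Finite F L3] in
theorem LD.la_ker (h : LD br ad m g) {u : L1} (hu : u ≠ 0) :
    finrank F L2 + finrank F (LinearMap.ker (br u)) = finrank F L1 := by
  have := LinearMap.finrank_range_add_finrank_ker (br u)
  rwa [LinearMap.range_eq_top.2 (h.sbr u hu), finrank_top] at this

omit [Module.Finite F L1] [Module.Finite F L2] [Module.Finite F L3] in
theorem LD.la_le (h : LD br ad m g) {u x : L1} (hu : u ≠ 0) (e : br u x = 0) :
    LinearMap.range (ad.flip x) ≤ LinearMap.range (ad.flip u) := by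
  rintro _ ⟨y, rfl⟩
  obtain ⟨v, rfl⟩ := h.sbr u hu y
  refine ⟨br x v, ?_⟩
  have := h.j3 v u x
  rw [e, map_zero, LinearMap.zero_apply, add_zero, h.la_anti v u, map_neg, LinearMap.neg_apply,
    neg_add_eq_zero] at this
  exact this.symm

omit [Module.Finite F L1] [Module.Finite F L2] [Module.Finite F L3] in
theorem LD.la_eq (h : LD br ad m g) {u x : L1} (hu : u ≠ 0) (hx : x ≠ 0) (e : br u x = 0) :
    LinearMap.range (ad.flip x) = LinearMap.range (ad.flip u) :=
  le_antisymm (h.la_le hu e) (h.la_le hx (by rw [h.la_anti, e, neg_zero]))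

omit [Module.Finite F L1] [Module.Finite F L2] [Module.Finite F L3] in
theorem LD.la_nt (h : LD br ad m g) : Nontrivial L1 := by
  have := h.n2
  have := h.n3
  obtain ⟨y, hy⟩ := exists_ne (0 : L2)
  exact (h.sad y hy).nontrivial

theorem LD.la_lt (h : LD br ad m g) : finrank F L3 + 1 ≤ finrank F L1 := by
  have := h.la_nt
  obtain ⟨u, hu⟩ := exists_ne (0 : L1)
  have a1 := h.hf u hu
  have a2 := h.la_ker hu
  have a3 := LinearMap.finrank_range_le (ad.flip u)
  omega

end

omit [Module.Finite F L1] in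
theorem la_ex {Z : Submodule F L1} (h : 0 < finrank F Z) : ∃ z ∈ Z, z ≠ 0 :=
  (Submodule.ne_bot_iff Z).1 fun e => by rw [e, finrank_bot] at h; omega

theorem LD.la0 {br : L1 →ₗ[F] L1 →ₗ[F] L2} {ad : L2 →ₗ[F] L1 →ₗ[F] L3}
    {m : L3 →ₗ[F] L1 →ₗ[F] F} {g : L2 →ₗ[F] L2 →ₗ[F] F} (h : LD br ad m g)
    (h0 : ∀ y y', g y y' = 0) : False := by
  have sym : ∀ y u z, m (ad y u) z = m (ad y z) u := fun y u z => sub_eq_zero.1 ((h.j4 y u z).trans (h0 _ _))
  obtain ⟨T, hT, dT⟩ := h.la_perp ⊤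
  rw [finrank_top] at dT
  have lt := h.la_lt
  have := h.n2
  have := h.n3
  obtain ⟨y0, hy0⟩ := exists_ne (0 : L2)
  have r0 : ∀ z ∈ T, LinearMap.range (ad.flip z) = ⊥ := fun z hz =>
    LinearMap.range_eq_bot.2 (LinearMap.ext fun y => h.im _ (LinearMap.ext fun u => by
      rw [LinearMap.flip_apply, sym, (hT z).1 hz _ trivial, LinearMap.zero_apply]))
  have kT : ∀ z ∈ T, z ≠ 0 → ∀ x, br z x = 0 → x ∈ T := fun z hz z0 x e => (hT x).2 fun w _ => by
    obtain ⟨u, rfl⟩ := h.sad y0 hy0 w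
    have : ad y0 x = 0 := by
      have := h.la_le z0 e ⟨y0, rfl⟩
      rwa [r0 z hz, Submodule.mem_bot] at this
    rw [sym, this, map_zero, LinearMap.zero_apply]
  obtain ⟨z, hz, z0⟩ := la_ex (Z := T) (by omega)
  have a1 := h.hf z z0
  rw [r0 z hz, finrank_bot] at a1
  have a2 := h.la_ker z0
  have a3 : 0 < finrank F L3 := finrank_pos
  obtain ⟨x, hx⟩ : ∃ x, x ∉ T := by
    by_contra e
    push Not at e
    rw [Submodule.eq_top_iff'.2 e, finrank_top] at dT
    omega
  have x0 : x ≠ 0 := fun e => hx (e ▸ T.zero_mem)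
  have a4 := h.la_ker x0
  have a5 := Submodule.finrank_add_finrank_le_of_disjoint (s := T) (t := LinearMap.ker (br x))
    (Submodule.disjoint_def.2 fun v hv hv' => by
      by_contra v0
      exact hx (kT v hv v0 x (by rw [h.la_anti, LinearMap.mem_ker.1 hv', neg_zero])))
  omega

theorem LD.la1 [Finite F] {br : L1 →ₗ[F] L1 →ₗ[F] L2} {ad : L2 →ₗ[F] L1 →ₗ[F] L3}
    {m : L3 →ₗ[F] L1 →ₗ[F] F} {g : L2 →ₗ[F] L2 →ₗ[F] F} (h : LD br ad m g)
    (h1 : ∀ y, (∀ y', g y y' = 0) → y = 0) : False := by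
  obtain ⟨T, hT, dT⟩ := h.la_perp ⊤
  rw [finrank_top] at dT
  have lt := h.la_lt
  have := h.n2
  have := h.la_nt
  have rT : ∀ z ∈ T, z ≠ 0 → finrank F (LinearMap.range (ad.flip z)) = finrank F L2 := fun z hz z0 =>
    LinearMap.finrank_range_of_inj ((injective_iff_map_eq_zero _).2 fun y e => h1 y fun y' => by
      obtain ⟨u, hu⟩ := h.sbr z z0 (-y')
      have := h.j4 y u z
      rw [LinearMap.flip_apply] at e
      rw [e, (hT z).1 hz _ trivial, h.la_anti, hu, neg_neg] at this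
      simpa using this.symm)
  obtain ⟨y0, hy0⟩ := exists_ne (0 : L2)
  have d0 := LinearMap.finrank_range_add_finrank_ker (ad y0)
  rw [LinearMap.range_eq_top.2 (h.sad y0 hy0), finrank_top] at d0
  obtain ⟨u, hu, u0⟩ := la_ex (Z := LinearMap.ker (ad y0)) (by omega)
  have ru : finrank F (LinearMap.range (ad.flip u)) < finrank F L2 := by
    have a1 := LinearMap.finrank_range_add_finrank_ker (ad.flip u)
    have a2 : finrank F (LinearMap.ker (ad.flip u)) ≠ 0 := fun e =>
      hy0 ((Submodule.mem_bot F).1 (Submodule.finrank_eq_zero.1 e ▸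
        (show y0 ∈ LinearMap.ker (ad.flip u) from hu)))
    omega
  obtain ⟨Z, hZ, dZ⟩ := h.la_perp (LinearMap.range (ad.flip u))
  have p := pf br h.alt h.sbr
  have ku := h.la_ker u0
  have s1 := Submodule.finrank_sup_add_finrank_inf_eq (LinearMap.ker (br u)) Z
  have s2 := Submodule.finrank_le (LinearMap.ker (br u) ⊔ Z)
  obtain ⟨x, ⟨hx, xZ⟩, x0⟩ := la_ex (Z := LinearMap.ker (br u) ⊓ Z) (by omega)
  have ex := h.la_eq u0 x0 hx
  have kx := h.la_ker x0
  have le : LinearMap.ker (br x) ⊔ T ≤ Z := by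
    refine sup_le (fun v hv => (hZ v).2 fun w hw => ?_) fun v hv => (hZ v).2 fun w _ => (hT v).1 hv w trivial
    rw [← ex] at hw
    obtain ⟨y, rfl⟩ := hw
    have := h.j4 y x v
    rw [LinearMap.mem_ker.1 hv, map_zero, (hZ x).1 xZ (ad y v) (ex ▸ h.la_le x0 hv ⟨y, rfl⟩), sub_zero] at this
    exact this
  have s3 := Submodule.finrank_sup_add_finrank_inf_eq (LinearMap.ker (br x)) T
  have s4 : LinearMap.ker (br x) ⊓ T = ⊥ := (Submodule.eq_bot_iff _).2 fun v hv => by
    by_contra v0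
    have := rT v hv.2 v0
    rw [h.la_eq x0 v0 hv.1, ex] at this
    omega
  rw [s4, finrank_bot] at s3
  have s5 := Submodule.finrank_mono le
  have s6 := h.hf u u0
  omega

end H84.NDA
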