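import Mathlib
import Cfsg.Agent.Lib.NDA.HW
import Cfsg.Agent.Lib.NDA.BRG1
import Cfsg.Agent.Lib.NDA.HF
import Cfsg.Agent.Lib.NDA.LA

/-! Project NDA, package BRG2. -/

set_option autoImplicit false
open Cfsg Subgroup
open scoped commutatorElement

namespace H84.NDA

universe u
variable {P : Type u} [Group P] [Finite P] {p : ℕ} [Fact p.Prime]

omit [Finite P] in
theorem brg2_inv {A B : Subgroup P} {L : Type*} [AddCommGroup L] {π : P → L} (l : Lay A B π) {x : P}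
    (hx : x ∈ A) : π x⁻¹ = -π x := by
  have := l.add _ (inv_mem hx) _ hx
  rw [inv_mul_cancel, (l.ker 1 (one_mem _)).2 (one_mem _)] at this
  exact eq_neg_of_add_eq_zero_left this.symm

omit [Finite P] in
theorem brg2_nt {A B : Subgroup P} {L : Type*} [AddCommGroup L] {π : P → L} (l : Lay A B π)
    (h : ¬ A ≤ B) : Nontrivial L := by
  obtain ⟨x, hx, hx'⟩ := SetLike.not_le_iff_exists.1 h
  exact ⟨π x, 0, fun e => hx' ((l.ker x hx).1 e)⟩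

theorem no_four (pw : ∀ i, ∀ x ∈ ga P i, x ^ p ∈ ga P (i + 1))
    (cam : ∀ x, x ∉ ga P 1 → ∀ b ∈ ga P 1, ∃ g : P, ⁅g, x⁆ = b)
    (r2 : ∀ y ∈ ga P 1, y ∉ ga P 2 → ∀ w ∈ ga P 2, ∃ x : P, w⁻¹ * ⁅y, x⁆ ∈ ga P 3)
    {μ : ga P 3 →* ℂˣ} (ht : Tr μ (ga P 4)) (h1 : μ ≠ 1)
    (r3 : ∀ w ∈ ga P 2, w ∉ ga P 3 → ∃ x : P, ¬ Tv μ ⁅w, x⁆)
    (hg : (∀ y ∈ ga P 1, ∀ y' ∈ ga P 1, Tv μ ⁅y, y'⁆) ∨
      ∀ y ∈ ga P 1, (∀ y' ∈ ga P 1, Tv μ ⁅y, y'⁆) → y ∈ ga P 2) : False := by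
  have q0 : ∀ x y : P, ⁅x, y⁆ ∈ ga P 1 := fun x y => commutator_mem_commutator (mem_top x) (mem_top y)
  have q1 : ∀ {x : P}, x ∈ ga P 1 → ∀ y, ⁅x, y⁆ ∈ ga P 2 := fun h y => comm_ga_left (i := 1) h y
  have q2 : ∀ {x : P}, x ∈ ga P 2 → ∀ y, ⁅x, y⁆ ∈ ga P 3 := fun h y => comm_ga_left (i := 2) h y
  have q3 : ∀ {x : P}, x ∈ ga P 3 → ∀ y, ⁅x, y⁆ ∈ ga P 4 := fun h y => comm_ga_left (i := 3) h y
  have w1 : ∀ (y : P) {x : P}, x ∈ ga P 1 → ⁅y, x⁆ ∈ ga P 2 := fun y _ h => comm_ga_right (i := 1) y h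
  have w2 : ∀ (y : P) {x : P}, x ∈ ga P 2 → ⁅y, x⁆ ∈ ga P 3 := fun y _ h => comm_ga_right (i := 2) y h
  have w3 : ∀ (y : P) {x : P}, x ∈ ga P 3 → ⁅y, x⁆ ∈ ga P 4 := fun y _ h => comm_ga_right (i := 3) y h
  have q11 : ∀ {x y : P}, x ∈ ga P 1 → y ∈ ga P 1 → ⁅x, y⁆ ∈ ga P 3 := fun h h' =>
    comm_ga (i := 1) (j := 1) h h'
  have q21 : ∀ {x y : P}, x ∈ ga P 2 → y ∈ ga P 1 → ⁅x, y⁆ ∈ ga P 4 := fun h h' =>
    comm_ga (i := 2) (j := 1) h h'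
  have q12 : ∀ {x y : P}, x ∈ ga P 1 → y ∈ ga P 2 → ⁅x, y⁆ ∈ ga P 4 := fun h h' =>
    comm_ga (i := 1) (j := 2) h h'
  have g1 : ga P 2 ≤ ga P 1 := ga_le 1
  have g2 : ga P 3 ≤ ga P 2 := ga_le 2
  have g3 : ga P 4 ≤ ga P 3 := ga_le 3
  obtain ⟨L1, _, _, _, π1, l1⟩ := exists_lay (p := p) (A := ⊤) (B := ga P 1) le_top
    (commutator_le.2 fun x _ y _ => q0 x y) fun x _ => pw 0 x (mem_top x)
  obtain ⟨L2, _, _, _, π2, l2⟩ := exists_lay (p := p) g1 (commutator_le.2 fun x h y _ => q1 h y) (pw 1)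
  obtain ⟨L3, _, _, _, π3, l3⟩ := exists_lay (p := p) g2 (commutator_le.2 fun x h y _ => q2 h y) (pw 2)
  obtain ⟨κ, l4⟩ := exists_lay_mu (p := p) μ (fun x => by
    rw [← map_pow]; exact ht _ (pw 3 x x.2)) h1
  have hD : ∀ x ∈ ga P 3, κ x = 0 ↔ Tv μ x := fun x hx => (l4.ker x hx).trans
    ⟨fun ⟨y, hy, e⟩ _ => by subst e; exact hy, fun h => ⟨⟨x, hx⟩, h hx, rfl⟩⟩
  have h4 : ga P 4 ≤ μ.ker.map (ga P 3).subtype := fun x hx => ⟨⟨x, g3 hx⟩, ht _ hx, rfl⟩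
  have hD3 : μ.ker.map (ga P 3).subtype ≤ ga P 3 := map_subtype_le _
  have t : ∀ x : P, x ∈ ga P 0 := fun x => mem_top x
  obtain ⟨br, hbr⟩ := exists_bil (p := p) l1 l1 l2 g1 (fun x _ y _ => q0 x y)
    (fun x _ hx y _ => q1 hx y) (fun x _ y _ hy => w1 x hy) fun g z hz => w1 g hz
  obtain ⟨ad, had⟩ := exists_bil (p := p) l2 l1 l3 g2 (fun x hx y _ => q1 hx y)
    (fun x _ hx y _ => q2 hx y) (fun x hx y _ hy => q11 hx hy) fun g z hz => w2 g hz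
  obtain ⟨m, hm⟩ := exists_bil (p := p) l3 l1 l4 hD3 (fun x hx y _ => q2 hx y)
    (fun x _ hx y _ => h4 (q3 hx y)) (fun x hx y _ hy => h4 (q21 hx hy)) fun g z hz => h4 (w3 g hz)
  obtain ⟨g, hgg⟩ := exists_bil (p := p) l2 l2 l4 hD3 (fun x hx y hy => q11 hx hy)
    (fun x _ hx y hy => h4 (q21 hx hy)) (fun x hx y _ hy => h4 (q12 hx hy)) fun g z hz => h4 (w3 g hz)
  have hbr' : ∀ x y : P, br (π1 x) (π1 y) = π2 ⁅x, y⁆ := fun x y => hbr x trivial y trivial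
  have had' : ∀ y ∈ ga P 1, ∀ x : P, ad (π2 y) (π1 x) = π3 ⁅y, x⁆ := fun y hy x => had y hy x trivial
  have hm' : ∀ y ∈ ga P 2, ∀ x : P, m (π3 y) (π1 x) = κ ⁅y, x⁆ := fun y hy x => hm y hy x trivial
  have n3 : ¬ ga P 2 ≤ ga P 3 := fun e => h1 (MonoidHom.ext fun x =>
    ht x (commutator_mono e (le_refl ⊤) x.2))
  have n2 : ¬ ga P 1 ≤ ga P 2 := fun e => n3 (commutator_mono e (le_refl ⊤))
  have ld : LD br ad m g := by
    refine ⟨fun u => ?_, fun x y z => ?_, fun y u z => ?_, fun x hx l => ?_, fun y hy l => ?_,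
      fun w hw => ?_, brg2_nt l2 n2, brg2_nt l3 n3, hf_bound l1 l2 l3 hbr' had' cam⟩
    · obtain ⟨x, -, rfl⟩ := l1.surj u
      rw [hbr', commutatorElement_self, (l2.ker 1 (one_mem _)).2 (one_mem _)]
    · obtain ⟨x, -, rfl⟩ := l1.surj x
      obtain ⟨y, -, rfl⟩ := l1.surj y
      obtain ⟨z, -, rfl⟩ := l1.surj z
      have a1 := q1 (q0 x y) z
      have a2 := q1 (q0 y z) x
      have a3 := q1 (q0 z x) y
      rw [hbr', hbr', hbr', had' _ (q0 _ _), had' _ (q0 _ _), had' _ (q0 _ _), ← l3.add _ a1 _ a2,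
        ← l3.add _ (mul_mem a1 a2) _ a3]
      exact (l3.ker _ (mul_mem (mul_mem a1 a2) a3)).2 (hw (i := 0) (j := 0) (k := 0) (t x) (t y) (t z))
    · obtain ⟨y, hy, rfl⟩ := l2.surj y
      obtain ⟨u, -, rfl⟩ := l1.surj u
      obtain ⟨z, -, rfl⟩ := l1.surj z
      have a1 := q2 (q1 hy u) z
      have a2 := q2 (q1 hy z) u
      have a3 : ⁅y, ⁅u, z⁆⁆ ∈ ga P 3 := q11 hy (q0 u z)
      have e := (l4.ker _ (mul_mem (mul_mem a1 (inv_mem a2)) (inv_mem a3))).2 (h4 (hw4 hy u z))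
      rw [l4.add _ (mul_mem a1 (inv_mem a2)) _ (inv_mem a3), l4.add _ a1 _ (inv_mem a2), brg2_inv l4 a2,
        brg2_inv l4 a3] at e
      rw [hbr', had' _ hy, had' _ hy, hm' _ (q1 hy u), hm' _ (q1 hy z),
        hgg _ hy _ (q0 u z)]
      linear_combination e
    · obtain ⟨x, -, rfl⟩ := l1.surj x
      obtain ⟨b, hb, rfl⟩ := l2.surj l
      obtain ⟨g, e⟩ := cam x (fun h => hx ((l1.ker x trivial).2 h)) b⁻¹ (inv_mem hb)
      exact ⟨π1 g, by rw [hbr', ← commutatorElement_inv, e, inv_inv]⟩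
    · obtain ⟨y, hy', rfl⟩ := l2.surj y
      obtain ⟨w, hw, rfl⟩ := l3.surj l
      obtain ⟨x, e⟩ := r2 y hy' (fun h => hy ((l2.ker y hy').2 h)) w hw
      have := (l3.ker _ (g2 e)).2 e
      rw [l3.add _ (inv_mem hw) _ (q1 hy' x), brg2_inv l3 hw, neg_add_eq_zero] at this
      exact ⟨π1 x, by rw [had' _ hy', this]⟩
    · obtain ⟨w, hw', rfl⟩ := l3.surj w
      by_contra hn
      obtain ⟨x, e⟩ := r3 w hw' fun h => hn ((l3.ker w hw').2 h)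
      exact e ((hD _ (q2 hw' x)).1 (by rw [← hm' _ hw', hw, LinearMap.zero_apply]))
  rcases hg with hg | hg
  · refine ld.la0 fun y y' => ?_
    obtain ⟨y, hy, rfl⟩ := l2.surj y
    obtain ⟨y', hy', rfl⟩ := l2.surj y'
    rw [hgg _ hy _ hy']
    exact (hD _ (q11 hy hy')).2 (hg y hy y' hy')
  · refine ld.la1 fun y h => ?_
    obtain ⟨y, hy, rfl⟩ := l2.surj y
    exact (l2.ker y hy).2 (hg y hy fun y' hy' =>
      (hD _ (q11 hy hy')).1 ((hgg _ hy _ hy').symm.trans (h _)))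

end H84.NDA
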