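import Mathlib
import Cfsg.Agent.Lib.NDA.BAS

/-! Project NDA, package RO. -/

set_option autoImplicit false
open Cfsg Subgroup
open scoped commutatorElement

namespace H84.NDA

theorem ro_key {J V : Type*} [Group J] [CommGroup V] {φ : J →* MulAut V} {c : J} {s t : V} {n : ℕ}
    (h : φ c s = t * s) (ht : φ c t = t) (hn : φ (c ^ n) s = s) : t ^ n = 1 := by
  have k : ∀ m : ℕ, φ (c ^ m) s = t ^ m * s := fun m => by
    induction m with
    | zero => simp
    | succ m ih => rw [pow_succ', map_mul, MulAut.mul_apply, ih, map_mul, map_pow, ht, h, pow_succ, mul_assoc]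
  exact mul_eq_right.1 ((k n).symm.trans hn)

theorem ro_gen {J V : Type*} [Group J] [Finite J] [CommGroup V] {φ : J →* MulAut V}
    (hJ : ∀ a b : J, a * b = b * a) {W : Subgroup V} (hW : ∀ c, ∀ w ∈ W, φ c w ∈ W) {n : ℕ}
    (hn : ∀ c, ∀ w ∈ W, φ (c ^ n) w = w) (h1 : ∀ w ∈ W, w ^ n = 1 → w = 1) :
    ∃ v ∈ W, ∀ c, φ c v = v → ∀ w ∈ W, φ c w = w := by
  obtain ⟨v, hv, hm⟩ : ∃ v ∈ W, ∀ w ∈ W, Nat.card (H64.Palfy.st φ v) ≤ Nat.card (H64.Palfy.st φ w) :=
    ⟨Function.argminOn (fun v => Nat.card (H64.Palfy.st φ v)) (W : Set V) ⟨1, one_mem W⟩,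
      Function.argminOn_mem _ _ _, fun w hw => Function.argminOn_le (fun v => Nat.card (H64.Palfy.st φ v)) _ hw⟩
  have cm : ∀ c d x, φ c (φ d x) = φ d (φ c x) := fun c d x => by
    rw [← MulAut.mul_apply, ← map_mul, hJ, map_mul, MulAut.mul_apply]
  have key : ∀ c, ∀ s ∈ W, φ c (φ c s * s⁻¹) = φ c s * s⁻¹ → φ c s = s := fun c s hs e =>
    mul_inv_eq_one.1 (h1 _ (mul_mem (hW c s hs) (inv_mem hs))
      (ro_key (inv_mul_cancel_right _ _).symm e (hn c s hs)))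
  refine ⟨v, hv, fun c hc u hu => key c u hu ?_⟩
  have hw : φ c u * u⁻¹ ∈ W := mul_mem (hW c u hu) (inv_mem hu)
  have le : H64.Palfy.st φ (v * (φ c u * u⁻¹)) ≤ H64.Palfy.st φ v := fun d hd => by
    rw [H64.Palfy.mem_st] at hd ⊢
    rw [map_mul, map_mul, map_inv] at hd
    have e : φ c (u * (φ d u)⁻¹) * (u * (φ d u)⁻¹)⁻¹ = φ d v * v⁻¹ := by
      rw [map_mul, map_inv, cm c d, eq_mul_inv_of_mul_eq hd]
      simp only [mul_inv_rev, inv_inv, mul_comm, mul_left_comm, mul_assoc, mul_inv_cancel_left,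
        mul_inv_cancel_comm_assoc]
    have := key c _ (mul_mem hu (inv_mem (hW d u hu))) (by rw [e, map_mul, map_inv, cm c d, hc])
    rwa [this, mul_inv_cancel, eq_comm, mul_inv_eq_one] at e
  have eq := Subgroup.eq_of_le_of_card_ge le (hm _ (mul_mem hv hw))
  have : c ∈ H64.Palfy.st φ (v * (φ c u * u⁻¹)) := eq ▸ hc
  rwa [H64.Palfy.mem_st, map_mul, hc, mul_right_inj] at this

variable {J P : Type*} [Group J] [Finite J] [Group P] [Finite P] {φ : J →* MulAut P} {p : ℕ}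

theorem ro (hJ : ∀ a b : J, a * b = b * a) (hP : ∀ a b : P, a * b = b * a)
    (hcop : φ.ker.index.Coprime (Nat.card P)) : ∃ v, H64.Palfy.st φ v = φ.ker := by
  let _ : CommGroup P := { ‹Group P› with mul_comm := hP }
  obtain ⟨v, -, h⟩ := ro_gen (φ := φ) hJ (W := ⊤) (fun _ _ _ => mem_top _) (n := φ.ker.index)
    (fun c w _ => by rw [MonoidHom.mem_ker.1 (φ.ker.pow_index_mem c), MulAut.one_apply])
    fun w _ e => (pow_eq_one_iff_of_coprime hcop).1 ⟨e, pow_card_eq_one'⟩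
  refine ⟨v, le_antisymm (fun c hc => MulEquiv.ext fun w => h c hc w (mem_top _)) fun c hc => ?_⟩
  rw [H64.Palfy.mem_st, MonoidHom.mem_ker.1 hc, MulAut.one_apply]

/-- the action on an invariant subgroup -/
def ro_res {A : Subgroup P} (hA : Iv φ ⊤ A) : J →* MulAut A where
  toFun c :=
    { toFun := fun x => ⟨φ c x, hA c (mem_top _) x x.2⟩
      invFun := fun x => ⟨φ c⁻¹ x, hA _ (mem_top _) x x.2⟩
      left_inv := fun x => Subtype.ext (H64.Palfy.inv_app φ c x)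
      right_inv := fun x => Subtype.ext (H64.Palfy.app_inv φ c x)
      map_mul' := fun x y => Subtype.ext (map_mul (φ c) (x : P) y) }
  map_one' := MulEquiv.ext fun x => Subtype.ext (by simp)
  map_mul' a b := MulEquiv.ext fun x => Subtype.ext (by simp)

theorem rol (hJ : ∀ a b : J, a * b = b * a) (hcop : (Nat.card J).Coprime (Nat.card P))
    {A B : Subgroup P} (hBA : B ≤ A) (hc : ⁅A, A⁆ ≤ B) (hA : Iv φ ⊤ A) (hB : Iv φ ⊤ B) :
    ∃ μ : A →* ℂˣ, Tr μ B ∧ ∀ c, Fx φ c μ ↔ ∀ x ∈ A, x⁻¹ * φ c x ∈ B := by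
  let W : Subgroup (A →* ℂˣ) :=
    { carrier := {μ | Tr μ B}
      one_mem' := fun _ _ => rfl
      mul_mem' := fun {a b} ha hb x hx => by rw [MonoidHom.mul_apply, ha x hx, hb x hx, one_mul]
      inv_mem' := fun {a} ha x hx => by rw [MonoidHom.inv_apply, ha x hx, inv_one] }
  obtain ⟨μ, hμ, h⟩ := ro_gen (φ := H64.Palfy.dualA (ro_res hA)) hJ (W := W)
    (fun c w hw x hx => by
      rw [H64.Palfy.dualA_apply]
      exact hw _ (hB _ (mem_top _) _ hx)) (n := Nat.card J)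
    (fun c w _ => by rw [pow_card_eq_one', map_one, MulAut.one_apply])
    fun w _ e => MonoidHom.ext fun x => (pow_eq_one_iff_of_coprime hcop).1
      ⟨by rw [← MonoidHom.pow_apply, e, MonoidHom.one_apply], by
        rw [← map_pow, show x ^ Nat.card P = 1 from Subtype.ext pow_card_eq_one', map_one]⟩
  refine ⟨μ, hμ, fun c => ⟨fun hf x hx => ?_, fun hf x y e => ?_⟩⟩
  · by_contra hn
    obtain ⟨ν, h1, h2⟩ := exists_tr_ne hc (mul_mem (inv_mem hx) (hA c (mem_top _) x hx)) hn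
    have := H64.Palfy.mem_st_dualA.1 (h c (H64.Palfy.mem_st_dualA.2 fun y => hf y _ rfl) ν h1) ⟨x, hx⟩
    refine h2 ?_
    rw [← inv_mul_eq_one.2 this.symm, ← map_inv, ← map_mul]
    rfl
  · rw [eq_comm, ← inv_mul_eq_one, ← map_inv, ← map_mul]
    exact hμ _ (by rw [coe_mul, coe_inv, e]; exact hf x x.2)

theorem rol_ga (hJ : ∀ a b : J, a * b = b * a) (hcop : (Nat.card J).Coprime (Nat.card P)) (i : ℕ) :
    ∃ μ : ga P i →* ℂˣ, Tr μ (ga P (i + 1)) ∧ ∀ c, Fx φ c μ ↔ c ∈ ck φ i :=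
  rol hJ hcop (ga_le i) (ga_comm_le i) (iv_ga φ ⊤ i) (iv_ga φ ⊤ (i + 1))

end H84.NDA
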