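import Mathlib
import Cfsg.Agent.Lib.NDA.IE
import Cfsg.Agent.Lib.NDA.GL
import Cfsg.Agent.Lib.NDA.RO

/-! Project NDA, package LAY. -/

set_option autoImplicit false
open Cfsg Subgroup
open scoped commutatorElement

namespace H84.NDA

variable {J P : Type*} [Group J] [Finite J] [Group P] [Finite P] {φ : J →* MulAut P} {p : ℕ}

theorem lay_le_ker {i : ℕ} {ψ : P → ℂ} {μ : ga P (i + 1) →* ℂˣ} (hψ : IsIrrCharacter P ψ) (ho : Ov ψ μ)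
    (ht : Tr μ (ga P (i + 2))) : ga P (i + 2) ≤ H6.charKer ψ := fun x hx =>
  (ho.mem_ker hψ ⟨x, ga_le _ hx⟩).2 (ht _ hx)

theorem lay_not_le {A : Subgroup P} {ψ : P → ℂ} {μ : A →* ℂˣ} (hψ : IsIrrCharacter P ψ) (ho : Ov ψ μ)
    (h1 : μ ≠ 1) : ¬ A ≤ H6.charKer ψ := fun hle =>
  h1 (MonoidHom.ext fun x => (ho.mem_ker hψ x).1 (hle x.2))

theorem lay_stab_iff {i : ℕ} {ψ : P → ℂ} {μ : ga P i →* ℂˣ} (hψ : IsIrrCharacter P ψ) (ho : Ov ψ μ)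
    (hv : ∀ x, x ∉ ga P i → ψ x = 0) {c : J} : c ∈ stab φ ψ ↔ Fx φ c μ := by
  refine ⟨ho.fx hψ, fun hf x => ?_⟩
  by_cases hx : x ∈ ga P i
  · have e1 := ho ⟨φ c x, ga_inv φ c i hx⟩
    have e2 := ho ⟨x, hx⟩
    have e3 := hf ⟨x, hx⟩ ⟨φ c x, ga_inv φ c i hx⟩ rfl
    rw [e3] at e1
    exact e1.trans e2.symm
  · have hx' : φ c x ∉ ga P i := fun hh => hx (by
      have := ga_inv φ c⁻¹ i hh
      rwa [← MulAut.mul_apply, ← map_mul, inv_mul_cancel, map_one, MulAut.one_apply] at this)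
    rw [hv x hx, hv _ hx']

theorem lay_ck_fx {i : ℕ} {μ : ga P i →* ℂˣ} (ht : Tr μ (ga P (i + 1))) {c : J} (hc : c ∈ ck φ i) :
    Fx φ c μ := by
  intro x y e
  have h1 : μ (x⁻¹ * y) = 1 := ht _ (by
    have := hc x x.2
    rw [← e] at this
    exact this)
  rw [map_mul, map_inv, inv_mul_eq_one] at h1
  exact h1.symm

theorem PJ.lay (h : PJ p φ) (i : ℕ)
    (hv : ∀ ψ, IsIrrCharacter P ψ → ga P (i + 2) ≤ H6.charKer ψ → ¬ ga P (i + 1) ≤ H6.charKer ψ →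
      ∀ x, x ∉ ga P (i + 1) → ψ x = 0) :
    (∀ ψ, IsIrrCharacter P ψ → ga P (i + 2) ≤ H6.charKer ψ → ¬ ga P (i + 1) ≤ H6.charKer ψ →
      charDegree ψ ^ 2 = (ga P (i + 1)).index ∧ stab φ ψ = ck φ (i + 1)) ∧
    ∀ c, c ∉ ck φ (i + 1) → Fp φ c (ga P (i + 1)) (ga P (i + 2)) := by
  have key : ∀ ψ, IsIrrCharacter P ψ → ga P (i + 2) ≤ H6.charKer ψ → ¬ ga P (i + 1) ≤ H6.charKer ψ →
      charDegree ψ ^ 2 = (ga P (i + 1)).index ∧ stab φ ψ = ck φ (i + 1) := by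
    intro ψ hψ h1 h2
    obtain ⟨μ, ho⟩ := exists_un (A := ga P (i + 1)) hψ h1
    have ht : Tr μ (ga P (i + 2)) := fun x hx => (ho.mem_ker hψ x).1 (h1 hx)
    have hn : μ ≠ 1 := fun e => h2 fun x hx => (ho.mem_ker hψ ⟨x, hx⟩).2 (by rw [e]; rfl)
    have hd := H87.deg_sq_eq_index hψ (fun z hz => ho.norm hz) (hv ψ hψ h1 h2)
    have hle : ck φ (i + 1) ≤ stab φ ψ := fun c hc =>
      (lay_stab_iff hψ ho (hv ψ hψ h1 h2)).2 (lay_ck_fx ht hc)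
    refine ⟨hd, ?_⟩
    obtain ⟨μ1, ht1, hf1⟩ := rol_ga (φ := φ) h.comm h.coprime (i + 1)
    by_cases e : μ1 = 1
    · refine le_antisymm (fun c _ => (hf1 c).1 ?_) hle
      intro x y _
      rw [e]; rfl
    · obtain ⟨ψ1, hψ1, ho1⟩ := exists_ov' μ1 (tv_ga ht1)
      have k1 := lay_le_ker hψ1 ho1 ht1
      have k2 := lay_not_le hψ1 ho1 e
      have hd1 := H87.deg_sq_eq_index hψ1 (fun z hz => ho1.norm hz) (hv ψ1 hψ1 k1 k2)
      have hs1 : stab φ ψ1 = ck φ (i + 1) := by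
        ext c
        rw [lay_stab_iff hψ1 ho1 (hv ψ1 hψ1 k1 k2), hf1]
      have hdd : charDegree ψ = charDegree ψ1 :=
        Nat.pow_left_injective (n := 2) two_ne_zero (hd.trans hd1.symm)
      have h3 := h.eq_of_le hψ hψ1 (ho.deg_ne_one hψ (ga_anti (Nat.le_add_left 1 i)) hn)
        (hs1 ▸ hle) hdd.le
      rw [← h3.1, hs1]
  refine ⟨key, fun c hc => ?_⟩
  refine fp_of_forall h.coprime (fun x hx => ga_inv φ c _ hx) (fun x hx => ga_inv φ c _ hx)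
    (ga_comm_le _) fun μ ht hf => ?_
  by_contra hn
  obtain ⟨ψ, hψ, ho⟩ := exists_ov' μ (tv_ga ht)
  have k1 := lay_le_ker hψ ho ht
  have k2 := lay_not_le hψ ho hn
  apply hc
  rw [← (key ψ hψ k1 k2).2]
  exact (lay_stab_iff hψ ho (hv ψ hψ k1 k2)).2 hf

end H84.NDA
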