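import Mathlib
import Cfsg.Agent.Lib.NDA.A3
import Cfsg.Agent.Lib.NDA.LAY

/-! Project NDA, package C1. -/

set_option autoImplicit false
open Cfsg Subgroup
open scoped commutatorElement

namespace H84.NDA

variable {J P : Type*} [Group J] [Finite J] [Group P] [Finite P] {φ : J →* MulAut P} {p : ℕ}

theorem c1_pow {G : Type*} [Group G] {x y : G} (hc : Commute y ⁅x, y⁆) (n : ℕ) :
    ⁅x, y ^ n⁆ = ⁅x, y⁆ ^ n := by
  induction n with
  | zero => simp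
  | succ n ih =>
    have e : ⁅x, y ^ (n + 1)⁆ = ⁅x, y⁆ * (y * ⁅x, y ^ n⁆ * y⁻¹) := by
      simp only [commutatorElement_def, pow_succ']; group
    rw [e, ih, (hc.pow_right n).eq, mul_inv_cancel_right, pow_succ']

omit [Finite P] in
theorem c1_comm {i : ℕ} (g : P ⧸ ga P (i + 1)) {w : P} (hw : w ∈ ga P i) :
    Commute g (w : P ⧸ ga P (i + 1)) := by
  obtain ⟨g, rfl⟩ := QuotientGroup.mk_surjective g
  rw [← commutatorElement_eq_one_iff_commute]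
  exact (map_commutatorElement (QuotientGroup.mk' _) g w).symm.trans
    ((QuotientGroup.eq_one_iff _).2 (comm_ga_right g hw))

omit [Finite P] in
theorem c1_mk {i : ℕ} {x : P} (y : P) (hx : x ∈ ga P i) (n : ℕ) :
    ((⁅x, y ^ n⁆ : P) : P ⧸ ga P (i + 2)) = ((⁅x, y⁆ : P) : P ⧸ ga P (i + 2)) ^ n := by
  have e : ∀ a b : P, ((⁅a, b⁆ : P) : P ⧸ ga P (i + 2)) = ⁅(a : P ⧸ ga P (i + 2)), (b : P ⧸ _)⁆ :=
    fun a b => map_commutatorElement (QuotientGroup.mk' _) a b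
  have := c1_comm (i := i + 1) (y : P ⧸ ga P (i + 2)) (comm_ga_left hx y)
  rw [e] at this
  rw [e, e, QuotientGroup.mk_pow, c1_pow this]

theorem CJ.k0_eq (h : CJ p φ) : k0 φ = ga P 1 := by
  rw [k0, h.fpf, bot_sup_eq]; rfl

theorem CJ.cam (h : CJ p φ) {x b : P} (hx : x ∉ ga P 1) (hb : b ∈ ga P 1) :
    ∃ g : P, ⁅g, x⁆ = b := h.toPJ.conj (by rwa [h.k0_eq]) hb

theorem CJ.fp0 (h : CJ p φ) {c : J} (hc : c ∉ φ.ker) : Fp φ c ⊤ (ga P 1) :=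
  h.k0_eq ▸ h.toPJ.fp_k0 hc

theorem c1_not_le (h : PJ p φ) : ¬ ga P 1 ≤ ga P 2 := fun e =>
  have := h.nil
  h.nab (ga_eq_bot (i := 1) e)

theorem c1_pow0 (h : CJ p φ) (x : P) : x ^ p ∈ ga P 1 := by
  by_contra hx
  have := Fact.mk h.prime
  have step : ∀ b ∈ ga P 1, ∃ c ∈ ga P 1, (b : P ⧸ ga P 2) = (c : P ⧸ ga P 2) ^ p := fun b hb => by
    obtain ⟨g, rfl⟩ := h.cam hx hb
    exact ⟨_, comm_ga_left (i := 0) (mem_top g) x, c1_mk (i := 0) x (mem_top g) p⟩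
  have key : ∀ k : ℕ, ∀ b ∈ ga P 1, ∃ c ∈ ga P 1, (b : P ⧸ ga P 2) = (c : P ⧸ ga P 2) ^ p ^ k := by
    intro k
    induction k with
    | zero => exact fun b hb => ⟨b, hb, by rw [pow_zero]; exact (pow_one _).symm⟩
    | succ k ih =>
      intro b hb
      obtain ⟨c, hc, e⟩ := ih b hb
      obtain ⟨d, hd, e'⟩ := step c hc
      exact ⟨d, hd, by rw [e, e', ← pow_mul, pow_succ']⟩
  obtain ⟨k, hk⟩ := IsPGroup.iff_card.1 h.pg
  refine c1_not_le h.toPJ fun b hb => ?_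
  obtain ⟨c, -, e⟩ := key k b hb
  rw [← hk, ← QuotientGroup.mk_pow, pow_card_eq_one', QuotientGroup.mk_one] at e
  exact (QuotientGroup.eq_one_iff _).1 e

theorem CJ.pow (h : CJ p φ) (i : ℕ) : ∀ x ∈ ga P i, x ^ p ∈ ga P (i + 1) := by
  rcases i with _ | i
  · exact fun x _ => c1_pow0 h x
  intro x hx
  rw [← QuotientGroup.eq_one_iff, QuotientGroup.mk_pow]
  rw [ga_succ, Subgroup.commutator_def] at hx
  induction hx using closure_induction with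
  | mem x hx =>
    obtain ⟨a, ha, b, -, rfl⟩ := hx
    rw [← c1_mk b ha, QuotientGroup.eq_one_iff]
    exact comm_ga ha (c1_pow0 h b)
  | one => exact one_pow _
  | mul x y _ hy ex ey =>
    rw [QuotientGroup.mk_mul, (c1_comm (i := i + 1) _ hy).mul_pow, ex, ey, one_mul]
  | inv x _ ex => rw [QuotientGroup.mk_inv, inv_pow, ex, inv_one]

omit [Finite J] in
theorem c1_deg {ψ : P → ℂ} (hψ : IsIrrCharacter P ψ) (hk : ¬ ga P 1 ≤ H6.charKer ψ) :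
    charDegree ψ ≠ 1 := fun e => hk ((H87.deg_eq_one_iff_commutator_le hψ).1 e)

theorem c1_vanish (h : CJ p φ) {ψ : P → ℂ} (hψ : IsIrrCharacter P ψ)
    (hk : ¬ ga P 1 ≤ H6.charKer ψ) (x : P) (hx : x ∉ ga P 1) : ψ x = 0 :=
  h.toPJ.vanish hψ (c1_deg hψ hk) (by rwa [h.k0_eq])

theorem CJ.lay1 (h : CJ p φ) :
    (∀ ψ, IsIrrCharacter P ψ → ga P 2 ≤ H6.charKer ψ → ¬ ga P 1 ≤ H6.charKer ψ →
      charDegree ψ ^ 2 = (ga P 1).index ∧ stab φ ψ = ck φ 1) ∧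
    ∀ c, c ∉ ck φ 1 → Fp φ c (ga P 1) (ga P 2) :=
  h.toPJ.lay 0 fun _ hψ _ hk => c1_vanish h hψ hk

omit [Finite P] in
theorem c1_inv {N : Subgroup P} [hN : N.Normal] (lam : N →* ℂˣ) {ψ : P → ℂ} {e : ℂ}
    (hr : ∀ n : N, ψ n = e * lam n)
    (hi : ∀ (g : P) (n : N), (lam ⟨g * n * g⁻¹, hN.conj_mem n n.2 g⟩ : ℂ) = lam n) (a : N) (g : P) :
    ψ ⁅(a : P), g⁆ = ψ 1 := by
  have e4 : ⁅(a : P), g⁆ = ((a * ⟨g * (a⁻¹ : N) * g⁻¹, hN.conj_mem _ (a⁻¹ : N).2 g⟩ : N) : P) := by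
    simp [commutatorElement_def, mul_assoc]
  rw [e4, hr, map_mul, Units.val_mul, hi, ← Units.val_mul, ← map_mul, mul_inv_cancel, ← hr]
  rfl

theorem CJ.not_le (h : CJ p φ) {ψ : P → ℂ} (hψ : IsIrrCharacter P ψ)
    (hk : ¬ ga P 2 ≤ H6.charKer ψ) : ∃ c ∈ stab φ ψ, c ∉ ck φ 1 := by
  by_contra hc
  push Not at hc
  obtain ⟨x, hx1, hx2⟩ := SetLike.not_le_iff_exists.1 (c1_not_le h.toPJ)
  obtain ⟨χ, hχ, k2, k1⟩ := H87.exists_irr_ker_of_not_mem (ga P 2) hx2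
  have k1' : ¬ ga P 1 ≤ H6.charKer χ := fun e => k1 (e hx1)
  obtain ⟨d1, s1⟩ := h.lay1.1 χ hχ k2 k1'
  have hv := c1_vanish h hψ fun e => hk ((ga_le 1).trans e)
  have hle : charDegree χ ≤ charDegree ψ := by
    have := Nat.le_of_dvd (pow_pos (H87.deg_pos hψ) 2) (H87.index_dvd_deg_sq_of_vanish hψ hv)
    rw [← d1] at this
    exact (Nat.pow_le_pow_iff_left two_ne_zero).1 this
  have hd := (h.toPJ.eq_of_le hχ hψ (c1_deg hχ k1') (by rw [s1]; exact hc) hle).2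
  obtain ⟨θ, hθ, ho⟩ := H87.exists_under hψ (ga P 1)
  obtain ⟨e, e1, e2⟩ := H87.index_dvd_of_vanish hψ hv hθ ho
  rw [hd, e1, e2] at d1
  have h0 : e ^ 2 * (H7.inertia θ).index ≠ 0 := e2 ▸ Subgroup.index_ne_zero_of_finite
  have h1 : (H7.inertia θ).index * charDegree θ ^ 2 = 1 :=
    mul_left_cancel₀ h0 (by rw [mul_one]; refine Eq.trans ?_ d1; ring)
  have ht : H7.inertia θ = ⊤ := index_eq_one.1 (Nat.eq_one_of_mul_eq_one_right h1)
  have hθ1 : charDegree θ = 1 := by simpa using Nat.eq_one_of_mul_eq_one_left h1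
  obtain ⟨e', -, -, hr⟩ := ho.res_eq_of_invariant hψ hθ ht
  obtain ⟨lam, rfl⟩ := H6.exists_hom_of_char_one_eq_one (H6.irr_isCharacter hθ)
    ((H87.deg_eq_one_iff (H6.irr_isCharacter hθ)).1 hθ1)
  refine hk (commutator_le.2 fun a ha g _ => (H6.mem_charKer (H6.irr_isCharacter hψ)).2 ?_)
  exact c1_inv lam hr (H7.inertia_eq_top_iff.1 ht) ⟨a, ha⟩ g

end H84.NDA
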