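import Mathlib
import Cfsg.Agent.Lib.NDA.A3

/-! Project NDA, package ST. -/

set_option autoImplicit false
open Cfsg Subgroup
open scoped commutatorElement

namespace H84.NDA

variable {J P : Type*} [Group J] [Finite J] [Group P] [Finite P] {φ : J →* MulAut P} {p : ℕ}

omit [Finite P] in
theorem st_mul_left (a b c : P) : ⁅a * b, c⁆ = a * ⁅b, c⁆ * a⁻¹ * ⁅a, c⁆ := by
  simp only [commutatorElement_def]; group

omit [Finite P] in
theorem st_mul_right (a b c : P) : ⁅a, b * c⁆ = ⁅a, b⁆ * (b * ⁅a, c⁆ * b⁻¹) := by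
  simp only [commutatorElement_def]; group

omit [Finite P] in
theorem st_hom {i : ℕ} {M : Subgroup P} {z : P} (h1 : ∀ y ∈ M, ⁅y, z⁆ ∈ ga P i)
    {μ : ga P i →* ℂˣ} (ht : Tr μ (ga P (i + 1))) :
    ∃ ρ : M →* ℂˣ, ∀ y : M, ρ y = μ ⟨⁅(y : P), z⁆, h1 y y.2⟩ := by
  refine ⟨MonoidHom.mk' (fun y : M => μ ⟨⁅(y : P), z⁆, h1 y y.2⟩) ?_, fun y => rfl⟩
  intro a b
  have hb := h1 b b.2
  have hw : ⁅(a : P), ⁅(b : P), z⁆⁆ ∈ ga P (i + 1) := comm_ga_right _ hb
  have e : (⟨⁅((a * b : M) : P), z⁆, h1 _ (a * b).2⟩ : ga P i) =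
      ⟨_, ga_le i hw⟩ * ⟨_, hb⟩ * ⟨_, h1 a a.2⟩ := by
    apply Subtype.ext
    simp only [Subgroup.coe_mul, commutatorElement_def]
    group
  show μ _ = μ _ * μ _
  rw [e, map_mul, map_mul, ht _ hw, one_mul, mul_comm]

theorem st_step (h : PJ p φ) {i : ℕ} {z : P} (hz : z ∈ fx φ)
    (h1 : ∀ y ∈ cm φ, ⁅y, z⁆ ∈ ga P (i + 1))
    (h2 : ∀ b ∈ commutator P, ⁅b, z⁆ ∈ ga P (i + 2)) : ∀ y ∈ cm φ, ⁅y, z⁆ ∈ ga P (i + 2) := by
  intro y hy
  by_contra hn
  obtain ⟨μ, ht, hμ⟩ := exists_tr_ne (ga_comm_le (i + 1)) (h1 y hy) hn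
  obtain ⟨c, hc, hf⟩ := h.lay_outer ht (fun e => hμ (by rw [e]; rfl))
  obtain ⟨ρ, hρ⟩ := st_hom h1 ht
  have e : ρ = 1 := by
    refine fp_hom_eq_one h.comm_le_cm (commutator_mono le_top le_top)
      (iv_cm ⊤ c (mem_top c)) (fun x hx => ga_inv φ c 1 hx) (h.fp_cm hc) ?_ ?_
    · intro x hx
      rw [hρ]
      exact ht _ (h2 _ hx)
    · intro x x' hx
      rw [hρ, hρ]
      apply hf
      show ⁅(x' : P), z⁆ = φ c ⁅(x : P), z⁆
      rw [map_commutatorElement, hx, H2.mem_fixSub_top.1 hz c]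
  apply hμ
  rw [← hρ ⟨y, hy⟩, e]
  rfl

theorem st_zero (h : PJ p φ) {m z : P} (hm : m ∈ cm φ) (hz : z ∈ fx φ) : ⁅m, z⁆ ∈ ga P 2 :=
  st_step h (i := 0) hz (fun y _ => comm_ga_left (i := 0) (mem_top y) z)
    (fun _ hb => comm_ga_left (i := 1) hb z) m hm

theorem PJ.cm_comm (h : PJ p φ) : ⁅cm φ, cm φ⁆ = commutator P := by
  haveI : (cm φ).Normal := cm_normal
  haveI := h.nil
  refine le_antisymm (commutator_mono le_top le_top) ?_
  have base : ga P 1 ≤ ⁅cm φ, cm φ⁆ ⊔ ga P 2 := by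
    set K := ⁅cm φ, cm φ⁆ ⊔ ga P 2 with hK
    have key : ∀ a b : P, ⁅a, b⁆ ∈ K ↔ Commute (a : P ⧸ K) (b : P ⧸ K) := by
      intro a b
      rw [← QuotientGroup.eq_one_iff, ← commutatorElement_eq_one_iff_commute]
      rfl
    refine commutator_le.2 fun a _ b _ => ?_
    obtain ⟨m, hm, z, hz, rfl⟩ := h.dec a
    obtain ⟨m', hm', z', hz', rfl⟩ := h.dec b
    rw [key, QuotientGroup.mk_mul, QuotientGroup.mk_mul]
    have c1 : Commute (m : P ⧸ K) (m' : P ⧸ K) :=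
      (key _ _).1 (mem_sup_left (commutator_mem_commutator hm hm'))
    have c2 : Commute (m : P ⧸ K) (z' : P ⧸ K) := (key _ _).1 (mem_sup_right (st_zero h hm hz'))
    have c3 : Commute (m' : P ⧸ K) (z : P ⧸ K) := (key _ _).1 (mem_sup_right (st_zero h hm' hz))
    have c4 : Commute (z : P ⧸ K) (z' : P ⧸ K) := by
      refine (key _ _).1 (mem_sup_left (h.cm_fx_le ⟨h.comm_le_cm ?_, ?_⟩))
      · exact commutator_mem_commutator (mem_top _) (mem_top _)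
      · exact (fx φ).mul_mem ((fx φ).mul_mem ((fx φ).mul_mem hz hz') ((fx φ).inv_mem hz))
          ((fx φ).inv_mem hz')
    exact (c1.mul_right c2).mul_left (c3.symm.mul_right c4)
  have step : ∀ i, ga P (i + 1) ≤ ⁅cm φ, cm φ⁆ ⊔ ga P (i + 2) := by
    intro i
    induction i with
    | zero => exact base
    | succ i ih =>
      refine commutator_le.2 fun a ha y _ => ?_
      obtain ⟨u, hu, b, hb, rfl⟩ := mem_sup_of_normal_left.1 (ih ha)
      rw [st_mul_left]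
      refine mul_mem (mem_sup_right ?_) (mem_sup_left ?_)
      · exact Normal.conj_mem inferInstance _ (comm_ga_left hb y) _
      · exact commutator_le_left _ ⊤ (commutator_mem_commutator hu (mem_top y))
  have all : ∀ i, ga P 1 ≤ ⁅cm φ, cm φ⁆ ⊔ ga P (i + 1) := by
    intro i
    induction i with
    | zero => exact le_sup_right
    | succ i ih => exact ih.trans (sup_le le_sup_left (step i))
  obtain ⟨n, hn⟩ := Subgroup.nilpotent_iff_lowerCentralSeries.1 h.nil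
  have := all n
  rwa [eq_bot_iff.2 ((ga_le n).trans hn.le), sup_bot_eq] at this

theorem PJ.cm_fx (h : PJ p φ) {m z : P} (hm : m ∈ cm φ) (hz : z ∈ fx φ) : m * z = z * m := by
  haveI := h.nil
  have all : ∀ i, ∀ y ∈ cm φ, ⁅y, z⁆ ∈ ga P (i + 1) := by
    intro i
    induction i with
    | zero => exact fun y _ => comm_ga_left (i := 0) (mem_top y) z
    | succ i ih =>
      refine st_step h hz ih fun b hb => ?_
      by_contra hn
      obtain ⟨μ, ht, hμ⟩ := exists_tr_ne (ga_comm_le (i + 1)) (ih b (h.comm_le_cm hb)) hn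
      obtain ⟨ρ, hρ⟩ := st_hom ih ht
      have hle : ⁅cm φ, cm φ⁆ ≤ ρ.ker.map (cm φ).subtype := by
        refine commutator_le.2 fun a ha c hc => ⟨⁅(⟨a, ha⟩ : cm φ), ⟨c, hc⟩⁆, ?_, rfl⟩
        show ρ _ = 1
        rw [map_commutatorElement, commutatorElement_eq_one_iff_mul_comm, mul_comm]
      obtain ⟨x, hx, rfl⟩ := hle (h.cm_comm ▸ hb)
      exact hμ ((hρ x).symm.trans hx)
  rw [← commutatorElement_eq_one_iff_mul_comm]
  by_contra hn
  obtain ⟨i, -, hi⟩ := exists_layer (j := 0) (mem_top _) hn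
  exact hi (all _ m hm)

theorem PJ.conj_cm (h : PJ p φ) {x b : P} (hx : x ∈ cm φ) (hn : x ∉ commutator P)
    (hb : b ∈ commutator P) : ∃ g ∈ cm φ, ⁅g, x⁆ = b := by
  have hk : x ∉ k0 φ := fun c => hn (h.cm_inf ▸ (⟨hx, c⟩ : x ∈ cm φ ⊓ k0 φ))
  obtain ⟨g, rfl⟩ := h.conj hk hb
  obtain ⟨m, hm, z, hz, rfl⟩ := h.dec g
  refine ⟨m, hm, ?_⟩
  rw [st_mul_left, commutatorElement_eq_one_iff_mul_comm.2 (h.cm_fx hx hz).symm]
  group

theorem PJ.ga_succ_cm (h : PJ p φ) (i : ℕ) : ga P (i + 2) = ⁅ga P (i + 1), cm φ⁆ := by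
  refine le_antisymm (commutator_le.2 fun w hw g _ => ?_) (commutator_mono le_rfl le_top)
  obtain ⟨m, hm, z, hz, rfl⟩ := h.dec g
  have hwM : w ∈ cm φ := h.comm_le_cm (ga_anti (Nat.le_add_left 1 i) hw)
  rw [st_mul_right, commutatorElement_eq_one_iff_mul_comm.2 (h.cm_fx hwM hz), mul_one,
    mul_inv_cancel, mul_one]
  exact commutator_mem_commutator hw hm

end H84.NDA
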