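import Mathlib
import Cfsg.Agent.Lib.NDA.ST
import Cfsg.Agent.Lib.NDA.RO

/-! Project NDA, package CK. -/

set_option autoImplicit false
open Cfsg Subgroup
open scoped commutatorElement

namespace H84.NDA

variable {J P : Type*} [Group J] [Finite J] [Group P] [Finite P] {φ : J →* MulAut P} {p : ℕ}

theorem PJ.ck_outer (h : PJ p φ) (i : ℕ) : ∃ c ∈ ck φ (i + 1), c ∉ φ.ker := by
  obtain ⟨μ, ht, hμ⟩ := rol_ga (φ := φ) h.comm h.coprime (i + 1)
  by_cases h1 : μ = 1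
  · obtain ⟨c, hc⟩ : ∃ c, c ∉ φ.ker := by
      by_contra! k
      exact h.ne (eq_top_iff.2 fun c _ => k c)
    exact ⟨c, (hμ c).1 fun x y _ => by rw [h1]; rfl, hc⟩
  · obtain ⟨c, hc, hf⟩ := h.lay_outer ht h1
    exact ⟨c, (hμ c).1 hf, hc⟩

omit [Finite P] in
theorem ck_mul {A B : Subgroup P} {μ : A →* ℂˣ} (ht : Tr μ B) {a b : A} (e : (a : P) * (b : P)⁻¹ ∈ B) :
    μ a = μ b := by
  have := ht (a * b⁻¹) e
  rwa [map_mul, map_inv, mul_inv_eq_one] at this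

theorem PJ.ck_fx (h : PJ p φ) {i : ℕ} {c : J} (hc : c ∈ ck φ (i + 1)) (hn : c ∉ φ.ker)
    {μ : ga P (i + 2) →* ℂˣ} (ht : Tr μ (ga P (i + 3))) (hf : Fx φ c μ) : μ = 1 := by
  have key : ∀ w (hw : w ∈ ga P (i + 1)), ∀ y ∈ cm φ, μ ⟨⁅w, y⁆, comm_ga_left hw y⟩ = 1 := by
    intro w hw y hy
    let ρ : cm φ →* ℂˣ := MonoidHom.mk' (fun y => μ ⟨⁅w, (y : P)⁆, comm_ga_left hw _⟩) fun a b => by
      rw [← map_mul]
      refine ck_mul ht ?_
      have := Normal.conj_mem inferInstance _ (comm_ga_right (a : P) (comm_ga_left hw (b : P))) ⁅w, (a : P)⁆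
      convert this using 1
      simp only [coe_mul, commutatorElement_def]; group
    have := fp_hom_eq_one (μ := ρ) h.comm_le_cm (commutator_mono le_top le_top) (iv_cm ⊤ c (mem_top c))
      (fun x hx => ga_inv φ c 1 hx) (h.fp_cm hn) (fun x hx => ht _ (comm_ga (j := 1) hw hx)) fun x y e => by
        refine Eq.trans ?_ (hf ⟨⁅w, (x : P)⁆, comm_ga_left hw _⟩ ⟨_, ga_inv φ c _ (comm_ga_left hw (x : P))⟩ rfl)
        refine (ck_mul ht ?_).symm
        have := Normal.conj_mem inferInstance _ (comm_ga_left (hc w hw) (y : P)) w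
        convert this using 1
        simp only [map_commutatorElement, ← e]
        simp only [commutatorElement_def]; group
    exact DFunLike.congr_fun this ⟨y, hy⟩
  have le : ga P (i + 2) ≤ μ.ker.map (ga P (i + 2)).subtype := by
    refine (h.ga_succ_cm i).le.trans (commutator_le.2 fun w hw y hy => ⟨⟨_, comm_ga_left hw y⟩, key w hw y hy, rfl⟩)
  ext x
  obtain ⟨y, hy, e⟩ := le x.2
  rw [← show y = x from Subtype.ext e, MonoidHom.mem_ker.1 hy]
  rfl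

theorem PJ.ck_fp (h : PJ p φ) {i : ℕ} {c : J} (hc : c ∈ ck φ (i + 1)) (hn : c ∉ φ.ker) :
    Fp φ c (ga P (i + 2)) (ga P (i + 3)) :=
  fp_of_forall h.coprime (fun _ hx => ga_inv φ c _ hx) (fun _ hx => ga_inv φ c _ hx) (ga_comm_le _)
    fun _ ht hf => h.ck_fx hc hn ht hf

theorem PJ.ca1 (h : PJ p φ) (h1 : ck φ 1 = ⊤) :
    ga P 2 = ⊥ ∧ ∃ d, ∀ ψ, IsIrrCharacter P ψ → charDegree ψ ≠ 1 → dg φ ψ = d := by
  have := h.nil
  have h2 : ga P 2 = ⊥ := ga_eq_bot fun x hx => by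
    by_contra hn
    obtain ⟨μ, ht, hμ⟩ := exists_tr_ne (ga_comm_le 2) hx hn
    have k : μ ≠ 1 := fun e => hμ (by rw [e]; rfl)
    obtain ⟨c, hc, hf⟩ := h.lay_outer (i := 1) ht k
    exact k (h.ck_fx (i := 0) (h1.ge (mem_top c)) hc ht hf)
  have h3 : k0 φ ≤ fx φ := sup_le le_rfl fun x hx c _ => by
    have := h1.ge (mem_top c) x hx
    rw [h2, mem_bot, inv_mul_eq_one] at this
    exact this.symm
  have h4 : ∀ ψ, IsIrrCharacter P ψ → charDegree ψ ≠ 1 → stab φ ψ = ⊤ := fun ψ hψ d =>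
    eq_top_iff.2 fun c _ x => by
      by_cases hx : x ∈ k0 φ
      · rw [h3 hx c (mem_top c)]
      · rw [h.vanish hψ d hx, h.vanish hψ d fun k => hx ?_]
        have := iv_k0 ⊤ c⁻¹ (mem_top _) _ k
        rwa [← MulAut.mul_apply, ← map_mul, inv_mul_cancel, map_one, MulAut.one_apply] at this
  refine ⟨h2, ?_⟩
  by_cases e : ∃ η, IsIrrCharacter P η ∧ charDegree η ≠ 1
  · obtain ⟨η, hη, d⟩ := e
    refine ⟨dg φ η, fun ψ hψ d' => ?_⟩
    rw [dg, dg, h4 ψ hψ d', h4 η hη d]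
    congr 1
    rcases le_total (charDegree ψ) (charDegree η) with k | k
    · exact (h.eq_of_le hψ hη d' (le_top.trans (h4 ψ hψ d').ge) k).2
    · exact (h.eq_of_le hη hψ d (le_top.trans (h4 η hη d).ge) k).2.symm
  · exact ⟨0, fun ψ hψ d => absurd ⟨ψ, hψ, d⟩ e⟩

end H84.NDA
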