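import Mathlib
import Cfsg.Agent.Lib.NDA.TS
import Cfsg.Agent.Lib.NDA.GL

/-! Project NDA, package RR. -/

set_option autoImplicit false
open Cfsg Subgroup
open scoped commutatorElement

namespace H84.NDA

variable {J P : Type*} [Group J] [Finite J] [Group P] [Finite P] {φ : J →* MulAut P} {p : ℕ}

omit [Finite P] in
theorem rr_conj {i : ℕ} {μ : ga P i →* ℂˣ} (ht : Tr μ (ga P (i + 1))) (a : P) {z : P}
    (hz : z ∈ ga P i) (h : Tv μ z) : Tv μ (a * z * a⁻¹) := by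
  intro hm
  have h1 : ⁅a, z⁆ ∈ ga P (i + 1) := comm_ga_right a hz
  have e : (⟨a * z * a⁻¹, hm⟩ : ga P i) = ⟨⁅a, z⁆, ga_le i h1⟩ * ⟨z, hz⟩ :=
    Subtype.ext (by simp only [commutatorElement_def, MulMemClass.mk_mul_mk]; group)
  rw [e, map_mul, h hz, ht _ h1, mul_one]

omit [Finite P] in
theorem rr_mul {A : Subgroup P} {μ : A →* ℂˣ} {a b : P} (ha : a ∈ A) (hb : b ∈ A) (h : Tv μ a)
    (h' : Tv μ b) : Tv μ (a * b) := by
  intro hm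
  have e : (⟨a * b, hm⟩ : A) = ⟨a, ha⟩ * ⟨b, hb⟩ := rfl
  rw [e, map_mul, h ha, h' hb, mul_one]

omit [Finite P] in
theorem rr_inv {A : Subgroup P} {μ : A →* ℂˣ} {a : P} (ha : a ∈ A) (h : Tv μ a) : Tv μ a⁻¹ := by
  intro hm
  have e : (⟨a⁻¹, hm⟩ : A) = ⟨a, ha⟩⁻¹ := rfl
  rw [e, map_inv, h ha, inv_one]

/-- the elements whose commutators are killed by `μ`. -/
def rrT {i : ℕ} (μ : ga P (i + 2) →* ℂˣ) (ht : Tr μ (ga P (i + 3))) : Subgroup P where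
  carrier := {y | y ∈ ga P (i + 1) ∧ ∀ x : P, Tv μ ⁅y, x⁆}
  one_mem' := ⟨one_mem _, fun x h => ht _ (by
    show ⁅(1 : P), x⁆ ∈ _
    rw [commutatorElement_one_left]; exact one_mem _)⟩
  mul_mem' := fun {a b} ha hb => ⟨mul_mem ha.1 hb.1, fun x => by
    have e : ⁅a * b, x⁆ = a * ⁅b, x⁆ * a⁻¹ * ⁅a, x⁆ := by
      simp only [commutatorElement_def]; group
    rw [e]
    exact rr_mul (Normal.conj_mem inferInstance _ (comm_ga_left hb.1 x) a) (comm_ga_left ha.1 x)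
      (rr_conj ht a (comm_ga_left hb.1 x) (hb.2 x)) (ha.2 x)⟩
  inv_mem' := fun {a} ha => ⟨inv_mem ha.1, fun x => by
    have e : ⁅a⁻¹, x⁆ = a⁻¹ * ⁅a, x⁆⁻¹ * a⁻¹⁻¹ := by
      simp only [commutatorElement_def]; group
    rw [e]
    exact rr_conj ht _ (inv_mem (comm_ga_left ha.1 x)) (rr_inv (comm_ga_left ha.1 x) (ha.2 x))⟩

theorem rr (hJ : ∀ a b : J, a * b = b * a) {i : ℕ} {μ : ga P (i + 2) →* ℂˣ}
    (ht : Tr μ (ga P (i + 3)))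
    (hc : ∀ ψ, IsIrrCharacter P ψ → Ov ψ μ →
      ∃ c ∈ stab φ ψ, Fp φ c (ga P (i + 1)) (ga P (i + 2)))
    {y : P} (hy : y ∈ ga P (i + 1)) (hn : y ∉ ga P (i + 2)) : ∃ x : P, ¬ Tv μ ⁅y, x⁆ := by
  by_contra! hh
  have hT : rrT μ ht ≤ ga P (i + 1) := fun _ h => h.1
  have hB : ga P (i + 2) ≤ rrT μ ht := fun z hz =>
    ⟨ga_le _ hz, fun x _ => ht _ (comm_ga_left hz x)⟩
  haveI : (rrT μ ht).Normal := normal_of_between hB hT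
  obtain ⟨S, hS⟩ := exists_fxSub (iv_ga φ ⊤ (i + 2)) μ
  have hI : Iv φ S (rrT μ ht) := fun c hc z hz => ⟨ga_inv φ c _ hz.1, fun x hm => by
    have h1 : ⁅z, φ c⁻¹ x⁆ ∈ ga P (i + 2) := comm_ga_left hz.1 _
    rw [(hS c).1 hc ⟨_, h1⟩ ⟨_, hm⟩ (by
      show ⁅φ c z, x⁆ = φ c ⁅z, φ c⁻¹ x⁆
      rw [map_commutatorElement, ← MulAut.mul_apply, ← map_mul, mul_inv_cancel, map_one,
        MulAut.one_apply])]
    exact hz.2 _ h1⟩
  obtain ⟨ν₀, hν₀⟩ := exists_ext hB μ fun a ha b _ => ⟨comm_ga_left ha.1 b, ha.2 b⟩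
  refine hn (ts_lin hJ hB (commutator_le.2 fun a ha b _ => comm_ga_left ha.1 b) hI
    (iv_ga φ S _) ν₀ (fun ν hν => ?_) (show y ∈ rrT μ ht from ⟨hy, hh⟩))
  have hνμ : ∀ x : ga P (i + 2), ν ⟨x, hB x.2⟩ = μ x := fun x => (hν _ x.2).trans (hν₀ x)
  obtain ⟨ψ, hψ, ho⟩ := exists_ov' ν fun g x hx hm => by
    have h1 : ⁅g, x⁆ ∈ ga P (i + 2) := comm_ga_right g hx.1
    rw [show ν ⟨⁅g, x⁆, hm⟩ = μ ⟨_, h1⟩ from hνμ ⟨_, h1⟩]
    have := rr_inv (comm_ga_left hx.1 g) (hx.2 g)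
    rw [commutatorElement_inv] at this
    exact this h1
  have ho' : Ov ψ μ := fun x => by rw [← hνμ x]; exact ho ⟨x, hB x.2⟩
  obtain ⟨c, c1, c2⟩ := hc ψ hψ ho'
  exact ⟨c, (hS c).2 (ho'.fx hψ c1), fun x hx => c2 x hx.1, ho.fx hψ c1⟩

end H84.NDA
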