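import Mathlib
import Cfsg.Agent.Lib.NDA.C1
import Cfsg.Agent.Lib.NDA.RR
import Cfsg.Agent.Lib.NDA.CK

/-! Project NDA, package C3. -/

set_option autoImplicit false
open Cfsg Subgroup
open scoped commutatorElement

namespace H84.NDA

variable {J P : Type*} [Group J] [Finite J] [Group P] [Finite P] {φ : J →* MulAut P} {p : ℕ}

theorem c3_not_le {A : Subgroup P} {μ : A →* ℂˣ} {ψ : P → ℂ} (ho : Ov ψ μ)
    (hψ : IsIrrCharacter P ψ) (h1 : μ ≠ 1) : ¬ A ≤ H6.charKer ψ := fun hle =>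
  h1 (MonoidHom.ext fun x => (ho.mem_ker hψ x).1 (hle x.2))

/-- the commutators with `y` modulo the third term -/
def c3U {y : P} (hy : y ∈ ga P 1) : Subgroup P where
  carrier := {w | w ∈ ga P 2 ∧ ∃ x : P, w⁻¹ * ⁅y, x⁆ ∈ ga P 3}
  one_mem' := ⟨one_mem _, 1, by rw [commutatorElement_one_right, inv_one, mul_one]; exact one_mem _⟩
  mul_mem' := by
    rintro w w' ⟨hw, x, hx⟩ ⟨hw', x', hx'⟩
    refine ⟨mul_mem hw hw', x * x', ?_⟩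
    have hb : ⁅x, ⁅y, x'⁆⁆ ∈ ga P 3 := comm_ga_right x (comm_ga_left hy x')
    have e : (w * w')⁻¹ * ⁅y, x * x'⁆ =
        (w'⁻¹ * ((w⁻¹ * ⁅y, x⁆) * ⁅x, ⁅y, x'⁆⁆) * w'⁻¹⁻¹) * (w'⁻¹ * ⁅y, x'⁆) := by
      simp only [commutatorElement_def]; group
    rw [e]
    exact mul_mem (Normal.conj_mem inferInstance _ (mul_mem hx hb) _) hx'
  inv_mem' := by
    rintro w ⟨hw, x, hx⟩
    refine ⟨inv_mem hw, x⁻¹, ?_⟩
    have hb : ⁅x⁻¹, ⁅y, x⁆⁻¹⁆ ∈ ga P 3 := comm_ga_right x⁻¹ (inv_mem (comm_ga_left hy x))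
    have e : w⁻¹⁻¹ * ⁅y, x⁻¹⁆ = w * (⁅x⁻¹, ⁅y, x⁆⁻¹⁆ * (w⁻¹ * ⁅y, x⁆)⁻¹) * w⁻¹ := by
      simp only [commutatorElement_def]; group
    rw [e]
    exact Normal.conj_mem inferInstance _ (mul_mem hb (inv_mem hx)) _

theorem CJ.r2 (h : CJ p φ) {μ : ga P 2 →* ℂˣ} (ht : Tr μ (ga P 3)) (h1 : μ ≠ 1) {y : P}
    (hy : y ∈ ga P 1) (hn : y ∉ ga P 2) : ∃ x : P, ¬ Tv μ ⁅y, x⁆ := by
  refine rr (φ := φ) h.comm (i := 0) ht (fun ψ hψ ho => ?_) hy hn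
  obtain ⟨c, hc, hc'⟩ := h.not_le hψ (c3_not_le ho hψ h1)
  exact ⟨c, hc, h.lay1.2 c hc'⟩

theorem CJ.r2' (h : CJ p φ) {y w : P} (hy : y ∈ ga P 1) (hn : y ∉ ga P 2) (hw : w ∈ ga P 2) :
    ∃ x : P, w⁻¹ * ⁅y, x⁆ ∈ ga P 3 := by
  have hle : ga P 3 ≤ c3U hy := fun v hv =>
    ⟨ga_le 2 hv, 1, by rw [commutatorElement_one_right, mul_one]; exact inv_mem hv⟩
  by_contra hno
  have hw' : w ∉ c3U hy := fun hh => hno hh.2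
  obtain ⟨μ, ht, hμ⟩ := exists_tr_ne ((ga_comm_le 2).trans hle) hw hw'
  obtain ⟨x, hx⟩ := h.r2 (μ := μ) (fun v hv => ht v (hle hv)) (fun e => hμ (by rw [e]; rfl)) hy hn
  exact hx fun hm => ht _ ⟨hm, x, by rw [inv_mul_cancel]; exact one_mem _⟩

theorem CJ.lay2 (h : CJ p φ) :
    (∀ ψ, IsIrrCharacter P ψ → ga P 3 ≤ H6.charKer ψ → ¬ ga P 2 ≤ H6.charKer ψ →
      charDegree ψ ^ 2 = (ga P 2).index ∧ stab φ ψ = ck φ 2) ∧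
    ∀ c, c ∉ ck φ 2 → Fp φ c (ga P 2) (ga P 3) := by
  refine h.toPJ.lay 1 fun ψ hψ hk hk' x hx => ?_
  obtain ⟨μ, ho⟩ := exists_un (A := ga P 2) hψ hk
  have h1 : μ ≠ 1 := fun e => hk' fun v hv => (ho.mem_ker hψ ⟨v, hv⟩).2 (by rw [e]; rfl)
  by_cases hx1 : x ∈ ga P 1
  · obtain ⟨g, hg⟩ := h.r2 (μ := μ) (fun v hv => (ho.mem_ker hψ v).1 (hk hv)) h1 hx1 hx
    exact (ho.vanish hψ (comm_ga_left hx1 g) hg).1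
  · exact h.toPJ.vanish hψ (ho.deg_ne_one hψ (ga_le 1) h1) (by rwa [h.k0_eq])

theorem CJ.r3 (h : CJ p φ) {μ : ga P 3 →* ℂˣ} (ht : Tr μ (ga P 4)) (h1 : μ ≠ 1) {w : P}
    (hw : w ∈ ga P 2) (hn : w ∉ ga P 3) : ∃ x : P, ¬ Tv μ ⁅w, x⁆ := by
  refine rr (φ := φ) h.comm (i := 1) ht (fun ψ hψ ho => ?_) hw hn
  obtain ⟨c, hc, hc'⟩ := h.toPJ.exists_outer hψ
    (ho.deg_ne_one hψ (ga_anti (by norm_num : 1 ≤ 3)) h1)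
  exact ⟨c, hc, h.lay2.2 c fun hk => h1 (h.toPJ.ck_fx (i := 1) hk hc' ht (ho.fx hψ hc))⟩

end H84.NDA
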