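import Mathlib
import Cfsg.Agent.Lib.NDA.CK

/-! Project NDA, package CA2. -/

set_option autoImplicit false
set_option linter.unusedSectionVars false
open Cfsg Subgroup
open scoped commutatorElement

namespace H84.NDA

variable {J P : Type*} [Group J] [Finite J] [Group P] [Finite P] {φ : J →* MulAut P} {p : ℕ}

theorem ca2_mem (g x : P) : ⁅g, x⁆ ∈ ga P 1 := comm_ga_left (i := 0) (mem_top g) x

theorem ca2_norm {μ : ga P 1 →* ℂˣ} {ψ : P → ℂ} (hψ : IsIrrCharacter P ψ) (ho : Ov ψ μ) {z : P}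
    (hz : ∀ g : P, Tv μ ⁅g, z⁆) : ‖ψ z‖ = ‖ψ 1‖ := by
  have h1 : ∀ a : P, ψ (a * z * a⁻¹ * z⁻¹) = ψ 1 := fun a => by
    have := ho ⟨⁅a, z⁆, ca2_mem a z⟩
    rw [hz a (ca2_mem a z)] at this
    simpa [commutatorElement_def] using this
  have h2 := congrArg (fun w : ℂ => ‖w‖) (H87.mul_eq_of_const hψ h1)
  simp only [norm_mul, H6.char_inv (H6.irr_isCharacter hψ), RCLike.norm_conj] at h2
  exact (mul_self_inj_of_nonneg (norm_nonneg _) (norm_nonneg _)).1 h2.symm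

theorem deg_sq_class_two {μ : ga P 1 →* ℂˣ} (ht : Tr μ (ga P 2)) {ψ : P → ℂ}
    (hψ : IsIrrCharacter P ψ) (ho : Ov ψ μ) {Z : Subgroup P}
    (hZ : ∀ x, x ∈ Z ↔ ∀ g : P, Tv μ ⁅g, x⁆) : charDegree ψ ^ 2 = Z.index := by
  refine H87.deg_sq_eq_index hψ (fun z hz => ca2_norm hψ ho ((hZ z).1 hz)) fun x hx => ?_
  rw [hZ] at hx
  obtain ⟨g, hg⟩ := not_forall.1 hx
  exact (ho.vanish hψ (ca2_mem g x) hg).2

theorem ca2_mul {μ : ga P 1 →* ℂˣ} (ht : Tr μ (ga P 2)) {u v w : P} (hu : u ∈ ga P 1)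
    (hv : v ∈ ga P 1) (hw : w ∈ ga P 2) (e : u = v * w) : μ ⟨u, hu⟩ = μ ⟨v, hv⟩ := by
  have : (⟨u, hu⟩ : ga P 1) = ⟨v, hv⟩ * ⟨w, ga_le 1 hw⟩ := Subtype.ext e
  rw [this, map_mul, ht ⟨w, ga_le 1 hw⟩ hw, mul_one]

theorem ca2_sub {μ : ga P 1 →* ℂˣ} (ht : Tr μ (ga P 2)) :
    ∃ Z : Subgroup P, ∀ x, x ∈ Z ↔ ∀ g : P, Tv μ ⁅g, x⁆ := by
  refine ⟨⟨⟨⟨{x | ∀ g : P, Tv μ ⁅g, x⁆}, ?_⟩, ?_⟩, ?_⟩, fun x => Iff.rfl⟩
  · intro a b ha hb g hm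
    have e : ⁅g, a * b⁆ = (⁅g, a⁆ * ⁅g, b⁆) * ⁅⁅g, b⁆⁻¹, a⁆ := by
      simp only [commutatorElement_def]; group
    rw [ca2_mul ht hm (mul_mem (ca2_mem g a) (ca2_mem g b)) (comm_ga_left (inv_mem (ca2_mem g b)) a) e]
    have : (⟨⁅g, a⁆ * ⁅g, b⁆, mul_mem (ca2_mem g a) (ca2_mem g b)⟩ : ga P 1) =
        ⟨⁅g, a⁆, ca2_mem g a⟩ * ⟨⁅g, b⁆, ca2_mem g b⟩ := rfl
    rw [this, map_mul, ha g, hb g, mul_one]
  · intro g hm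
    have : (⟨⁅g, (1 : P)⁆, hm⟩ : ga P 1) = 1 := Subtype.ext (by simp)
    rw [this, map_one]
  · intro a ha g hm
    have e : ⁅g, a⁻¹⁆ = ⁅g, a⁆⁻¹ * ⁅⁅g, a⁆, a⁻¹⁆ := by
      simp only [commutatorElement_def]; group
    rw [ca2_mul ht hm (inv_mem (ca2_mem g a)) (comm_ga_left (ca2_mem g a) a⁻¹) e]
    have : (⟨⁅g, a⁆⁻¹, inv_mem (ca2_mem g a)⟩ : ga P 1) = (⟨⁅g, a⁆, ca2_mem g a⟩ : ga P 1)⁻¹ := rfl
    rw [this, map_inv, ha g, inv_one]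

theorem PJ.ca2_le (h : PJ p φ) {μ ν : ga P 1 →* ℂˣ} (hμ : Tr μ (ga P 2)) (hν : Tr ν (ga P 2))
    (h1 : μ ≠ 1) (e : ∀ x : ga P 1, (x : P) ∈ fx φ → μ x = ν x) {y : P}
    (hy : ∀ g : P, Tv μ ⁅g, y⁆) (g : P) : Tv ν ⁅g, y⁆ := by
  obtain ⟨ψ, hψ, ho⟩ := exists_ov' μ (tv_ga hμ)
  have hd := ho.deg_ne_one hψ le_rfl h1
  have hk : y ∈ k0 φ := by
    by_contra hn
    have h2 := ca2_norm hψ ho hy
    rw [h.vanish hψ hd hn, norm_zero] at h2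
    exact H6.irr_one_ne_zero hψ (norm_eq_zero.1 h2.symm)
  obtain ⟨z, hz, b, hb, rfl⟩ := mem_sup_of_normal_right.1 hk
  obtain ⟨m, hm, z', hz', rfl⟩ := h.dec g
  have hc : ⁅z', z⁆ ∈ fx φ := by
    rw [commutatorElement_def]
    exact mul_mem (mul_mem (mul_mem hz' hz) (inv_mem hz')) (inv_mem hz)
  have e1 : ⁅m * z', z⁆ = ⁅z', z⁆ := by
    have a1 := h.cm_fx hm hz
    have a2 := h.cm_fx hm hc
    have a3 : ⁅m * z', z⁆ = (m * ⁅z', z⁆) * (z * m⁻¹ * z⁻¹) := by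
      simp only [commutatorElement_def]; group
    have a4 : z * m⁻¹ * z⁻¹ = m⁻¹ := by
      rw [mul_inv_eq_iff_eq_mul, mul_inv_eq_iff_eq_mul, mul_assoc, ← a1, inv_mul_cancel_left]
    rw [a3, a2, a4, mul_inv_cancel_right]
  have e2 : ⁅m * z', z * b⁆ = ⁅z', z⁆ * (z * ⁅m * z', b⁆ * z⁻¹) := by
    rw [← e1]; simp only [commutatorElement_def]; group
  have hw : z * ⁅m * z', b⁆ * z⁻¹ ∈ ga P 2 :=
    Normal.conj_mem inferInstance _ (comm_ga_right (i := 1) _ hb) z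
  intro hm'
  rw [ca2_mul hν hm' (ca2_mem z' z) hw e2, ← e _ hc, ← ca2_mul hμ hm' (ca2_mem z' z) hw e2]
  exact hy _ hm'

theorem PJ.ca2 (h : PJ p φ) (h1 : ck φ 1 ≠ ⊤) : fx φ ⊓ commutator P = ⊥ := by
  haveI := h.nil
  rw [eq_bot_iff]
  rintro x ⟨hx0, hx1⟩
  by_contra hne
  have hfix : ∀ c, x⁻¹ * φ c x = 1 := fun c => by rw [hx0 c (mem_top c), inv_mul_cancel]
  obtain ⟨i, hi, hn⟩ := exists_layer (j := 1) hx1 hne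
  rcases i with _ | k
  swap
  · obtain ⟨c, hc, hcn⟩ := h.ck_outer k
    rw [show 1 + (k + 1) = k + 2 by ring] at hi hn
    exact hn (h.ck_fp hc hcn x hi (by rw [hfix]; exact one_mem _))
  have hi' : x ∈ ga P 1 := hi
  have hn' : x ∉ ga P 2 := hn
  obtain ⟨μ', ht', hf'⟩ := rol_ga (φ := φ) h.comm h.coprime 1
  obtain ⟨μa, hta, hfa, hxa⟩ := av (φ := φ) h.coprime (iv_ga φ ⊤ 1) (iv_ga φ ⊤ 2) (ga_comm_le 1) hi' hn'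
    (fun c _ => by rw [hfix]; exact one_mem _)
  obtain ⟨μ1, ht1, hf1, hx1'⟩ : ∃ μ1 : ga P 1 →* ℂˣ, Tr μ1 (ga P 2) ∧ (∀ c, Fx φ c μ1 → c ∈ ck φ 1) ∧
      μ1 ⟨x, hi'⟩ ≠ 1 := by
    by_cases e : μ' ⟨x, hi'⟩ = 1
    · refine ⟨μ' * μa, fun y hy => ?_, fun c hc => (hf' c).1 fun y y' ey => ?_, ?_⟩
      · rw [MonoidHom.mul_apply, ht' y hy, hta y hy, mul_one]
      · have := hc y y' ey
        rw [MonoidHom.mul_apply, MonoidHom.mul_apply, hfa c (mem_top c) y y' ey] at this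
        exact mul_right_cancel this
      · rwa [MonoidHom.mul_apply, e, one_mul]
    · exact ⟨μ', ht', fun c => (hf' c).1, e⟩
  obtain ⟨μ0, hf0, he0⟩ := ie (φ := φ) h.coprime (iv_ga φ ⊤ 1) μ1
  have hag : ∀ y : ga P 1, (y : P) ∈ fx φ → μ0 y = μ1 y := fun y hy =>
    he0 y fun c hc y' ey => by rw [show y' = y from Subtype.ext (ey.trans (hy c hc))]
  have ht0 : Tr μ0 (ga P 2) := fun y hy => by
    rw [he0 y fun c _ y' ey => by rw [ht1 y hy, ht1 y' (ey ▸ ga_inv φ c 2 hy)], ht1 y hy]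
  have n1 : μ1 ≠ 1 := fun e => hx1' (by rw [e]; rfl)
  have n0 : μ0 ≠ 1 := fun e => hx1' (by rw [← hag ⟨x, hi'⟩ hx0, e]; rfl)
  obtain ⟨ψ0, hψ0, ho0, hs0⟩ := exists_ov (φ := φ) h.coprime (iv_ga φ ⊤ 1) μ0 hf0 (tv_ga ht0)
  obtain ⟨ψ1, hψ1, ho1⟩ := exists_ov' μ1 (tv_ga ht1)
  obtain ⟨Z, hZ⟩ := ca2_sub ht0
  have hZ1 : ∀ y, y ∈ Z ↔ ∀ g : P, Tv μ1 ⁅g, y⁆ := fun y => by
    rw [hZ]
    exact ⟨fun hy => h.ca2_le ht0 ht1 n0 hag hy,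
      fun hy => h.ca2_le ht1 ht0 n1 (fun y hy => (hag y hy).symm) hy⟩
  have hd : charDegree ψ0 = charDegree ψ1 :=
    Nat.pow_left_injective two_ne_zero
      ((deg_sq_class_two ht0 hψ0 ho0 hZ).trans (deg_sq_class_two ht1 hψ1 ho1 hZ1).symm)
  have hs := (h.eq_of_le hψ0 hψ1 (ho0.deg_ne_one hψ0 le_rfl n0) (le_top.trans hs0) hd.le).1
  exact h1 (eq_top_iff.2 fun c hc => hf1 c (ho1.fx hψ1 (hs ▸ hs0 hc)))

end H84.NDA
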