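import Mathlib
import Cfsg.Agent.Lib.NDA.BAS

/-! Project NDA, package GAM1. -/

set_option autoImplicit false
open Cfsg Subgroup
open scoped commutatorElement

namespace H84.NDA

variable {J P : Type*} [Group J] [Finite J] [Group P] [Finite P] {φ : J →* MulAut P} {p : ℕ}

omit [Finite P] in
theorem gam1_mem_ker {A : Subgroup P} (μ : A →* ℂˣ) {g : P} (h : g ∈ A) :
    g ∈ μ.ker.map A.subtype ↔ μ ⟨g, h⟩ = 1 := by
  constructor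
  · rintro ⟨a, ha, rfl⟩
    exact ha
  · intro e
    exact ⟨⟨g, h⟩, e, rfl⟩

omit [Finite P] in
theorem gam1_exists_T (W K : Subgroup P) [hK : K.Normal] :
    ∃ T : Subgroup P, ∀ x, x ∈ T ↔ ∀ w ∈ W, ⁅w, x⁆ ∈ K := by
  refine ⟨{ carrier := {x | ∀ w ∈ W, ⁅w, x⁆ ∈ K}
            one_mem' := fun w _ => by rw [commutatorElement_one_right]; exact one_mem _
            mul_mem' := fun {a b} ha hb w hw => ?_
            inv_mem' := fun {a} ha w hw => ?_ }, fun x => Iff.rfl⟩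
  · have e : ⁅w, a * b⁆ = ⁅w, a⁆ * (a * ⁅w, b⁆ * a⁻¹) := by
      simp only [commutatorElement_def]; group
    rw [e]
    exact mul_mem (ha w hw) (hK.conj_mem _ (hb w hw) a)
  · have e : ⁅w, a⁻¹⁆ = a⁻¹ * ⁅w, a⁆⁻¹ * a⁻¹⁻¹ := by
      simp only [commutatorElement_def]; group
    rw [e]
    exact hK.conj_mem _ (inv_mem (ha w hw)) _

theorem gam1_core {W K : Subgroup P} [hKn : K.Normal] (hKW : K ≤ W) {θ : W →* ℂˣ}
    (hθK : ∀ k ∈ K, ∀ h : k ∈ W, θ ⟨k, h⟩ = 1) {c : J} (hcK : ∀ k ∈ K, φ c k ∈ K)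
    (hcW : ∀ w ∈ W, φ c⁻¹ w ∈ W) (h0 : Fp φ c ⊤ (commutator P)) (hf : Fx φ c θ) {y x : P}
    (hy : ∀ g, ⁅y, g⁆ ∈ W) (hw : y⁻¹ * φ c y ∈ W)
    (hWK : ∀ w ∈ W, ∀ g ∈ commutator P, ⁅w, g⁆ ∈ K)
    (h1 : ∀ g ∈ commutator P, ⁅y, g⁆ ∈ K) (h2 : ∀ w ∈ W, ⁅w, x⁆ ∈ K) : Tv θ ⁅y, x⁆ := by
  obtain ⟨T, hT⟩ := gam1_exists_T W K
  have h1T : commutator P ≤ T := fun g hg => (hT g).mpr fun w hw => hWK w hw g hg
  have hxT : x ∈ T := (hT x).mpr h2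
  have hcT : ∀ g ∈ T, φ c g ∈ T := fun g hg => (hT _).mpr fun w hw => by
    have e : ⁅w, φ c g⁆ = φ c ⁅φ c⁻¹ w, g⁆ := by
      rw [map_commutatorElement, ← MulAut.mul_apply, ← map_mul, mul_inv_cancel, map_one,
        MulAut.one_apply]
    rw [e]
    exact hcK _ ((hT g).mp hg _ (hcW w hw))
  let ρ : T →* ℂˣ := MonoidHom.mk' (fun g => θ ⟨⁅y, (g : P)⁆, hy _⟩) fun a b => by
    have hk : ⁅⁅y, (b : P)⁆, (a : P)⁆⁻¹ ∈ K := inv_mem ((hT a).mp a.2 _ (hy _))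
    have e : (⟨⁅y, ((a * b : T) : P)⁆, hy _⟩ : W) =
        ⟨⁅y, (a : P)⁆, hy _⟩ * (⟨_, hKW hk⟩ * ⟨⁅y, (b : P)⁆, hy _⟩) := by
      apply Subtype.ext
      simp only [Subgroup.coe_mul, commutatorElement_def]; group
    rw [e, map_mul, map_mul, hθK _ hk, one_mul]
  have hρ : ∀ g : T, ρ g = θ ⟨⁅y, (g : P)⁆, hy _⟩ := fun g => rfl
  have htr : Tr ρ (commutator P) := fun g hg => by
    rw [hρ]
    exact hθK _ (h1 _ hg) _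
  have hfx : Fx φ c ρ := fun a b hab => by
    rw [hρ, hρ]
    have hk : y * ⁅y⁻¹ * φ c y, (b : P)⁆ * y⁻¹ ∈ K := hKn.conj_mem _ ((hT b).mp b.2 _ hw) y
    have e := hf ⟨⁅y, (a : P)⁆, hy _⟩ (⟨_, hKW hk⟩ * ⟨⁅y, (b : P)⁆, hy _⟩) (by
        rw [Subgroup.coe_mul, map_commutatorElement, ← hab]
        simp only [commutatorElement_def]; group)
    rwa [map_mul, hθK _ hk, one_mul] at e
  have hone : ρ = 1 := fp_hom_eq_one (φ := φ) (c := c) h1T (commutator_mono le_top le_top) hcT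
    (fun g hg => ga_inv φ c 1 hg) (fun g _ hg => h0 g (mem_top g) hg) htr hfx
  intro h
  have := hρ ⟨x, hxT⟩
  rw [hone] at this
  exact this.symm

theorem gam1 {μ : ga P 3 →* ℂˣ} (ht : Tr μ (ga P 4)) {θ : ga P 2 →* ℂˣ}
    (hθ : ∀ x : ga P 3, θ ⟨x, ga_le 2 x.2⟩ = μ x) {c : J} (hc : c ∈ ck φ 1)
    (h0 : Fp φ c ⊤ (ga P 1)) (hf : Fx φ c θ) {y x : P} (hy : y ∈ ga P 1)
    (h1 : ∀ y' ∈ ga P 1, Tv μ ⁅y, y'⁆) (h2 : ∀ w ∈ ga P 2, Tv μ ⁅w, x⁆) : Tv θ ⁅y, x⁆ := by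
  obtain ⟨K, hK3, hK⟩ : ∃ K : Subgroup P, K ≤ ga P 3 ∧
      ∀ g (h : g ∈ ga P 3), g ∈ K ↔ μ ⟨g, h⟩ = 1 :=
    ⟨μ.ker.map (ga P 3).subtype, map_subtype_le _, fun g h => gam1_mem_ker μ h⟩
  have h4K : ga P 4 ≤ K := fun g hg => (hK g (ga_le 3 hg)).mpr (ht _ hg)
  haveI hKn : K.Normal := normal_of_between (i := 3) h4K hK3
  have hθK : ∀ k ∈ K, ∀ h : k ∈ ga P 2, θ ⟨k, h⟩ = 1 := fun k hk h =>
    (hθ ⟨k, hK3 hk⟩).trans ((hK k (hK3 hk)).mp hk)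
  have hcK : ∀ k ∈ K, φ c k ∈ K := fun k hk => by
    have h3 : φ c k ∈ ga P 3 := ga_inv φ c 3 (hK3 hk)
    refine (hK _ h3).mpr ((hθ ⟨_, h3⟩).symm.trans ?_)
    exact (hf ⟨k, ga_le 2 (hK3 hk)⟩ ⟨φ c k, ga_le 2 h3⟩ rfl).trans (hθK k hk _)
  refine gam1_core (hK3.trans (ga_le 2)) hθK hcK (fun w hw => ga_inv φ c⁻¹ 2 hw) h0 hf
    (fun g => comm_ga_left hy g) (hc y hy) (fun w hw g hg => h4K (comm_ga (j := 1) hw hg))
    (fun g hg => ?_) (fun w hw => ?_)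
  · exact (hK _ (comm_ga (j := 1) hy hg)).mpr (h1 g hg _)
  · exact (hK _ (comm_ga_left hw x)).mpr (h2 w hw _)

end H84.NDA
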