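import Mathlib
import Cfsg.Agent.Lib.NDA.GAM1
import Cfsg.Agent.Lib.NDA.C1
import Cfsg.Agent.Lib.NDA.CK

/-! Project NDA, package GAM. -/

set_option autoImplicit false
open Cfsg Subgroup
open scoped commutatorElement

namespace H84.NDA

variable {J P : Type*} [Group J] [Finite J] [Group P] [Finite P] {φ : J →* MulAut P} {p : ℕ}

/-- elements of `ga P 1` whose commutators with `ga P 1` lie in the normal subgroup `D`. -/
def gamSub (D : Subgroup P) [hD : D.Normal] : Subgroup P where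
  carrier := {x | x ∈ ga P 1 ∧ ∀ g ∈ ga P 1, ⁅x, g⁆ ∈ D}
  one_mem' := ⟨one_mem _, fun g _ => by rw [commutatorElement_one_left]; exact one_mem _⟩
  mul_mem' := fun {a b} ha hb => ⟨mul_mem ha.1 hb.1, fun g hg => by
    have e : ⁅a * b, g⁆ = (a * ⁅b, g⁆ * a⁻¹) * ⁅a, g⁆ := by
      simp only [commutatorElement_def]; group
    rw [e]
    exact mul_mem (hD.conj_mem _ (hb.2 g hg) a) (ha.2 g hg)⟩
  inv_mem' := fun {a} ha => ⟨inv_mem ha.1, fun g hg => by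
    have e : ⁅a⁻¹, g⁆ = a⁻¹ * ⁅a, g⁆⁻¹ * a⁻¹⁻¹ := by
      simp only [commutatorElement_def]; group
    rw [e]
    exact hD.conj_mem _ (inv_mem (ha.2 g hg)) _⟩

omit [Finite P] in
theorem gam_mem_D {A : Subgroup P} {μ : A →* ℂˣ} {x : P} (hx : x ∈ A) :
    x ∈ μ.ker.map A.subtype ↔ Tv μ x := by
  constructor
  · rintro ⟨z, hz, rfl⟩ _
    exact hz
  · intro h
    exact ⟨⟨x, hx⟩, h hx, rfl⟩

theorem CJ.gam (h : CJ p φ) {μ : ga P 3 →* ℂˣ} (ht : Tr μ (ga P 4)) (h1 : μ ≠ 1)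
    (hf : ∀ c ∈ ck φ 1, Fx φ c μ) {y : P} (hy : y ∈ ga P 1)
    (h2 : ∀ y' ∈ ga P 1, Tv μ ⁅y, y'⁆) : y ∈ ga P 2 := by
  obtain ⟨S, hS⟩ := exists_fxSub (iv_ga φ ⊤ 3) μ
  obtain ⟨θ, hθ, e0⟩ := ie_ext h.toPJ.coprime (S := S) (iv_ga φ S 2) (iv_ga φ S 3) (ga_le 2) μ
    (fun c hc => (hS c).1 hc) (fun x hx z hz => ⟨ga_anti (i := 3) (j := 2 + 2 + 1) (by norm_num) (comm_ga hx hz),
      fun hm => ht _ (ga_anti (i := 4) (j := 2 + 2 + 1) (by norm_num) (comm_ga hx hz))⟩)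
  set D : Subgroup P := μ.ker.map (ga P 3).subtype with hDdef
  have hD3 : D ≤ ga P 3 := map_subtype_le _
  have hD4 : ga P 4 ≤ D := fun x hx => (gam_mem_D (ga_le 3 hx)).2 fun _ => ht _ hx
  have hDn : D.Normal := normal_of_between hD4 hD3
  have hDi : Iv φ S D := by
    intro c hc x hx
    have hx3 := hD3 hx
    refine (gam_mem_D (ga_inv φ c 3 hx3)).2 fun hm => ?_
    rw [(hS c).1 hc ⟨x, hx3⟩ ⟨_, hm⟩ rfl]
    exact (gam_mem_D hx3).1 hx hx3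
  set T : Subgroup P := gamSub D with hTdef
  have hT1 : T ≤ ga P 1 := fun x hx => hx.1
  have hT2 : ga P 2 ≤ T := fun x hx => ⟨ga_le 1 hx, fun g hg => hD4 (comm_ga (i := 2) (j := 1) hx hg)⟩
  have hT3 : ga P 3 ≤ T := (ga_le 2).trans hT2
  have hTn : T.Normal := normal_of_between hT2 hT1
  have hTi : Iv φ S T := by
    intro c hc x hx
    refine ⟨ga_inv φ c 1 hx.1, fun g hg => ?_⟩
    have e : ⁅φ c x, g⁆ = φ c ⁅x, φ c⁻¹ g⁆ := by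
      rw [map_commutatorElement, ← MulAut.mul_apply, ← map_mul, mul_inv_cancel, map_one,
        MulAut.one_apply]
    rw [e]
    exact hDi c hc _ (hx.2 _ (ga_inv φ _ 1 hg))
  have hTv : ∀ x ∈ T, ∀ z ∈ ga P 1, Tv μ ⁅x, z⁆ := fun x hx z hz =>
    (gam_mem_D (comm_ga (i := 1) (j := 1) hx.1 hz)).1 (hx.2 z hz)
  obtain ⟨ν₀, hν₀⟩ := exists_ext hT2 θ (fun x hx z hz => by
    have h3 : ⁅x, z⁆ ∈ ga P 3 := comm_ga (i := 1) (j := 1) hx.1 hz.1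
    refine ⟨ga_le 2 h3, fun hm => ?_⟩
    rw [show θ ⟨⁅x, z⁆, hm⟩ = μ ⟨_, h3⟩ from e0 ⟨_, h3⟩]
    exact hTv x hx z hz.1 h3)
  obtain ⟨c₂, hc₂, hn₂⟩ := h.toPJ.ck_outer 0
  have hle : T ≤ ga P 2 := by
    refine ts_lin h.comm hT2 ((commutator_mono hT1 hT1).trans (ga_comm_le 1)) hTi (iv_ga φ S 2) ν₀
      fun ν hν => ?_
    have eν : ∀ (x : P) (hx : x ∈ ga P 2), ν ⟨x, hT2 hx⟩ = θ ⟨x, hx⟩ := fun x hx =>
      (hν ⟨x, hT2 hx⟩ hx).trans (hν₀ ⟨x, hx⟩)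
    have eμ : ∀ x : ga P 3, ν ⟨x, hT3 x.2⟩ = μ x := fun x =>
      (eν x (ga_le 2 x.2)).trans (e0 x)
    obtain ⟨ψ, hψ, hov⟩ := H87.exists_over (H6.isIrrCharacter_hom ν)
    have hO : Ov ψ μ := ov_of_over (tv_ga ht) hψ (over_res hT3 eμ hψ hov)
    have hk : ¬ ga P 2 ≤ H6.charKer ψ := fun hk =>
      h1 (MonoidHom.ext fun x => (hO.mem_ker hψ x).1 (hk (ga_le 2 x.2)))
    obtain ⟨c, hc, hn⟩ := h.not_le hψ hk
    have hcS : c ∈ S := (hS c).2 (hO.fx hψ hc)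
    refine ⟨c, hcS, fun x hx hm => h.lay1.2 c hn x (hT1 hx) hm, ?_⟩
    obtain ⟨g, hg⟩ := over_fx hψ hov (hTi c hcS) hc
    have key : ∀ x : T, ν ⟨g * x * g⁻¹, hTn.conj_mem _ x.2 g⟩ * ν ⟨⁅(x : P), g⁆,
        hT2 (comm_ga_left (i := 1) (hT1 x.2) g)⟩ * (ν x)⁻¹ = 1 := by
      intro x
      rw [mul_comm (ν ⟨g * x * g⁻¹, _⟩), ← map_mul, ← map_inv, ← map_mul, ← map_one ν]
      congr 1
      apply Subtype.ext
      simp only [coe_mul, coe_inv, commutatorElement_def, OneMemClass.coe_one]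
      group
    have hw : ∀ w ∈ ga P 2, Tv μ ⁅w, g⁆ := by
      intro w hw hm
      have k := key ⟨w, hT2 hw⟩
      rw [← hg ⟨w, hT2 hw⟩ ⟨φ c w, hT2 (ga_inv φ c 2 hw)⟩ rfl, eν _ (ga_inv φ c 2 hw),
        hθ c hcS ⟨w, hw⟩ ⟨_, ga_inv φ c 2 hw⟩ rfl, ← eν w hw, mul_inv_cancel_comm] at k
      rw [← eμ ⟨_, hm⟩]
      exact k
    intro x z hz
    have k := key x
    have k2 := gam1 ht e0 hc₂ (h.fp0 hn₂) (hθ c₂ ((hS c₂).2 (hf c₂ hc₂))) (hT1 x.2)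
      (hTv x x.2) hw (comm_ga_left (i := 1) (hT1 x.2) g)
    rw [← hg x z hz, eν _ (comm_ga_left (i := 1) (hT1 x.2) g), k2, mul_one, mul_inv_eq_one] at k
    exact k
  exact hle ⟨hy, fun g hg => (gam_mem_D (comm_ga (i := 1) (j := 1) hy hg)).2 (h2 g hg)⟩

end H84.NDA
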