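import Mathlib
import Cfsg.Agent.Lib.NDA.ST

/-! Project NDA, package RED. -/

set_option autoImplicit false
open Cfsg Subgroup
open scoped commutatorElement

namespace H84.NDA

variable {J P : Type*} [Group J] [Finite J] [Group P] [Finite P] {φ : J →* MulAut P} {p : ℕ}

theorem red_irr {M : Subgroup P} (hd : ∀ g : P, ∃ m ∈ M, ∃ z ∈ center P, g = m * z) {ψ : P → ℂ}
    (hψ : IsIrrCharacter P ψ) : IsIrrCharacter M (fun x : M => ψ x) := by
  obtain ⟨n, ρ, hρ, rfl⟩ := hψ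
  refine ⟨n, ρ.comp M.subtype, ?_, rfl⟩
  have h1 := (H6.isIrreducible_iff ρ).1 hρ
  rw [H6.isIrreducible_iff]
  refine ⟨h1.1, fun U hU => h1.2 U fun g v hv => ?_⟩
  obtain ⟨m, hm, z, hz, rfl⟩ := hd g
  obtain ⟨c, hc⟩ := H8.exists_scalar_of_mem_center ρ hz
  rw [map_mul, hc, Module.End.mul_apply]
  exact hU ⟨m, hm⟩ _ (U.smul_mem c hv)

theorem red_mul {ψ : P → ℂ} (hψ : IsIrrCharacter P ψ) {z : P} (hz : z ∈ center P) :
    ∃ c : ℂ, ∀ x, ψ (x * z) = c * ψ x := by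
  obtain ⟨n, ρ, hρ, rfl⟩ := hψ
  obtain ⟨c, hc⟩ := H8.exists_scalar_of_mem_center ρ hz
  exact ⟨c, fun x => by simp [Representation.character, hc]⟩

variable (φ) in
/-- the restriction of the action to `M`. -/
def red_res : J →* MulAut (cm φ) where
  toFun c :=
    { toFun := fun x => ⟨φ c (x : P), iv_cm (φ := φ) ⊤ c (mem_top c) (x : P) x.2⟩
      invFun := fun x => ⟨φ c⁻¹ (x : P), iv_cm (φ := φ) ⊤ c⁻¹ (mem_top _) (x : P) x.2⟩
      left_inv := fun x => Subtype.ext (by simp)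
      right_inv := fun x => Subtype.ext (by simp)
      map_mul' := fun x y => Subtype.ext (map_mul (φ c) _ _) }
  map_one' := MulEquiv.ext fun x => Subtype.ext (by simp)
  map_mul' a b := MulEquiv.ext fun x => Subtype.ext (by simp)

theorem red_coe (c : J) (x : cm φ) : (red_res φ c x : P) = φ c x := rfl

theorem red_cen (h : PJ p φ) (h0 : fx φ ⊓ commutator P = ⊥) : fx φ ≤ center P := fun z hz => by
  refine mem_center_iff.2 fun g => ?_
  obtain ⟨m, hm, z', hz', rfl⟩ := h.dec g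
  have e1 : ⁅z', z⁆ ∈ fx φ := mul_mem (mul_mem (mul_mem hz' hz) (inv_mem hz')) (inv_mem hz)
  have e : ⁅z', z⁆ = 1 := mem_bot.1 (h0 ▸ ⟨e1, commutator_mem_commutator (mem_top _) (mem_top _)⟩)
  rw [mul_assoc, commutatorElement_eq_one_iff_mul_comm.1 e, ← mul_assoc, h.cm_fx hm hz, mul_assoc]

theorem red_stab (h : PJ p φ) {ψ : P → ℂ} (hψ : ∀ z ∈ fx φ, ∃ c : ℂ, ∀ x, ψ (x * z) = c * ψ x) :
    stab (red_res φ) (fun x : cm φ => ψ x) = stab φ ψ := by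
  refine le_antisymm (fun c hc g => ?_) fun c hc x => hc x
  obtain ⟨m, hm, z, hz, rfl⟩ := h.dec g
  obtain ⟨ω, e⟩ := hψ z hz
  rw [map_mul, H2.mem_fixSub_top.1 hz c, e, e]
  exact congrArg (ω * ·) (hc ⟨m, hm⟩)

theorem red_ker (h : PJ p φ) : (red_res φ).ker = φ.ker := by
  ext c
  simp only [MonoidHom.mem_ker]
  refine ⟨fun e => MulEquiv.ext fun g => ?_, fun e => MulEquiv.ext fun x => Subtype.ext ?_⟩
  · obtain ⟨m, hm, z, hz, rfl⟩ := h.dec g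
    rw [map_mul, H2.mem_fixSub_top.1 hz c, ← red_coe c ⟨m, hm⟩, e]
    rfl
  · rw [red_coe, e]; rfl

theorem red_ga (h : PJ p φ) (i : ℕ) : (cm φ).lowerCentralSeries (i + 1) = ga P (i + 1) := by
  induction i with
  | zero => exact h.cm_comm
  | succ i ih => rw [h.ga_succ_cm, ← ih]; rfl

theorem PJ.red (h : PJ p φ) (h0 : fx φ ⊓ commutator P = ⊥) :
    ∃ φ' : J →* MulAut (cm φ), CJ p φ' ∧
      (∀ ψ, IsIrrCharacter P ψ → ∃ θ, IsIrrCharacter (cm φ) θ ∧ charDegree θ = charDegree ψ ∧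
        dg φ' θ = dg φ ψ) ∧ (ga (cm φ) 3 = ⊥ → ga P 3 = ⊥) := by
  have hc := red_cen h h0
  have irr : ∀ ψ, IsIrrCharacter P ψ → IsIrrCharacter (cm φ) (fun x : cm φ => ψ x) := fun ψ hψ =>
    red_irr (fun g => let ⟨m, hm, z, hz, e⟩ := h.dec g; ⟨m, hm, z, hc hz, e⟩) hψ
  have edg : ∀ ψ, IsIrrCharacter P ψ → dg (red_res φ) (fun x : cm φ => ψ x) = dg φ ψ := fun ψ hψ => by
    rw [dg, dg, red_stab h fun z hz => red_mul hψ (hc hz), H87.deg_res]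
  have all : ∀ θ, IsIrrCharacter (cm φ) θ → ∃ ψ, IsIrrCharacter P ψ ∧ dg (red_res φ) θ = dg φ ψ :=
    fun θ hθ => by
      have := Fintype.ofFinite (cm φ)
      obtain ⟨ψ, hψ, o⟩ := H87.exists_over hθ
      exact ⟨ψ, hψ, by rw [← H6.irr_eq_of_inner_ne_zero (irr ψ hψ) hθ (H87.over_iff.1 o), edg ψ hψ]⟩
  have mp : ∀ i, (ga (cm φ) (i + 1)).map (cm φ).subtype = ga P (i + 1) := fun i => by
    rw [← red_ga h, ← top_subtype_lowerCentralSeries]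
  refine ⟨red_res φ, ⟨⟨h.prime, h.pg.to_subgroup _, h.cop, h.comm, fun θ η hθ hη => ?_, ?_,
    red_ker h ▸ h.ne, fun e => h.nab ?_⟩, ?_⟩,
    fun ψ hψ => ⟨_, irr ψ hψ, H87.deg_res _ _, edg ψ hψ⟩, fun e => ?_⟩
  · obtain ⟨ψ, hψ, e⟩ := all θ hθ
    obtain ⟨ψ', hψ', e'⟩ := all η hη
    rw [e, e']
    exact h.nd ψ ψ' hψ hψ'
  · obtain ⟨lam, e⟩ := h.lin
    refine ⟨lam.comp (cm φ).subtype, ?_⟩
    rw [red_ker h, ← e]
    exact red_stab h (ψ := fun x => (lam x : ℂ)) fun z _ => ⟨lam z, fun x => by simp [mul_comm]⟩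
  · rw [← ga_one, ← mp 0, ga_one, e, Subgroup.map_bot]
  · refine eq_bot_iff.2 fun x hx => mem_bot.2 (Subtype.ext ?_)
    have hf : (x : P) ∈ fx φ := H2.mem_fixSub_top.2 fun c =>
      congrArg Subtype.val (H2.mem_fixSub_top.1 hx c)
    exact mem_bot.1 (h0 ▸ ⟨hf, h.cm_inf ▸ ⟨x.2, mem_sup_left hf⟩⟩)
  · rw [← mp 2, e, Subgroup.map_bot]

end H84.NDA
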