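import Mathlib
import Cfsg.Agent.Lib.NDA.C3
import Cfsg.Agent.Lib.NDA.GAM
import Cfsg.Agent.Lib.NDA.BRG2
import Cfsg.Agent.Lib.NDA.CA2
import Cfsg.Agent.Lib.NDA.RED

/-! Project NDA, package C4. -/

set_option autoImplicit false
open Cfsg Subgroup
open scoped commutatorElement

namespace H84.NDA

variable {J P : Type*} [Group J] [Finite J] [Group P] [Finite P] {φ : J →* MulAut P} {p : ℕ}

theorem c4_comm {Q : Type*} [Group Q] {y y' w w' : Q} (h1 : Commute w y') (h2 : Commute w w')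
    (h3 : Commute w' y) : ⁅y * w, y' * w'⁆ = ⁅y, y'⁆ := by
  have e1 : w * (y' * w') * w⁻¹ = y' * w' := by rw [(h1.mul_right h2).eq]; group
  have e2 : w' * y⁻¹ * w'⁻¹ = y⁻¹ := by rw [h3.inv_right.eq]; group
  simp only [commutatorElement_def]
  calc _ = y * (w * (y' * w') * w⁻¹) * y⁻¹ * (y' * w')⁻¹ := by group
    _ = y * y' * (w' * y⁻¹ * w'⁻¹) * y'⁻¹ := by rw [e1]; group
    _ = _ := by rw [e2]

theorem c4_mod {N : Subgroup P} [N.Normal] {y y' w w' : P} (h1 : ⁅w, y'⁆ ∈ N) (h2 : ⁅w, w'⁆ ∈ N)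
    (h3 : ⁅w', y⁆ ∈ N) : ⁅y, y'⁆⁻¹ * ⁅y * w, y' * w'⁆ ∈ N := by
  have key : ∀ {a b : P}, ⁅a, b⁆ ∈ N →
      Commute (QuotientGroup.mk' N a) (QuotientGroup.mk' N b) := fun {a b} h => by
    rw [← commutatorElement_eq_one_iff_commute, ← map_commutatorElement]
    exact (QuotientGroup.eq_one_iff _).2 h
  have e := c4_comm (key h1) (key h2) (key h3)
  rw [← map_mul, ← map_mul, ← map_commutatorElement, ← map_commutatorElement] at e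
  exact QuotientGroup.eq.1 e.symm

theorem c4_fix {c : J} (hc : c ∈ ck φ 1) {y y' : P} (hy : y ∈ ga P 1) (hy' : y' ∈ ga P 1) :
    ⁅y, y'⁆⁻¹ * φ c ⁅y, y'⁆ ∈ ga P 4 := by
  have hw : y⁻¹ * φ c y ∈ ga P 2 := mem_ck.1 hc y hy
  have hw' : y'⁻¹ * φ c y' ∈ ga P 2 := mem_ck.1 hc y' hy'
  have e := c4_mod (N := ga P 4) (y := y) (y' := y') (comm_ga (i := 2) (j := 1) hw hy')
    (ga_anti (i := 4) (j := 2 + 2 + 1) (by omega) (comm_ga (i := 2) (j := 2) hw hw'))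
    (comm_ga (i := 2) (j := 1) hw' hy)
  rwa [mul_inv_cancel_left, mul_inv_cancel_left, ← map_commutatorElement] at e

theorem CJ.ga3 (h : CJ p φ) : ga P 3 = ⊥ := by
  have := Fact.mk h.prime
  have := h.nil
  refine ga_eq_bot fun x hx => by_contra fun hn => ?_
  have nf := fun {μ : ga P 3 →* ℂˣ} (ht : Tr μ (ga P 4)) (h1 : μ ≠ 1) =>
    no_four h.pow (fun x hx b hb => h.cam hx hb) (fun y hy hn w hw => h.r2' hy hn hw) ht h1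
      (fun w hw hn => h.r3 ht h1 hw hn)
  have c3 : ⁅ga P 3, ga P 3⁆ ≤ ga P 4 := ga_comm_le 3
  by_cases e : ∀ y ∈ ga P 1, ∀ y' ∈ ga P 1, ⁅y, y'⁆ ∈ ga P 4
  · obtain ⟨μ, ht, h1⟩ := exists_tr_ne (B := ga P 4) c3 hx hn
    exact nf ht (fun e => h1 (by rw [e]; rfl)) (Or.inl fun y hy y' hy' hm => ht _ (e y hy y' hy'))
  · push Not at e
    obtain ⟨y, hy, y', hy', e⟩ := e
    have m3 : ⁅y, y'⁆ ∈ ga P 3 := comm_ga (i := 1) (j := 1) hy hy'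
    obtain ⟨μ, ht, hf, h1⟩ := av h.coprime (iv_ga φ (ck φ 1) 3) (iv_ga φ _ 4) c3
      m3 e fun c hc => c4_fix hc hy hy'
    have h1' : μ ≠ 1 := fun e => h1 (by rw [e]; rfl)
    exact nf ht h1' (Or.inr fun y hy h2 => h.gam ht h1' hf hy h2)

theorem CJ.two (h : CJ p φ) :
    ∃ d e, ∀ ψ, IsIrrCharacter P ψ → charDegree ψ ≠ 1 → dg φ ψ = d ∨ dg φ ψ = e := by
  refine ⟨(ck φ 1).index * (ga P 1).index.sqrt, (ck φ 2).index * (ga P 2).index.sqrt,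
    fun ψ hψ h1 => ?_⟩
  by_cases e : ga P 2 ≤ H6.charKer ψ
  · obtain ⟨e1, e2⟩ := h.lay1.1 ψ hψ e fun k => h1 (H87.deg_eq_one_of_commutator_le hψ k)
    exact Or.inl (by rw [dg, e2, ← e1, Nat.sqrt_eq'])
  · obtain ⟨e1, e2⟩ := h.lay2.1 ψ hψ (h.ga3 ▸ bot_le) e
    exact Or.inr (by rw [dg, e2, ← e1, Nat.sqrt_eq'])

theorem PJ.pm (h : PJ p φ) : ga P 3 = ⊥ ∧
    ∃ d e, ∀ ψ, IsIrrCharacter P ψ → charDegree ψ ≠ 1 → dg φ ψ = d ∨ dg φ ψ = e := by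
  by_cases e : ck φ 1 = ⊤
  · obtain ⟨e1, d, hd⟩ := h.ca1 e
    exact ⟨le_bot_iff.1 (e1 ▸ ga_le 2), d, d, fun ψ hψ h1 => Or.inl (hd ψ hψ h1)⟩
  · obtain ⟨φ', c, h1, h2⟩ := h.red (h.ca2 e)
    obtain ⟨d, d', hd⟩ := c.two
    refine ⟨h2 c.ga3, d, d', fun ψ hψ n1 => ?_⟩
    obtain ⟨θ, hθ, e1, e2⟩ := h1 ψ hψ
    rw [← e2]
    exact hd θ hθ (e1 ▸ n1)

end H84.NDA
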