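import Mathlib
import Cfsg.Agent.Lib.NDA.Defs

/-! Project NDA, package DL. -/

set_option autoImplicit false
open Cfsg Subgroup
open scoped commutatorElement

namespace H84.NDA

variable {G : Type*} [Group G] [Finite G] {p : ℕ}

omit [Finite G] in
theorem dl_surj {B H : Subgroup G} [B.Normal] (h2 : B ⊔ H = ⊤) :
    Function.Surjective ((QuotientGroup.mk' B).comp H.subtype) := fun q => by
  obtain ⟨g, rfl⟩ := QuotientGroup.mk'_surjective B q
  obtain ⟨b, hb, h, hh, rfl⟩ := mem_sup_of_normal_left.mp (h2 ▸ mem_top g : g ∈ B ⊔ H)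
  refine ⟨⟨h, hh⟩, ?_⟩
  rw [map_mul, show QuotientGroup.mk' B b = 1 from (QuotientGroup.eq_one_iff b).mpr hb, one_mul]
  rfl

omit [Finite G] in
theorem dl_index {B H T : Subgroup G} [B.Normal] (h2 : B ⊔ H = ⊤) (hT : B ≤ T) :
    (T.subgroupOf H).index = T.index := by
  have e : (T.map (QuotientGroup.mk' B)).comap (QuotientGroup.mk' B) = T :=
    comap_map_eq_self (by rwa [QuotientGroup.ker_mk'])
  rw [← e, index_comap_of_surjective _ (QuotientGroup.mk'_surjective B), subgroupOf, comap_comap,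
    index_comap_of_surjective _ (dl_surj h2)]

theorem compl_infl {B H : Subgroup G} [B.Normal] (h1 : B ⊓ H = ⊥) (h2 : B ⊔ H = ⊤) {θ : H → ℂ}
    (hθ : IsIrrCharacter H θ) :
    ∃ χ, IsIrrCharacter G χ ∧ B ≤ H6.charKer χ ∧ ∀ x : H, χ x = θ x := by
  have hi : Function.Injective ((QuotientGroup.mk' B).comp H.subtype) :=
    (injective_iff_map_eq_one _).mpr fun x hx => Subtype.ext
      (mem_bot.mp (h1 ▸ (⟨(QuotientGroup.eq_one_iff _).mp hx, x.2⟩ : (x : G) ∈ B ⊓ H)))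
  let e := MulEquiv.ofBijective _ ⟨hi, dl_surj h2⟩
  have h := H6.isIrrCharacter_comp_surjective e.symm.toMonoidHom e.symm.surjective hθ
  exact ⟨_, H87.isIrr_infl B h, H87.le_charKer_infl B (fun q => θ (e.symm.toMonoidHom q)), fun x =>
    congrArg θ (e.symm_apply_apply x)⟩

theorem compl_res {B H : Subgroup G} [B.Normal] (h2 : B ⊔ H = ⊤) {χ : G → ℂ}
    (hχ : IsIrrCharacter G χ) (hk : B ≤ H6.charKer χ) :
    IsIrrCharacter H (fun x : H => χ x) := by
  obtain ⟨ψ, hψ, e⟩ := H6.exists_irr_quotient hχ B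
    fun x hx => (H6.mem_charKer (H6.irr_isCharacter hχ)).mp (hk hx)
  have := H6.isIrrCharacter_comp_surjective _ (dl_surj h2) hψ
  exact (funext fun x : H => e x : _ = fun x : H => χ x) ▸ this

theorem dl_main {B H : Subgroup G} [B.Normal] (h1 : B ⊓ H = ⊥) (h2 : B ⊔ H = ⊤)
    (hB : B ≤ commutator G) (hnd : H64.Palfy.ND G) {w : B →* ℂˣ} (hw : w ≠ 1) :
    (∃ χ, IsIrrCharacter G χ ∧ ¬ B ≤ H6.charKer χ ∧
      charDegree χ = (H64.Palfy.st (dl B H) w).index) ∧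
    ∀ a ∈ H64.Palfy.st (dl B H) w, ∀ b ∈ H64.Palfy.st (dl B H) w, a * b = b * a := by
  have hBT := H64.Palfy.le_st_dual B w
  have hT := H64.Palfy.st_dual B w
  have eS : H64.Palfy.st (dl B H) w = (H64.Palfy.st (H64.Palfy.dual B) w).subgroupOf H := rfl
  rw [eS]
  obtain ⟨F, hF⟩ := H64.Palfy.ext_of_compl h2 h1 w hBT le_rfl
  generalize H64.Palfy.st (H64.Palfy.dual B) w = T at hBT hT F hF
  have hθ := H6.isIrrCharacter_hom w
  have key : ∀ β, IsIrrCharacter T β → B.subgroupOf T ≤ H6.charKer β →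
      ∃ χ, IsIrrCharacter G χ ∧ ¬ B ≤ H6.charKer χ ∧ charDegree χ = T.index * charDegree β := fun β hβ hk => by
    obtain ⟨χ, hχ, ho, e⟩ := H87.exists_over_of_ext hBT hθ hT.ge (H6.isIrrCharacter_hom F)
      (fun n => by rw [hF]) hβ hk
    refine ⟨χ, hχ, fun h => hw (MonoidHom.ext fun x => Units.ext ?_), by rw [e, H87.deg_hom, mul_one]⟩
    simpa using ho.apply_eq_of_mem_ker (H6.irr_isCharacter hχ) hθ
      ((H6.mem_charKer (H6.irr_isCharacter hχ)).mp (h x.2))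
  obtain ⟨χ0, h0, k0, d0⟩ := key _ H6.isIrrCharacter_one fun _ _ _ => rfl
  rw [H87.deg_one, mul_one] at d0
  refine ⟨⟨χ0, h0, k0, by rw [d0, dl_index h2 hBT]⟩, fun a ha b hb => ?_⟩
  have hc : commutator T ≤ B.subgroupOf T := H87.commutator_le_of_forall_deg fun β hβ hk => by
    obtain ⟨χ, hχ, -, d⟩ := key β hβ hk
    have := hnd χ0 χ h0 hχ (fun e => k0 (hB.trans
      (H87.commutator_le_charKer_of_deg_one (H6.irr_isCharacter h0) e))) (by rw [d0, d]; exact Dvd.intro _ rfl)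
    rw [d0, d] at this
    exact (Nat.eq_of_mul_eq_mul_left (Nat.pos_of_ne_zero index_ne_zero_of_finite)
      ((mul_one _).trans this)).symm
  have hm : ⁅(a : G), (b : G)⁆ ∈ B :=
    hc (commutator_mem_commutator (mem_top (⟨a, ha⟩ : T)) (mem_top (⟨b, hb⟩ : T)))
  have : ⁅(a : G), (b : G)⁆ = 1 := mem_bot.mp (h1 ▸ (⟨hm, (⁅a, b⁆ : H).2⟩ : _ ∈ B ⊓ H))
  exact Subtype.ext (commutatorElement_eq_one_iff_mul_comm.mp this)

end H84.NDA
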