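import Mathlib
import Cfsg.Agent.Lib.NDA.ST

/-! Project NDA, package EX1. -/

set_option autoImplicit false
open Cfsg Subgroup
open scoped commutatorElement

namespace H84.NDA

variable {J P : Type*} [Group J] [Finite J] [Group P] [Finite P] {φ : J →* MulAut P} {p : ℕ}

omit [Finite P] in
theorem ex1_cen (h3 : ga P 3 = ⊥) {w : P} (hw : w ∈ ga P 2) (g : P) : g * w * g⁻¹ = w := by
  have := comm_ga_right g hw
  rw [h3, mem_bot, commutatorElement_eq_one_iff_mul_comm] at this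
  rw [this, mul_inv_cancel_right]

omit [Finite P] in
theorem ex1_left (h3 : ga P 3 = ⊥) (y : P) {y' : P} (hy : y' ∈ ga P 1) (x : P) :
    ⁅y * y', x⁆ = ⁅y', x⁆ * ⁅y, x⁆ := by
  rw [← ex1_cen h3 (comm_ga_left hy x) y]
  simp only [commutatorElement_def]; group

omit [Finite P] in
theorem ex1_right (h3 : ga P 3 = ⊥) {y : P} (hy : y ∈ ga P 1) (x x' : P) :
    ⁅y, x * x'⁆ = ⁅y, x⁆ * ⁅y, x'⁆ := by
  rw [← ex1_cen h3 (comm_ga_left hy x') x]
  simp only [commutatorElement_def]; group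

omit [Finite P] in
theorem ex1_one (h3 : ga P 3 = ⊥) {w : P} (hw : w ∈ ga P 2) (x : P) : ⁅w, x⁆ = 1 := by
  have := comm_ga_left hw x
  rwa [h3, mem_bot] at this

omit [Finite P] in
theorem ex1_mul (h3 : ga P 3 = ⊥) (g g' x0 x : P) :
    ⁅⁅g * g', x0⁆, x⁆ = ⁅⁅g, x0⁆, x⁆ * ⁅⁅g', x0⁆, x⁆ := by
  have m : ∀ g : P, ⁅g, x0⁆ ∈ ga P 1 := fun g => comm_ga_left (i := 0) (mem_top g) x0
  have e : ⁅g * g', x0⁆ = ⁅g, ⁅g', x0⁆⁆ * ⁅g', x0⁆ * ⁅g, x0⁆ := by
    simp only [commutatorElement_def]; group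
  rw [e, ex1_left h3 _ (m g), ex1_left h3 _ (m g'), ex1_one h3 (comm_ga_right g (m g')), mul_one]

theorem PJ.ex1_x (h : PJ p φ) (h3 : ga P 3 = ⊥) (μ : ga P 2 →* ℂˣ) :
    ∃ x ∈ cm φ, x ∉ commutator P ∧ ∀ y ∈ ga P 1, Tv μ ⁅y, x⁆ := by
  obtain ⟨x0, hx0, n0⟩ := h.exists_cm
  have n1 : x0 ∉ commutator P := fun e => n0 (mem_sup_right e)
  have m1 : ∀ g : P, ⁅g, x0⁆ ∈ ga P 1 := fun g => comm_ga_left (i := 0) (mem_top g) x0
  have m2 : ∀ g x : P, ⁅⁅g, x0⁆, x⁆ ∈ ga P 2 := fun g x => comm_ga_left (m1 g) x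
  let Φ : cm φ →* (cm φ →* ℂˣ) := MonoidHom.mk' (fun x => MonoidHom.mk' (fun g => μ ⟨_, m2 g x⟩)
      fun g g' => by rw [← map_mul]; exact congrArg μ (Subtype.ext (ex1_mul h3 _ _ _ _)))
    fun x x' => MonoidHom.ext fun g => by
      show μ _ = μ _ * μ _
      rw [← map_mul]; exact congrArg μ (Subtype.ext (ex1_right h3 (m1 g) _ _))
  let C : Subgroup (cm φ) := (commutator P).subgroupOf (cm φ)
  let K : Subgroup (cm φ) := C ⊔ zpowers ⟨x0, hx0⟩
  have cC : commutator (cm φ) ≤ C := commutator_le.2 fun a _ b _ =>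
    commutator_mem_commutator (mem_top (a : P)) (mem_top (b : P))
  have lt : K.index < C.index := H87.index_lt_index_of_lt (lt_of_le_of_ne le_sup_left fun e => n1 (by
    have : (⟨x0, hx0⟩ : cm φ) ∈ C := e ▸ mem_sup_right (mem_zpowers _)
    exact this))
  have tr : ∀ x, ∀ g ∈ K, Φ x g = 1 := fun x => by
    refine (sup_le (fun g hg => ?_) (zpowers_le.2 ?_) : K ≤ (Φ x).ker)
    · exact (congrArg μ (Subtype.ext (ex1_one h3 (comm_ga_left hg x0) x))).trans (map_one μ)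
    · exact (congrArg μ (Subtype.ext (by simp))).trans (map_one μ)
  have le : Φ.ker.index ≤ K.index := by
    rw [index_ker, ← H87.card_hom_trivial K (cC.trans le_sup_left)]
    haveI : Finite {lam : cm φ →* ℂˣ // ∀ g ∈ K, lam g = 1} := Nat.finite_of_card_ne_zero (by
      rw [H87.card_hom_trivial K (cC.trans le_sup_left)]; exact index_ne_zero_of_finite)
    refine Nat.card_le_card_of_injective (fun l : Φ.range => (⟨l.1, ?_⟩ : {lam : cm φ →* ℂˣ // ∀ g ∈ K, lam g = 1}))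
      fun a b e => Subtype.ext (Subtype.mk.inj e)
    obtain ⟨_, x, rfl⟩ := l
    exact tr x
  obtain ⟨x, hx, nx⟩ := SetLike.not_le_iff_exists.1 fun e : Φ.ker ≤ C => by
    have := index_antitone e
    omega
  refine ⟨x, x.2, nx, fun y hy hm => ?_⟩
  obtain ⟨g, hg, rfl⟩ := h.conj_cm hx0 n1 hy
  exact DFunLike.congr_fun (MonoidHom.mem_ker.1 hx) ⟨g, hg⟩

theorem PJ.ex1 (h : PJ p φ) (h3 : ga P 3 = ⊥) {T : Subgroup P}
    (hT : ∀ a ∈ T, ∀ b ∈ T, a * b = b * a) (hle : T ≤ k0 φ) {ψ : P → ℂ}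
    (hψ : IsIrrCharacter P ψ) : charDegree ψ < T.index := by
  obtain ⟨μ, hμ⟩ := exists_un (A := ga P 2) hψ (by rw [← ga_succ, h3]; exact bot_le)
  obtain ⟨x, hx, nx, hb⟩ := h.ex1_x h3 μ
  let π := QuotientGroup.mk' (H6.charKer ψ)
  have c1 : ∀ b ∈ commutator P, Commute (π b) (π x) := fun b m => by
    rw [← commutatorElement_eq_one_iff_commute, ← map_commutatorElement]
    exact (QuotientGroup.eq_one_iff _).2 ((hμ.mem_ker hψ ⟨_, comm_ga_left (i := 1) m x⟩).2 (hb b m _))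
  have c2 : ∀ b ∈ commutator P, ∀ b' ∈ commutator P, Commute b b' := fun b m b' m' => by
    have := comm_ga (i := 1) (j := 1) m m'
    rwa [h3, mem_bot, commutatorElement_eq_one_iff_commute] at this
  have dec : ∀ t ∈ T, ∃ z ∈ fx φ, ∃ b ∈ commutator P, z * b = t := fun t ht =>
    mem_sup_of_normal_right.1 (hle ht)
  have c3 : ∀ t ∈ T, Commute (π t) (π x) := fun t ht => by
    obtain ⟨z, hz, b, m, rfl⟩ := dec t ht
    rw [map_mul]
    exact ((show Commute z x from (h.cm_fx hx hz).symm).map π).mul_left (c1 b m)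
  have c4 : ∀ t ∈ T, ∀ b' ∈ commutator P, Commute t b' := fun t ht b' m' => by
    obtain ⟨z, hz, b, m, rfl⟩ := dec t ht
    exact (show Commute z b' from (h.cm_fx (h.comm_le_cm m') hz).symm).mul_left (c2 b m b' m')
  let S : Set P := {a | a = x ∨ a ∈ T ∨ a ∈ commutator P}
  have c5 : ∀ a ∈ S, ∀ b ∈ S, Commute (π a) (π b) := by
    rintro a (rfl | ha | ha) b (rfl | hb | hb)
    · exact Commute.refl _
    · exact (c3 b hb).symm
    · exact (c1 b hb).symm
    · exact c3 a ha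
    · exact (show Commute a b from hT a ha b hb).map π
    · exact (c4 a ha b hb).map π
    · exact c1 a ha
    · exact (c4 b hb a ha).symm.map π
    · exact (c2 a ha b hb).map π
  have ext : ∀ b, (∀ a ∈ S, Commute (π a) (π b)) → ∀ a ∈ closure S, Commute (π a) (π b) := fun b hb a ha =>
    mem_centralizer_singleton_iff.1 (((closure_le ((centralizer {π b}).comap π)).2
      fun a ha => mem_centralizer_singleton_iff.2 (hb a ha)) ha)
  have c6 : ∀ a ∈ closure S, ∀ b ∈ closure S, Commute (π a) (π b) := fun a ha b hb =>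
    ext b (fun a ha => (ext a (fun b hb => c5 b hb a ha) b hb).symm) a ha
  obtain ⟨θ, hθ, ov⟩ := H87.exists_under hψ (closure S)
  have d1 : charDegree θ = 1 := H87.deg_eq_one_of_commutator_le hθ (commutator_le.2 fun a _ b _ => by
    refine (H6.mem_charKer (H6.irr_isCharacter hθ)).2 (ov.apply_eq_of_mem_ker (H6.irr_isCharacter hψ) hθ
      ((H6.mem_charKer (H6.irr_isCharacter hψ)).1 ((QuotientGroup.eq_one_iff _).1 ?_)))
    have := c6 a a.2 b b.2
    rw [← commutatorElement_eq_one_iff_commute, ← map_commutatorElement] at this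
    exact this)
  have d2 := ov.deg_le_index_mul hψ (H6.irr_isCharacter hθ)
  rw [d1, mul_one] at d2
  refine d2.trans_lt (H87.index_lt_index_of_lt (lt_of_le_of_ne (fun t ht => subset_closure (Or.inr (Or.inl ht)))
    fun e => nx ?_))
  have : x ∈ T := e ▸ subset_closure (Or.inl rfl)
  exact h.cm_inf ▸ (⟨hx, hle this⟩ : x ∈ cm φ ⊓ k0 φ)

end H84.NDA
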