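import Mathlib
import Cfsg.Agent.Lib.NDA.EX1
import Cfsg.Agent.Lib.NDA.C4

/-! Project NDA, package EXC. -/

set_option autoImplicit false
open Cfsg Subgroup
open scoped commutatorElement

namespace H84.NDA

variable {J P : Type*} [Group J] [Finite J] [Group P] [Finite P] {φ : J →* MulAut P} {p : ℕ}

theorem PJ.exc (h : PJ p φ) {S : Subgroup J} (hS : ¬ S ≤ φ.ker) {T : Subgroup P}
    (hT : ∀ a ∈ T, ∀ b ∈ T, a * b = b * a) (hTS : T ≤ H2.fixSub φ S)
    (hm : ∀ ψ, IsIrrCharacter P ψ → dg φ ψ ≠ 1 → dg φ ψ ∣ T.index * S.index →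
      dg φ ψ = T.index * S.index) {x : P} (hx : x ∈ cm φ) (hf : x ∈ H2.fixSub φ S) :
    x = 1 := by
  haveI := Fact.mk h.prime
  haveI := h.nil
  by_contra h1
  obtain ⟨c, hc, hn⟩ := SetLike.not_le_iff_exists.1 hS
  have hx1 : x ∈ ga P 1 := h.fp_cm hn x hx (by rw [hf c hc, inv_mul_cancel]; exact one_mem _)
  obtain ⟨i, ha, hb⟩ := exists_layer hx1 h1
  obtain ⟨μ, ht, hfx, hμ⟩ := av h.coprime (iv_ga φ S _) (iv_ga φ S _) (ga_comm_le (1 + i)) ha hb
    fun d hd => by rw [hf d hd, inv_mul_cancel]; exact one_mem _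
  obtain ⟨ψ, hψ, ho, hs⟩ := exists_ov h.coprime (iv_ga φ S _) μ hfx (tv_ga ht)
  have hd : charDegree ψ ≠ 1 :=
    ho.deg_ne_one hψ (ga_anti (Nat.le_add_right 1 i)) fun e => hμ (by rw [e]; rfl)
  have hk : T ≤ k0 φ := fun t htT =>
    h.fp_k0 hn t (mem_top t) (by rw [hTS htT c hc, inv_mul_cancel]; exact one_mem _)
  have hlt := h.ex1 h.pm.1 hT hk hψ
  obtain ⟨a, ea⟩ := H87.deg_pow_of_isPGroup h.pg hψ
  obtain ⟨b, eb⟩ := h.pg.index T
  have hdv : charDegree ψ ∣ T.index := by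
    rw [ea, eb] at hlt ⊢
    exact pow_dvd_pow p ((Nat.pow_lt_pow_iff_right h.prime.one_lt).1 hlt).le
  have e := hm ψ hψ (dg_ne_one hd) (by
    rw [dg, mul_comm]; exact mul_dvd_mul hdv (index_dvd_of_le hs))
  have cp : (p ^ b).Coprime (stab φ ψ).index :=
    ((h.prime.coprime_iff_not_dvd.2 h.cop).coprime_dvd_right (index_dvd_card _)).pow_left b
  have h2 : p ^ b ∣ charDegree ψ := cp.dvd_of_dvd_mul_left (by
    rw [← dg, e, eb]; exact dvd_mul_right _ _)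
  rw [eb] at hlt
  exact (Nat.le_of_dvd (ea ▸ pow_pos h.prime.pos a) h2).not_gt hlt

end H84.NDA
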