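import Mathlib
import Cfsg.Agent.Lib.NDA.Defs

/-! Project NDA, package FLD1. -/

set_option autoImplicit false
open Cfsg Subgroup
open scoped commutatorElement

namespace H84.NDA

variable {G W : Type*} [Group G] [Finite G] [CommGroup W] [Finite W] [Nontrivial W]
  {φ : G →* MulAut W}

omit [Nontrivial W] in
private theorem fld1_free {e : MulAut W}
    (hs : ∀ x ∈ zpowers e, x ≠ 1 → ∀ w, x w = w → w = 1) (U : Subgroup W)
    (hU : ∀ w ∈ U, e w ∈ U) : orderOf e ∣ Nat.card U - 1 := by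
  classical
  have hp : ∀ n : ℕ, ∀ w ∈ U, (e ^ n) w ∈ U := by
    intro n
    induction n with
    | zero => intro w hw; simpa using hw
    | succ n ih => intro w hw; rw [pow_succ', MulAut.mul_apply]; exact hU _ (ih w hw)
  let S : SubMulAction (zpowers e) W :=
    { carrier := {w | w ∈ U ∧ w ≠ 1}
      smul_mem' := by
        rintro ⟨c, hc⟩ w ⟨h1, h2⟩
        obtain ⟨n, rfl⟩ := mem_powers_iff_mem_zpowers.2 hc
        refine ⟨hp n w h1, fun h => h2 ?_⟩
        exact (e ^ n).injective (h.trans (map_one _).symm) }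
  have hfree : ∀ b : S, MulAction.stabilizer (zpowers e) b = ⊥ := by
    intro b
    rw [eq_bot_iff]
    intro c hc
    rw [mem_bot]
    by_contra hne
    refine b.2.2 (hs c c.2 (fun h => hne (Subtype.ext h)) b ?_)
    exact congrArg Subtype.val (MulAction.mem_stabilizer_iff.1 hc)
  have h1 := Nat.card_congr (MulAction.selfEquivOrbitsQuotientProd hfree)
  rw [Nat.card_prod, Nat.card_zpowers] at h1
  have h2 : Nat.card S = Nat.card U - 1 := by
    have e1 : Nat.card S = ((U : Set W) \ {1}).ncard := rfl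
    rw [e1, Set.ncard_sdiff_singleton_of_mem (show (1 : W) ∈ (U : Set W) from one_mem U)]
    rfl
  rw [← h2, h1]
  exact Dvd.intro_left _ rfl

theorem fld_irr {e : MulAut W} {a r : ℕ} (hr : 2 ≤ r) (hW : Nat.card W = a ^ r)
    (ho : orderOf e * (a - 1) = a ^ r - 1)
    (hs : ∀ x ∈ zpowers e, x ≠ 1 → ∀ w, x w = w → w = 1) (U : Subgroup W)
    (hU : ∀ w ∈ U, e w ∈ U) : U = ⊥ ∨ U = ⊤ := by
  by_contra hc
  push Not at hc
  obtain ⟨h0, h1⟩ := hc
  have d1 := fld1_free hs U hU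
  have u1 : 1 < Nat.card U := (one_lt_card_iff_ne_bot U).2 h0
  have q1 : 1 < U.index := one_lt_index_of_ne_top h1
  have hm : Nat.card U * U.index = a ^ r := by rw [card_mul_index, hW]
  have w1 : 1 < a ^ r := hW ▸ Finite.one_lt_card
  have a2 : 2 ≤ a := by
    rcases Nat.lt_or_ge a 2 with h | h
    · interval_cases a
      · rw [zero_pow (by omega)] at w1; omega
      · simp at w1
    · exact h
  have N0 : 0 < orderOf e := orderOf_pos e
  obtain ⟨k, hk⟩ := d1
  have d2 : orderOf e ∣ U.index - 1 := by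
    have e1 : Nat.card U = orderOf e * k + 1 := by omega
    have e2 : orderOf e * k * U.index + (U.index - 1) = orderOf e * (a - 1) := by
      rw [ho, ← hm, e1, add_mul, one_mul]; omega
    have : orderOf e ∣ orderOf e * k * U.index + (U.index - 1) := e2 ▸ Dvd.intro _ rfl
    exact (Nat.dvd_add_right (Dvd.intro _ (by ring : orderOf e * (k * U.index) = _))).1 this
  have l1 : orderOf e + 1 ≤ Nat.card U := by
    have := Nat.le_of_dvd (by omega) (⟨k, hk⟩ : orderOf e ∣ Nat.card U - 1)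
    omega
  have l2 : orderOf e + 1 ≤ U.index := by
    have := Nat.le_of_dvd (by omega) d2
    omega
  have l3 : (orderOf e + 1) * (orderOf e + 1) ≤ a ^ r := hm ▸ Nat.mul_le_mul l1 l2
  have l4 : a ^ 2 ≤ a ^ r := Nat.pow_le_pow_right (by omega) hr
  obtain ⟨b, rfl⟩ : ∃ b, a = b + 1 := ⟨a - 1, by omega⟩
  rw [Nat.add_sub_cancel] at ho
  have e3 : (b + 1) ^ r = orderOf e * b + 1 := by omega
  rw [e3] at l3 l4
  generalize orderOf e = N at *
  have : N < b := by nlinarith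
  nlinarith

theorem fld_num {l d t a r s N : ℕ} (hl : l.Prime) (hr : r.Prime) (hs : s.Prime) (hne : r ≠ s)
    (hd : d ≠ 0) (ha : a ^ r = l ^ d) (hN : N * (a - 1) = a ^ r - 1)
    (hord : ∀ k, N ∣ l ^ k - 1 → d ∣ k) (ht : N ∣ l ^ (t * s) - 1) :
    ¬ N.Coprime (l ^ t - 1) := by
  intro hc
  have l2 : 2 ≤ l := hl.two_le
  obtain ⟨j, -, rfl⟩ := (Nat.dvd_prime_pow hl).1
    (show a ∣ l ^ d from ha ▸ dvd_pow_self a hr.ne_zero)
  rw [← pow_mul] at ha
  have hj : j * r = d := Nat.pow_right_injective l2 ha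
  rw [← pow_mul, hj] at hN
  have g0 : 0 < Nat.gcd t d := Nat.gcd_pos_of_pos_right _ (Nat.pos_of_ne_zero hd)
  have e1 := Nat.pow_sub_one_gcd_pow_sub_one l t d
  have d1 : l ^ Nat.gcd t d - 1 ∣ l ^ t - 1 := e1 ▸ Nat.gcd_dvd_left _ _
  have d2 : l ^ Nat.gcd t d - 1 ∣ N * (l ^ j - 1) := by
    rw [hN]; exact e1 ▸ Nat.gcd_dvd_right _ _
  have d3 : l ^ Nat.gcd t d - 1 ∣ l ^ j - 1 :=
    (Nat.Coprime.coprime_dvd_right d1 hc).symm.dvd_of_dvd_mul_left d2
  have e2 := Nat.pow_sub_one_gcd_pow_sub_one l (Nat.gcd t d) j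
  rw [Nat.gcd_eq_left d3] at e2
  have p1 : 0 < l ^ Nat.gcd t d := by positivity
  have p2 : 0 < l ^ Nat.gcd (Nat.gcd t d) j := by positivity
  have e3 : Nat.gcd t d = Nat.gcd (Nat.gcd t d) j :=
    Nat.pow_right_injective l2 (show l ^ _ = l ^ _ by omega)
  obtain ⟨j', hj'⟩ : Nat.gcd t d ∣ j := e3 ▸ Nat.gcd_dvd_right _ _
  have d4 : d ∣ Nat.gcd t d * s := by
    rw [← Nat.gcd_mul_right]
    exact Nat.dvd_gcd (hord _ ht) (Dvd.intro _ rfl)
  have d5 : Nat.gcd t d * (j' * r) ∣ Nat.gcd t d * s := by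
    rw [← mul_assoc, ← hj', hj]; exact d4
  have d6 : r ∣ s := (Dvd.intro_left j' rfl).trans (Nat.dvd_of_mul_dvd_mul_left g0 d5)
  exact hne ((Nat.prime_dvd_prime_iff_eq hr hs).1 d6)

end H84.NDA
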