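import Mathlib
import Cfsg.Agent.Lib.NDA.Defs

/-! Project NDA, package FLD2. -/

set_option autoImplicit false
open Cfsg Subgroup
open scoped commutatorElement

namespace H84.NDA

variable {G W : Type*} [Group G] [Finite G] [CommGroup W] [Finite W] [Nontrivial W]
  {φ : G →* MulAut W}

theorem fld2_field {K : Type*} [Field K] [Finite K] {l d : ℕ} (hl : l.Prime)
    (hc : Nat.card K = l ^ d) :
    (∀ σ : K →+* K, ∃ t, ∀ x, σ x = x ^ l ^ t) ∧
      ∀ (ε : K) (k : ℕ), (∀ S : Subring K, ε ∈ S → S = ⊤) → ε ^ l ^ k = ε → d ∣ k := by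
  haveI : Fact l.Prime := ⟨hl⟩
  haveI := Fintype.ofFinite K
  have hc' : Fintype.card K = l ^ d := by rw [← Nat.card_eq_fintype_card, hc]
  haveI : CharP K l := charP_of_card_eq_prime_pow hc'
  constructor
  · intro σ
    letI : Algebra (ZMod l) K := ZMod.algebra K l
    let σ' : K →ₐ[ZMod l] K :=
      { σ with
        commutes' := fun r => RingHom.congr_fun
          (Subsingleton.elim (σ.comp (algebraMap (ZMod l) K)) (algebraMap (ZMod l) K)) r }
    have hb : Function.Bijective σ' := Finite.injective_iff_bijective.1 σ.injective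
    obtain ⟨t, ht⟩ := FiniteField.exists_forall_apply_eq_pow (ZMod l) l K (AlgEquiv.ofBijective σ' hb)
    refine ⟨t, fun x => ?_⟩
    have := ht x
    rw [Nat.card_zmod] at this
    exact this
  · intro ε k hS he
    have h1 := hS (RingHom.eqLocus (iterateFrobenius K l k) (RingHom.id K)) (by
      rw [RingHom.mem_eqLocus, iterateFrobenius_def]; exact he)
    have h2 : ∀ x : K, x ^ l ^ k = x := fun x => by
      have : x ∈ RingHom.eqLocus (iterateFrobenius K l k) (RingHom.id K) := h1 ▸ Subring.mem_top x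
      rwa [RingHom.mem_eqLocus, iterateFrobenius_def] at this
    have hp : 1 ≤ l ^ k := Nat.one_le_pow _ _ hl.pos
    have h3 : Fintype.card K - 1 ∣ l ^ k - 1 := by
      rw [← FiniteField.forall_pow_eq_one_iff]
      intro x
      apply mul_right_cancel (b := x)
      rw [← pow_succ, Nat.sub_add_cancel hp, one_mul]
      exact Units.ext (by rw [Units.val_pow_eq_pow_val, h2])
    rw [hc'] at h3
    have h4 := Nat.gcd_eq_left h3
    rw [Nat.pow_sub_one_gcd_pow_sub_one] at h4
    have h5 : 1 ≤ l ^ d.gcd k := Nat.one_le_pow _ _ hl.pos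
    have h6 : 1 ≤ l ^ d := Nat.one_le_pow _ _ hl.pos
    have h7 : l ^ d.gcd k = l ^ d := by omega
    rw [← Nat.pow_right_injective hl.two_le h7]
    exact Nat.gcd_dvd_right _ _

theorem fld2_ring {K : Type*} [Ring K] [Finite K] (hK : IsField K) {l d : ℕ} (hl : l.Prime)
    (hc : Nat.card K = l ^ d) :
    (∀ σ : K →+* K, ∃ t, ∀ x, σ x = x ^ l ^ t) ∧
      ∀ (ε : K) (k : ℕ), (∀ S : Subring K, ε ∈ S → S = ⊤) → ε ^ l ^ k = ε → d ∣ k := by
  letI := hK.toField
  exact fld2_field hl hc

/-- automorphisms as additive endomorphisms. -/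
def fld2_end (W : Type*) [CommGroup W] : MulAut W →* AddMonoid.End (Additive W) where
  toFun a := MonoidHom.toAdditive a.toMonoidHom
  map_one' := rfl
  map_mul' _ _ := rfl

theorem fld2_inj : Function.Injective (fld2_end W) := fun a b h =>
  MulEquiv.ext fun w => DFunLike.congr_fun h (Additive.ofMul w)

theorem fld2_main {V : Type*} [AddCommGroup V] [Finite V] [Nontrivial V] (ε : AddMonoid.End V)
    (hI : ∀ U : AddSubgroup V, (∀ w ∈ U, ε w ∈ U) → U = ⊥ ∨ U = ⊤) :
    Finite (Subring.closure {ε}) ∧ IsField (Subring.closure {ε}) ∧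
      Nat.card (Subring.closure {ε}) = Nat.card V := by
  set K := Subring.closure {ε} with hK
  have hε : ε ∈ K := Subring.subset_closure rfl
  haveI : Finite (AddMonoid.End V) := Finite.of_injective _ (DFunLike.coe_injective (F := V →+ V))
  have c1 : ∀ x ∈ K, ε * x = x * ε := by
    have : K ≤ Subring.centralizer {ε} := Subring.closure_le.2 (by
      rintro _ rfl
      exact Subring.mem_centralizer_iff.2 (by rintro _ rfl; rfl))
    exact fun x hx => Subring.mem_centralizer_iff.1 (this hx) ε rfl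
  have c2 : ∀ x ∈ K, ∀ y ∈ K, x * y = y * x := by
    intro x hx
    have : K ≤ Subring.centralizer {x} := Subring.closure_le.2 (by
      rintro _ rfl
      exact Subring.mem_centralizer_iff.2 (by rintro _ rfl; exact (c1 _ hx).symm))
    exact fun y hy => Subring.mem_centralizer_iff.1 (this hy) x rfl
  have inj : ∀ x ∈ K, ∀ w : V, w ≠ 0 → x w = 0 → x = 0 := by
    intro x hx w hw h0
    rcases hI (AddMonoidHom.ker (x : V →+ V)) (fun v hv => by
      have h1 : x v = 0 := hv
      have h2 : x (ε v) = ε (x v) := (DFunLike.congr_fun (c1 x hx) v).symm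
      change x (ε v) = 0
      rw [h2, h1, map_zero]) with h | h
    · have : w ∈ AddMonoidHom.ker (x : V →+ V) := h0
      rw [h] at this
      exact absurd (AddSubgroup.mem_bot.1 this) hw
    · refine AddMonoidHom.ext fun v => ?_
      have : v ∈ AddMonoidHom.ker (x : V →+ V) := h ▸ AddSubgroup.mem_top v
      exact this
  obtain ⟨w0, hw0⟩ := exists_ne (0 : V)
  let ev : K →+ V :=
    { toFun := fun x => (x : AddMonoid.End V) w0, map_zero' := rfl, map_add' := fun _ _ => rfl }
  have ev1 : Function.Injective ev := (injective_iff_map_eq_zero ev).2 fun x hx =>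
    Subtype.ext (inj x x.2 w0 hw0 hx)
  have ev2 : Function.Surjective ev := by
    rw [← AddMonoidHom.range_eq_top]
    refine (hI ev.range ?_).resolve_left fun h => ?_
    · rintro _ ⟨x, rfl⟩
      exact ⟨⟨ε, hε⟩ * x, rfl⟩
    · have : w0 ∈ ev.range := ⟨1, rfl⟩
      rw [h] at this
      exact hw0 (AddSubgroup.mem_bot.1 this)
  refine ⟨inferInstance, ⟨⟨0, 1, fun h => hw0 (congrArg ev h).symm⟩,
    fun x y => Subtype.ext (c2 x x.2 y y.2), fun {a} ha => ?_⟩, Nat.card_eq_of_bijective ev ⟨ev1, ev2⟩⟩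
  refine Finite.surjective_of_injective (f := fun y => a * y) (fun y y' h => ?_) 1
  apply ev1
  by_contra hne
  refine ha (Subtype.ext (inj a a.2 _ (sub_ne_zero.2 hne) ?_))
  have h1 : (a : AddMonoid.End V) (ev y) = (a : AddMonoid.End V) (ev y') := congrArg ev h
  rw [map_sub, h1, sub_self]

theorem fld_frob {e h : MulAut W} {l d : ℕ} (hl : l.Prime) (hW : Nat.card W = l ^ d)
    (hI : ∀ U : Subgroup W, (∀ w ∈ U, e w ∈ U) → U = ⊥ ∨ U = ⊤) (hh : h * e * h⁻¹ ∈ zpowers e) :
    (∃ t, h * e * h⁻¹ = e ^ l ^ t) ∧ ∀ k, e ^ l ^ k = e → d ∣ k := by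
  obtain ⟨hfin, hK, hc⟩ := fld2_main (fld2_end W e) (fun U hU => by
    rcases hI (AddSubgroup.toSubgroup' U) hU with h1 | h1
    · left
      exact AddSubgroup.toSubgroup'.injective (h1.trans (OrderIso.map_bot _).symm)
    · right
      exact AddSubgroup.toSubgroup'.injective (h1.trans (OrderIso.map_top _).symm))
  set K := Subring.closure {fld2_end W e} with hKdef
  have hε : fld2_end W e ∈ K := Subring.subset_closure rfl
  obtain ⟨h1, h2⟩ := fld2_ring hK hl (hc.trans hW)
  have i1 : fld2_end W h⁻¹ * fld2_end W h = 1 := by rw [← map_mul, inv_mul_cancel, map_one]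
  have i2 : fld2_end W h * fld2_end W h⁻¹ = 1 := by rw [← map_mul, mul_inv_cancel, map_one]
  let c : AddMonoid.End (Additive W) →+* AddMonoid.End (Additive W) :=
    { toFun := fun x => fld2_end W h * x * fld2_end W h⁻¹
      map_one' := by rw [mul_one, i2]
      map_mul' := fun x y => by
        rw [show fld2_end W h * x * fld2_end W h⁻¹ * (fld2_end W h * y * fld2_end W h⁻¹) =
          fld2_end W h * (x * (fld2_end W h⁻¹ * fld2_end W h) * y) * fld2_end W h⁻¹ by
            simp only [mul_assoc], i1, mul_one]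
      map_zero' := by rw [mul_zero, zero_mul]
      map_add' := fun x y => by rw [mul_add, add_mul] }
  have ce : c (fld2_end W e) = fld2_end W (h * e * h⁻¹) := by rw [map_mul, map_mul]; rfl
  have cK : K ≤ K.comap c := Subring.closure_le.2 (by
    rintro _ rfl
    obtain ⟨n, hn⟩ := mem_powers_iff_mem_zpowers.2 hh
    change c (fld2_end W e) ∈ K
    rw [ce, ← hn]
    simp only [map_pow]
    exact pow_mem hε n)
  constructor
  · obtain ⟨t, ht⟩ := h1 (c.restrict K K fun x hx => cK hx)
    refine ⟨t, fld2_inj ?_⟩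
    rw [← ce, map_pow]
    exact congrArg Subtype.val (ht ⟨_, hε⟩)
  · intro k hk
    refine h2 ⟨_, hε⟩ k (fun S hS => ?_) (Subtype.ext ?_)
    · rw [eq_top_iff]
      intro x _
      have : K ≤ S.map K.subtype := Subring.closure_le.2 (by
        rintro _ rfl
        exact ⟨_, hS, rfl⟩)
      obtain ⟨y, hy, e1⟩ := this x.2
      rwa [← show y = x from Subtype.ext e1]
    · change fld2_end W e ^ l ^ k = fld2_end W e
      rw [← map_pow, hk]

end H84.NDA
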