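import Mathlib
import Cfsg.Agent.Lib.NDA.Defs

/-! Project NDA, package FP1. -/

set_option autoImplicit false
open Cfsg Subgroup
open scoped commutatorElement

namespace H84.NDA

variable {G W : Type*} [Group G] [Finite G] [CommGroup W] [Finite W] [Nontrivial W]
  {φ : G →* MulAut W}

omit [Nontrivial W] in
theorem fp1_cop {A : Subgroup G} (hs : ∀ x ∈ A, x ≠ 1 → ∀ w, φ x w = w → w = 1) :
    (Nat.card A).Coprime (Nat.card W) := by
  refine Nat.coprime_of_dvd fun p hp h1 h2 => ?_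
  haveI : Fact p.Prime := ⟨hp⟩
  obtain ⟨x, hx⟩ := exists_prime_orderOf_dvd_card' p h1
  have ox : orderOf (x : G) = p := by rw [orderOf_coe, hx]
  have x1 : (x : G) ≠ 1 := fun e => hp.one_lt.ne (by rw [← ox, e, orderOf_one])
  have hB : IsPGroup p (zpowers (x : G)) := IsPGroup.of_card (n := 1) (by rw [Nat.card_zpowers, ox, pow_one])
  have e := H64.Palfy.card_fix_modEq φ hB
  have b : H2.fixSub φ (zpowers (x : G)) = ⊥ :=
    eq_bot_iff.2 fun w hw => mem_bot.2 (hs x x.2 x1 w (hw _ (mem_zpowers _)))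
  rw [b, card_bot] at e
  exact hp.one_lt.ne' (Nat.dvd_one.1 ((e.dvd_iff dvd_rfl).1 h2))

omit [Finite G] in
/-- the commutators `[c, n]`, `n ∈ A`. -/
theorem fp1_exists_E {A : Subgroup G} [hA : A.Normal] (hc : ∀ a ∈ A, ∀ b ∈ A, a * b = b * a) (c : G) :
    ∃ E : Subgroup G, ∀ x, x ∈ E ↔ ∃ n ∈ A, ⁅c, n⁆ = x := by
  refine ⟨{ carrier := {x | ∃ n ∈ A, ⁅c, n⁆ = x}
            one_mem' := ⟨1, one_mem _, commutatorElement_one_right c⟩
            mul_mem' := ?_
            inv_mem' := ?_ }, fun _ => Iff.rfl⟩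
  · rintro _ _ ⟨n, hn, rfl⟩ ⟨m, hm, rfl⟩
    refine ⟨n * m, mul_mem hn hm, ?_⟩
    have := hc _ (inv_mem hn) _ (mul_mem (hA.conj_mem m hm c) (inv_mem hm))
    simp only [commutatorElement_def]
    calc _ = c * n * c⁻¹ * (c * m * c⁻¹ * m⁻¹ * n⁻¹) := by group
      _ = _ := by rw [← this]; group
  · rintro _ ⟨n, hn, rfl⟩
    refine ⟨n⁻¹, inv_mem hn, ?_⟩
    have := hc _ hn _ (hA.conj_mem _ (inv_mem hn) c)
    simp only [commutatorElement_def]
    calc _ = c * n⁻¹ * c⁻¹ * n := by group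
      _ = _ := by rw [← this]; group

theorem FH.fq {A : Subgroup G} [A.Normal] (h : FH φ A) (hi : Function.Injective φ)
    (hI : H64.Palfy.Irr φ) : ∃ E Y Z, FQ φ E Y Z ∧ E ⊔ Z = A := by
  have hA : A.Normal := inferInstance
  obtain ⟨c0, hc0⟩ := h.cyc.exists_generator
  obtain ⟨c, rfl⟩ := QuotientGroup.mk_surjective c0
  have dec : ∀ g : G, ∃ (k : ℤ), ∃ a ∈ A, g = c ^ k * a := fun g => by
    obtain ⟨k, hk⟩ := hc0 (g : G ⧸ A)
    have : ((c ^ k : G) : G ⧸ A) = g := hk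
    exact ⟨k, _, QuotientGroup.eq.1 this, by group⟩
  have cz : ∀ n ∈ A, c * n = n * c → n ∈ center G := fun n hn e => mem_center_iff.2 fun g => by
    obtain ⟨k, a, ha, rfl⟩ := dec g
    exact ((Commute.zpow_left e k).mul_left (h.comm a ha n hn)).eq
  have cA : c ∉ A := fun hc => h.nc fun n hn => cz n hn (h.comm c hc n hn)
  obtain ⟨E, hE⟩ := fp1_exists_E h.comm c
  have EA : E ≤ A := fun x hx => by
    obtain ⟨n, hn, rfl⟩ := (hE x).1 hx
    exact mul_mem (hA.conj_mem n hn c) (inv_mem hn)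
  have EZ : ∀ x ∈ E, x ∈ center G → x = 1 := fun x hx hz => by
    obtain ⟨n, hn, rfl⟩ := (hE x).1 hx
    exact commutatorElement_eq_one_iff_mul_comm.2 (mem_center_iff.1 (h.fr c cA n hn hz) c)
  have nE : E.Normal := ⟨fun x hx g => by
    obtain ⟨k, a, ha, rfl⟩ := dec g
    have e := h.comm a ha x (EA hx)
    obtain ⟨n, hn, rfl⟩ := (hE x).1 hx
    refine (hE _).2 ⟨_, hA.conj_mem n hn (c ^ k), ?_⟩
    calc _ = c ^ k * ⁅c, n⁆ * (c ^ k)⁻¹ := by simp only [commutatorElement_def]; group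
      _ = c ^ k * (⁅c, n⁆ * a) * a⁻¹ * (c ^ k)⁻¹ := by group
      _ = _ := by rw [← e]; group⟩
  have EY : ∀ b ∈ E, c * b = b * c → b = 1 := fun b hb e => EZ b hb (cz b (EA hb) e)
  have sp : E ⊔ (A ⊓ center G) = A := by
    refine le_antisymm (sup_le EA inf_le_left) fun n hn => ?_
    obtain ⟨b, hb, e⟩ := (H64.Palfy.surj_iff_fpf c).2 EY ⁅n, c⁆ (by
      rw [← commutatorElement_inv]; exact inv_mem ((hE _).2 ⟨n, hn, rfl⟩))
    have hm : b⁻¹ * n ∈ A := mul_mem (inv_mem (EA hb)) hn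
    have : c * (b⁻¹ * n) = b⁻¹ * n * c := by
      simp only [commutatorElement_def, mul_left_inj] at e
      calc _ = b⁻¹ * (b * c * b⁻¹) * n := by group
        _ = _ := by rw [e]; group
    rw [← mul_inv_cancel_left b n]
    exact mul_mem (mem_sup_left hb) (mem_sup_right ⟨hm, cz _ hm this⟩)
  have semi : ∀ x ∈ A, x ≠ 1 → ∀ w, φ x w = w → w = 1 := fun x hx x1 w hw => by
    by_cases hz : x ∈ center G
    · by_contra w1
      have : (zpowers x).Normal := ⟨fun y hy g => by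
        rwa [mem_center_iff.1 (zpowers_le.2 hz hy) g, mul_inv_cancel_right]⟩
      exact x1 (zpowers_eq_bot.1 (H64.Palfy.eq_bot_of_fix hi hI (zpowers x) w1 (zpowers_le.2 hw)))
    · exact h.fp x hx hz w hw
  have cY : ∀ y, y * c = c * y → ∃ k : ℤ, ∃ z ∈ center G, y = c ^ k * z := fun y hy => by
    obtain ⟨k, a, ha, rfl⟩ := dec y
    refine ⟨k, a, cz a ha ?_, rfl⟩
    rw [← mul_assoc, ← zpow_one_add, add_comm, zpow_add_one, mul_assoc, mul_assoc] at hy
    exact (mul_left_cancel hy).symm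
  refine ⟨E, centralizer {c}, A ⊓ center G, ⟨nE, ?_, fun e => h.nc ?_, fun a ha b hb => ?_,
    fun z hz => mem_centralizer_singleton_iff.2 (mem_center_iff.1 hz.2 c).symm,
    fun e => cA (e (mem_centralizer_singleton_iff.2 rfl)).1, inf_le_right, ?_, ?_, fun y hy hn e he k => ?_,
    sp.symm ▸ semi, sp.symm ▸ h.nd1, h.nd2⟩, sp⟩
  · obtain ⟨A0, h0, a, -, e, w, w1, hw⟩ := H64.Palfy.exists_cocyc (φ := φ) (A := A)
      ⟨⟨fun a b => Subtype.ext (h.comm a a.2 b b.2)⟩⟩ (fp1_cop semi)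
    have : A0 = ⊥ := eq_bot_iff.2 fun x hx => mem_bot.2 (by_contra fun x1 => w1 (semi x (h0 hx) x1 w (hw hx)))
    rw [this, bot_sup_eq] at e
    exact isCyclic_of_le (EA.trans e.ge)
  · rw [← sp, e, bot_sup_eq]; exact inf_le_right
  · obtain ⟨k, z, hz, rfl⟩ := cY a (mem_centralizer_singleton_iff.1 ha)
    have hb' : Commute b c := mem_centralizer_singleton_iff.1 hb
    exact ((hb'.zpow_right k).mul_right (mem_center_iff.1 hz b)).symm.eq
  · refine eq_top_iff.2 fun g _ => ?_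
    obtain ⟨k, a, ha, rfl⟩ := dec g
    refine mul_mem (mem_sup_right (zpow_mem (mem_centralizer_singleton_iff.2 rfl) k)) ?_
    have k : A ⊓ center G ≤ centralizer {c} := fun z hz =>
      mem_centralizer_singleton_iff.2 (mem_center_iff.1 hz.2 c).symm
    exact sup_le_sup_left k E (sp.ge ha)
  · exact eq_bot_iff.2 fun x hx => mem_bot.2 (EY x hx.1 (mem_centralizer_singleton_iff.1 hx.2).symm)
  · have yA : y ∉ A := fun hA' => hn ⟨hA', cz y hA' (mem_centralizer_singleton_iff.1 hy).symm⟩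
    exact EZ e he (h.fr y yA e (EA he) (by rw [commutatorElement_eq_one_iff_mul_comm.2 k]; exact one_mem _))

end H84.NDA
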