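import Mathlib
import Cfsg.Agent.Lib.NDA.RO
import Cfsg.Agent.Lib.KMS2.Ord

/-! Project NDA, package FP2. -/

set_option autoImplicit false
open Cfsg Subgroup
open scoped commutatorElement

namespace H84.NDA

variable {G W : Type*} [Group G] [Finite G] [CommGroup W] [Finite W] [Nontrivial W]
  {φ : G →* MulAut W}

theorem FQ.fre {E Y Z : Subgroup G} (h : FQ φ E Y Z) {X : Subgroup G} (hX : X ≤ Y)
    (hZ : X ⊓ Z = ⊥) : Nat.card W = Nat.card (H2.fixSub φ X) ^ Nat.card X := by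
  haveI := h.nE
  haveI := h.cyc
  have hn : Group.IsNilpotent E := by
    letI : CommGroup E := IsCyclic.commGroup
    infer_instance
  refine H84.KM.card_eq (F := E) (H := X) hn (fun y hy y1 => (eq_bot_iff_forall _).mpr fun e he => ?_) _ W φ rfl
    inferInstance ((eq_bot_iff_forall _).mpr fun w hw => ?_)
  · exact h.fpf y (hX hy) (fun hz => y1 (mem_bot.mp (hZ ▸ mem_inf.mpr ⟨hy, hz⟩))) e (mem_inf.mp he).1
      (mem_centralizer_singleton_iff.mp (mem_inf.mp he).2).symm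
  · obtain ⟨⟨e, he⟩, e1⟩ := ne_bot_iff_exists_ne_one.mp h.ne
    exact h.semi e (mem_sup_left he) (fun e' => e1 (Subtype.ext e')) w (hw e he)

theorem fp2_dec {E Y Z : Subgroup G} (h : FQ φ E Y Z) (g : G) : ∃ e ∈ E, ∃ y ∈ Y, e * y = g :=
  haveI := h.nE
  mem_sup_of_normal_left.mp (h.sup ▸ mem_top g)

theorem fp2_not_mem {E Y Z : Subgroup G} (h : FQ φ E Y Z) {w : W} (hw : w ≠ 1) {y : G} (h1 : y ≠ 1)
    (hs : y ∈ H64.Palfy.st φ w) : y ∉ E ⊔ Z := fun hz => hw (h.semi y hz h1 w hs)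

theorem FQ.cen_le {E Y Z : Subgroup G} (h : FQ φ E Y Z) {y g : G} (hy : y ∈ Y) (hn : y ∉ Z)
    (hg : g * y = y * g) : g ∈ Y := by
  obtain ⟨e, he, y', hy', rfl⟩ := fp2_dec h g
  rw [mul_assoc, h.commY y' hy' y hy, ← mul_assoc, ← mul_assoc, mul_left_inj] at hg
  rwa [h.fpf y hy hn e he hg.symm, one_mul]

theorem FQ.st_le {E Y Z : Subgroup G} (h : FQ φ E Y Z) {w : W} (hw : w ≠ 1) {y : G} (hy : y ∈ Y)
    (h1 : y ≠ 1) (hs : y ∈ H64.Palfy.st φ w) : H64.Palfy.st φ w ≤ Y := fun g hg => by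
  refine h.cen_le hy (fun hz => fp2_not_mem h hw h1 hs (mem_sup_right hz)) ?_
  by_contra hc
  refine fp2_not_mem h hw (y := g * y * g⁻¹ * y⁻¹) (fun e => hc ?_)
    (mul_mem (mul_mem (mul_mem hg hs) (inv_mem hg)) (inv_mem hs)) (mem_sup_left ?_)
  · rwa [mul_inv_eq_one, mul_inv_eq_iff_eq_mul] at e
  · obtain ⟨e, he, y', hy', rfl⟩ := fp2_dec h g
    have : e * y' * y * (e * y')⁻¹ * y⁻¹ = e * (y * e⁻¹ * y⁻¹) := by
      rw [mul_assoc e, h.commY y' hy' y hy]; group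
    rw [this]
    exact mul_mem he (h.nE.conj_mem _ (inv_mem he) y)

theorem FQ.st_conj {E Y Z : Subgroup G} (h : FQ φ E Y Z) {w : W} (hw : w ≠ 1) :
    H64.Palfy.st φ w ≠ ⊥ ∧ H64.Palfy.st φ w ⊓ Z = ⊥ ∧
      ∃ e ∈ E, H64.Palfy.st φ (φ e w) ≤ Y := by
  haveI := h.nE
  have h0 : H64.Palfy.st φ w ≠ ⊥ := fun e => h.nd1 w hw (by rw [e, index_bot]; exact index_dvd_card _)
  refine ⟨h0, (eq_bot_iff_forall _).mpr fun z hz => ?_, ?_⟩
  · by_contra h1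
    exact fp2_not_mem h hw h1 (mem_inf.mp hz).1 (mem_sup_right (mem_inf.mp hz).2)
  · obtain ⟨⟨g, hg⟩, g1⟩ := ne_bot_iff_exists_ne_one.mp h0
    replace g1 : g ≠ 1 := fun e => g1 (Subtype.ext e)
    obtain ⟨e, he, y, hy, rfl⟩ := fp2_dec h g
    have yZ : y ∉ Z := fun hz => fp2_not_mem h hw g1 hg (mul_mem_sup he hz)
    obtain ⟨b, hb, rfl⟩ := (H64.Palfy.surj_iff_fpf y).mpr (h.fpf y hy yZ) e he
    refine ⟨b⁻¹, inv_mem hb, h.st_le (fun e => hw ((map_eq_one_iff _ (φ b⁻¹).injective).mp e)) hy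
      (fun e => yZ (e ▸ one_mem Z)) ?_⟩
    have := H64.Palfy.conj_mem_st b⁻¹ hg
    rwa [show b⁻¹ * (⁅b, y⁆ * y) * b⁻¹⁻¹ = y by rw [commutatorElement_def]; group] at this

theorem FQ.is_st {E Y Z : Subgroup G} (h : FQ φ E Y Z) {X : Subgroup G} (hX : X ≤ Y)
    (hZ : X ⊓ Z = ⊥) (h0 : X ≠ ⊥) (hc : (X.relIndex Y).Coprime (Nat.card W)) :
    ∃ w, w ≠ 1 ∧ H64.Palfy.st φ w = X := by
  have c1 := h.fre hX hZ
  have U0 : H2.fixSub φ X ≠ ⊥ := fun e => by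
    rw [e, card_bot, one_pow] at c1
    exact (Finite.one_lt_card (α := W)).ne' c1
  obtain ⟨⟨u, hu⟩, u1⟩ := ne_bot_iff_exists_ne_one.mp U0
  replace u1 : u ≠ 1 := fun e => u1 (Subtype.ext e)
  obtain ⟨⟨x, hx⟩, x1⟩ := ne_bot_iff_exists_ne_one.mp h0
  replace x1 : x ≠ 1 := fun e => x1 (Subtype.ext e)
  have hN : ∀ a : Y, ∀ v ∈ H2.fixSub φ X, (φ.comp Y.subtype) a v ∈ H2.fixSub φ X := fun a v hv b hb => by
    change φ b (φ a v) = φ a v
    rw [← MulAut.mul_apply, ← map_mul, h.commY b (hX hb) a a.2, map_mul, MulAut.mul_apply, hv b hb]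
  let ψ := H2.subAut (φ.comp Y.subtype) (H2.fixSub φ X) hN
  have hψ : ∀ (a : Y) (v : H2.fixSub φ X), (ψ a v : W) = φ a v := fun _ _ => rfl
  have mk : ∀ a : Y, a ∈ ψ.ker ↔ ∀ v ∈ H2.fixSub φ X, φ a v = v := fun a =>
    ⟨fun ha v hv => by rw [← hψ a ⟨v, hv⟩, MonoidHom.mem_ker.mp ha, MulAut.one_apply],
      fun ha => MulEquiv.ext fun v => Subtype.ext (ha v v.2)⟩
  have l1 : X ≤ ψ.ker.map Y.subtype := fun a ha => ⟨⟨a, hX ha⟩, (mk _).mpr fun v hv => hv a ha, rfl⟩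
  have e1 : H2.fixSub φ (ψ.ker.map Y.subtype) = H2.fixSub φ X :=
    le_antisymm (fun v hv b hb => hv b (l1 hb)) fun v hv b ⟨a, ha, e⟩ => e ▸ (mk a).mp ha v hv
  have c2 := h.fre (map_subtype_le ψ.ker) ((eq_bot_iff_forall _).mpr fun z hz => by
    by_contra h1
    obtain ⟨a, ha, rfl⟩ := (mem_inf.mp hz).1
    exact u1 (h.semi _ (mem_sup_right (mem_inf.mp hz).2) h1 u ((mk a).mp ha u hu)))
  rw [e1, c1] at c2
  have e2 : X = ψ.ker.map Y.subtype := eq_of_le_of_card_ge l1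
    (Nat.pow_right_injective ((one_lt_card_iff_ne_bot _).mpr U0) c2).ge
  have e3 : X.subgroupOf Y = ψ.ker := by
    conv_lhs => rw [e2]
    exact comap_map_eq_self_of_injective Y.subtype_injective _
  obtain ⟨v, hv⟩ := ro (φ := ψ) (fun a b => Subtype.ext (h.commY a a.2 b b.2)) mul_comm
    (by rw [← e3]; exact hc.coprime_dvd_right (card_subgroup_dvd_card _))
  by_cases v1 : (v : W) = 1
  · have h1 : Y ≤ X := fun y hy => by
      have : (⟨y, hy⟩ : Y) ∈ H64.Palfy.st ψ v := Subtype.ext (by rw [hψ, v1, map_one])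
      rwa [hv, ← e3] at this
    exact ⟨u, u1, le_antisymm ((h.st_le u1 (hX hx) x1 (hu x hx)).trans h1) (H64.Palfy.le_st.mpr hu)⟩
  · refine ⟨v, v1, le_antisymm (fun y hy => ?_) (H64.Palfy.le_st.mpr v.2)⟩
    have : (⟨y, h.st_le v1 (hX hx) x1 (v.2 x hx) hy⟩ : Y) ∈ H64.Palfy.st ψ v := Subtype.ext hy
    rwa [hv, ← e3] at this

end H84.NDA
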