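import Mathlib
import Cfsg.Agent.Lib.NDA.FP2

/-! Project NDA, package FP2c. -/

set_option autoImplicit false
open Cfsg Subgroup
open scoped commutatorElement

namespace H84.NDA

theorem fp2c_syl {G : Type*} [Group G] [Finite G] (Y : Subgroup G) {r : ℕ} (hr : r.Prime) :
    ∃ R : Subgroup G, R ≤ Y ∧ IsPGroup r R ∧ ¬ r ∣ R.relIndex Y := by
  have := Fact.mk hr
  obtain ⟨Q⟩ : Nonempty (Sylow r Y) := inferInstance
  refine ⟨(Q : Subgroup Y).map Y.subtype, map_subtype_le _, Q.isPGroup'.map _, ?_⟩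
  rw [relIndex, subgroupOf, comap_map_eq_self_of_injective Y.subtype_injective]
  exact Q.not_dvd_index

theorem fp2c_inf {G : Type*} [Group G] [Finite G] {Y Z X R : Subgroup G}
    (hc : ∀ a ∈ Y, ∀ b ∈ Y, a * b = b * a) (hX : X ≤ Y) (hR : R ≤ Y) (hZ : X ⊓ Z = ⊥) {r : ℕ}
    (hr : r.Prime) (hp : IsPGroup r R) (hd : ¬ r ∣ Nat.card Z) : (X ⊔ R) ⊓ Z = ⊥ := by
  let T : Subgroup G :=
    { carrier := {g | g ∈ Y ∧ ∃ k : ℕ, g ^ r ^ k ∈ X}
      one_mem' := ⟨one_mem _, 0, by rw [one_pow]; exact one_mem _⟩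
      mul_mem' := fun {a b} ⟨ha, i, hi⟩ ⟨hb, j, hj⟩ => ⟨mul_mem ha hb, i + j, by
        rw [Commute.mul_pow (hc a ha b hb)]
        refine mul_mem ?_ ?_
        · rw [pow_add, pow_mul]; exact pow_mem hi _
        · rw [add_comm, pow_add, pow_mul]; exact pow_mem hj _⟩
      inv_mem' := fun {a} ⟨ha, i, hi⟩ => ⟨inv_mem ha, i, by rw [inv_pow]; exact inv_mem hi⟩ }
  have hT : X ⊔ R ≤ T := by
    refine sup_le (fun x hx => ⟨hX hx, 0, by rwa [pow_zero, pow_one]⟩) fun x hx => ?_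
    obtain ⟨k, hk⟩ := hp ⟨x, hx⟩
    refine ⟨hR hx, k, ?_⟩
    rw [show x ^ r ^ k = 1 from congrArg Subtype.val hk]
    exact one_mem _
  rw [eq_bot_iff]
  rintro z ⟨hz, hzZ⟩
  obtain ⟨-, k, hk⟩ := hT hz
  have h1 : z ^ r ^ k = 1 := by
    rw [← mem_bot, ← hZ]; exact ⟨hk, pow_mem hzZ _⟩
  rw [mem_bot, ← orderOf_eq_one_iff]
  exact Nat.eq_one_of_dvd_coprimes (((Nat.Prime.coprime_iff_not_dvd hr).2 hd).pow_left k)
    (orderOf_dvd_of_pow_eq_one h1) (orderOf_dvd_natCard Z hzZ)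

theorem fp2c_cauchy {G : Type*} [Group G] [Finite G] {X : Subgroup G} {r : ℕ} (hr : r.Prime)
    (hd : r ∣ Nat.card X) : ∃ y ∈ X, y ≠ 1 ∧ Nat.card (zpowers y) = r := by
  have := Fact.mk hr
  obtain ⟨y, hy⟩ := exists_prime_orderOf_dvd_card' r hd
  have e : orderOf (y : G) = r := by rw [orderOf_coe, hy]
  refine ⟨y, y.2, fun h => hr.ne_one ?_, by rw [Nat.card_zpowers, e]⟩
  rw [← e, h, orderOf_one]

variable {G W : Type*} [Group G] [Finite G] [CommGroup W] [Finite W] [Nontrivial W]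
  {φ : G →* MulAut W}

theorem FQ.fp2c_ndvd {E Y Z : Subgroup G} (h : FQ φ E Y Z) {l : ℕ} (hl : l.Prime)
    (hW : IsPGroup l W) : ¬ l ∣ Nat.card Z := by
  intro hd
  have := Fact.mk hl
  obtain ⟨z, hz, h1, hc⟩ := fp2c_cauchy hl hd
  have hp : IsPGroup l (zpowers z) := IsPGroup.of_card (n := 1) (by rw [hc, pow_one])
  have hm := H64.Palfy.card_fix_modEq φ hp
  have hb : H2.fixSub φ (zpowers z) = ⊥ := by
    rw [eq_bot_iff]
    intro w hw
    exact h.semi z (mem_sup_right hz) h1 w (hw z (mem_zpowers z))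
  rw [hb, card_bot] at hm
  obtain ⟨n, hn, e⟩ := hW.nontrivial_iff_card.1 inferInstance
  have h2 : l ∣ 1 := (hm.dvd_iff dvd_rfl).1 (e ▸ dvd_pow_self l hn.ne')
  exact hl.not_dvd_one h2

omit [Nontrivial W] [Finite W] in
theorem FQ.fp2c_eq {E Y Z : Subgroup G} (h : FQ φ E Y Z) {v w : W} (hv : v ≠ 1) (hw : w ≠ 1)
    (hle : H64.Palfy.st φ v ≤ H64.Palfy.st φ w) : H64.Palfy.st φ v = H64.Palfy.st φ w := by
  have e := h.nd2 w v hw hv (index_dvd_of_le hle)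
  refine eq_of_le_of_card_ge hle (le_of_eq ?_)
  have e1 := (H64.Palfy.st φ v).card_mul_index
  rw [← (H64.Palfy.st φ w).card_mul_index, e] at e1
  exact (Nat.eq_of_mul_eq_mul_right (Nat.pos_of_ne_zero index_ne_zero_of_finite) e1).symm

omit [Nontrivial W] [Finite W] in
theorem FQ.fp2c_nz {E Y Z : Subgroup G} (h : FQ φ E Y Z) {w : W} (hw : w ≠ 1) :
    ¬ Nat.card (H64.Palfy.st φ w) ∣ Nat.card Z := by
  intro hd
  obtain ⟨m, hm⟩ := hd.trans (card_dvd_of_le (le_sup_right : Z ≤ E ⊔ Z))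
  have e1 := (E ⊔ Z).card_mul_index
  rw [← (H64.Palfy.st φ w).card_mul_index, hm, mul_assoc] at e1
  exact h.nd1 w hw (Dvd.intro_left m (Nat.eq_of_mul_eq_mul_left Nat.card_pos e1))

theorem FQ.syl {E Y Z : Subgroup G} (h : FQ φ E Y Z) {l : ℕ} (hl : l.Prime) (hW : IsPGroup l W) :
    ∃ (r : ℕ) (R : Subgroup G), r.Prime ∧ R ≤ Y ∧ Nat.card R = r ∧ ¬ r ∣ R.relIndex Y ∧
      R ⊓ Z = ⊥ ∧ ∀ w, w ≠ 1 → ∃ e ∈ E, H64.Palfy.st φ (φ e w) = R := by
  have := Fact.mk hl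
  have hlZ := h.fp2c_ndvd hl hW
  obtain ⟨L, hLY, hLp, hLi⟩ := fp2c_syl Y hl
  have hgood : ∀ X : Subgroup G, X ≤ Y → X ⊓ Z = ⊥ → X ≠ ⊥ → L ≤ X →
      ∃ w, w ≠ 1 ∧ H64.Palfy.st φ w = X := by
    intro X hX hZ h0 hL
    refine h.is_st hX hZ h0 ?_
    obtain ⟨n, hn⟩ := hW.exists_card_eq
    rw [hn]
    exact (((Nat.Prime.coprime_iff_not_dvd hl).2 fun hd =>
      hLi (hd.trans (relIndex_dvd_of_le_left Y hL))).pow_left n).symm
  have habs : ∀ w, w ≠ 1 → H64.Palfy.st φ w ≤ Y → ∀ (r : ℕ) (R : Subgroup G), r.Prime → R ≤ Y →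
      IsPGroup r R → ¬ r ∣ Nat.card Z → L ≤ H64.Palfy.st φ w ⊔ R → R ≤ H64.Palfy.st φ w := by
    intro w hw hY r R hr hR hp hd hL
    obtain ⟨h0, hZ, -⟩ := h.st_conj hw
    obtain ⟨v, hv, e⟩ := hgood _ (sup_le hY hR) (fp2c_inf h.commY hY hR hZ hr hp hd)
      (fun hb => h0 (le_bot_iff.1 (hb ▸ le_sup_left))) hL
    rw [h.fp2c_eq hw hv (e ▸ le_sup_left), e]
    exact le_sup_right
  have hL : ∀ w, w ≠ 1 → H64.Palfy.st φ w ≤ Y → L ≤ H64.Palfy.st φ w := fun w hw hY =>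
    habs w hw hY l L hl hLY hLp hlZ le_sup_right
  have hprime : ∀ w, w ≠ 1 → H64.Palfy.st φ w ≤ Y → (Nat.card (H64.Palfy.st φ w)).Prime := by
    intro w hw hY
    obtain ⟨h0, hZ, -⟩ := h.st_conj hw
    by_cases hb : L = ⊥
    · obtain ⟨r, hr, hd⟩ := Nat.exists_prime_and_dvd (mt card_eq_one.1 h0)
      obtain ⟨y, hy, h1, hc⟩ := fp2c_cauchy hr hd
      have hle : zpowers y ≤ H64.Palfy.st φ w := zpowers_le.2 hy
      obtain ⟨v, hv, e⟩ := hgood (zpowers y) (hle.trans hY)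
        (le_bot_iff.1 (hZ ▸ inf_le_inf_right Z hle)) (zpowers_ne_bot.2 h1) (hb ▸ bot_le)
      rwa [← h.fp2c_eq hv hw (e ▸ hle), e, hc]
    · have hLZ : L ⊓ Z = ⊥ := le_bot_iff.1 (hZ ▸ inf_le_inf_right Z (hL w hw hY))
      obtain ⟨v, hv, e⟩ := hgood L hLY hLZ hb le_rfl
      have hall : ∀ u, u ≠ 1 → H64.Palfy.st φ u ≤ Y → H64.Palfy.st φ u = L := fun u hu huY => by
        rw [← h.fp2c_eq hv hu (e ▸ hL u hu huY), e]
      obtain ⟨n, hn, en⟩ := hLp.nontrivial_iff_card.1 ((nontrivial_iff_ne_bot L).2 hb)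
      obtain ⟨y, hy, h1, hc⟩ := fp2c_cauchy (X := L) hl (en ▸ dvd_pow_self l hn.ne')
      have hle : zpowers y ≤ L := zpowers_le.2 hy
      have hfix : H2.fixSub φ (zpowers y) = H2.fixSub φ L := by
        refine le_antisymm (fun u hu => ?_) fun u hu b hb => hu b (hle hb)
        by_cases hu1 : u = 1
        · rw [hu1]; exact one_mem _
        · exact H64.Palfy.le_st.1 (hall u hu1
            (h.st_le hu1 (hLY hy) h1 (hu y (mem_zpowers y)))).ge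
      have e1 := h.fre (hle.trans hLY) (le_bot_iff.1 (hLZ ▸ inf_le_inf_right Z hle))
      have e2 := h.fre hLY hLZ
      rw [hfix, hc] at e1
      have ha : 2 ≤ Nat.card (H2.fixSub φ L) := by
        rcases Nat.lt_or_ge 1 (Nat.card (H2.fixSub φ L)) with ha | ha
        · exact ha
        · rw [le_antisymm ha Nat.card_pos, one_pow] at e1
          exact absurd e1 (Finite.one_lt_card (α := W)).ne'
      rwa [hall w hw hY, ← Nat.pow_right_injective ha (e1.symm.trans e2)]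
  have hne : ∀ (e : G) (w : W), w ≠ 1 → φ e w ≠ 1 := fun e w hw h1 =>
    hw ((MulEquiv.map_eq_one_iff _).1 h1)
  obtain ⟨w₀, hw₀⟩ := exists_ne (1 : W)
  obtain ⟨-, -, e₀, -, hY₀⟩ := h.st_conj hw₀
  have hv := hne e₀ w₀ hw₀
  have hr := hprime _ hv hY₀
  obtain ⟨R, hRY, hRp, hRi⟩ := fp2c_syl Y hr
  refine ⟨_, _, hr, hY₀, rfl, fun hd => hRi (hd.trans (relIndex_dvd_of_le_left Y ?_)),
    (h.st_conj hv).2.1, fun w hw => ?_⟩
  · exact habs _ hv hY₀ _ R hr hRY hRp (h.fp2c_nz hv) ((hL _ hv hY₀).trans le_sup_left)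
  · obtain ⟨-, -, e, he, hY⟩ := h.st_conj hw
    have hu := hne e w hw
    refine ⟨e, he, h.fp2c_eq hu hv ?_⟩
    exact habs _ hv hY₀ _ _ (hprime _ hu hY) hY (IsPGroup.of_card (n := 1) (pow_one _).symm)
      (h.fp2c_nz hu) ((hL _ hv hY₀).trans le_sup_left)

end H84.NDA
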