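import Mathlib
import Cfsg.Agent.Lib.NDA.FP2c
import Cfsg.Agent.Lib.NDA.FLD1
import Cfsg.Agent.Lib.NDA.FLD2

/-! Project NDA, package FP3. -/

set_option autoImplicit false
open Cfsg Subgroup
open scoped commutatorElement

namespace H84.NDA

variable {G W : Type*} [Group G] [Finite G] [CommGroup W] [Finite W] [Nontrivial W]
  {φ : G →* MulAut W}

theorem fld {e h : MulAut W} {a r s : ℕ} (hr : r.Prime) (hs : s.Prime) (hne : r ≠ s)
    (hW : Nat.card W = a ^ r) (ho : orderOf e * (a - 1) = a ^ r - 1)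
    (hse : ∀ x ∈ zpowers e, x ≠ 1 → ∀ w, x w = w → w = 1) (hh : h * e * h⁻¹ ∈ zpowers e)
    (hc : h ^ s * e = e * h ^ s) : ∃ x ∈ zpowers e, x ≠ 1 ∧ h * x = x * h := by
  have hI := fld_irr hr.two_le hW ho hse
  obtain ⟨l, hl, hlW⟩ := Nat.exists_prime_and_dvd (Finite.one_lt_card (α := W)).ne'
  haveI := Fact.mk hl
  have hp : IsPGroup l W := by
    obtain ⟨w, hw⟩ := exists_prime_orderOf_dvd_card' l hlW
    rcases hI (powMonoidHom l : W →* W).ker (fun v hv => by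
      rw [MonoidHom.mem_ker, powMonoidHom_apply] at hv ⊢
      rw [← map_pow, hv, map_one]) with h1 | h1
    · have h2 : w ∈ (powMonoidHom l : W →* W).ker := by
        rw [MonoidHom.mem_ker, powMonoidHom_apply, ← hw, pow_orderOf_eq_one]
      rw [h1, mem_bot] at h2
      rw [h2, orderOf_one] at hw
      exact absurd hw.symm hl.ne_one
    · intro v
      have h2 : v ∈ (powMonoidHom l : W →* W).ker := h1 ▸ mem_top v
      exact ⟨1, by rw [pow_one]; exact h2⟩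
  obtain ⟨d, hd⟩ := IsPGroup.iff_card.mp hp
  have d0 : d ≠ 0 := fun h0 => (Finite.one_lt_card (α := W)).ne' (by rw [hd, h0, pow_zero])
  obtain ⟨⟨t, ht⟩, hk⟩ := fld_frob hl hd hI hh
  have pw : ∀ k : ℕ, e ^ l ^ k = e ↔ orderOf e ∣ l ^ k - 1 := fun k => by
    have h1 : l ^ k = l ^ k - 1 + 1 := (Nat.sub_add_cancel (Nat.one_le_pow _ _ hl.pos)).symm
    rw [orderOf_dvd_iff_pow_eq_one]
    conv_lhs => rw [h1, pow_succ, mul_eq_right]
  have it : ∀ n : ℕ, h ^ n * e * (h ^ n)⁻¹ = e ^ l ^ (t * n) := fun n => by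
    induction n with
    | zero => simp
    | succ n ih =>
      calc h ^ (n + 1) * e * (h ^ (n + 1))⁻¹ = h * (h ^ n * e * (h ^ n)⁻¹) * h⁻¹ := by group
        _ = (h * e * h⁻¹) ^ l ^ (t * n) := by rw [ih, conj_pow]
        _ = _ := by rw [ht, ← pow_mul, ← pow_add, mul_add, mul_one, add_comm]
  have h1 := fld_num (t := t) hl hr hs hne d0 (hW.symm.trans hd) ho (fun k h => hk k ((pw k).mpr h))
    ((pw _).mp (by rw [← it, hc, mul_inv_cancel_right]))
  obtain ⟨q, hq, ⟨c, hqc⟩, ⟨c', hqc'⟩⟩ := Nat.Prime.not_coprime_iff_dvd.mp h1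
  have N0 := orderOf_pos e
  have c0 : c ≠ 0 := fun h0 => by rw [h0, mul_zero] at hqc; omega
  refine ⟨e ^ c, npow_mem_zpowers e c, pow_ne_one_of_lt_orderOf c0 ?_, ?_⟩
  · rw [hqc]; exact lt_mul_of_one_lt_left (Nat.pos_of_ne_zero c0) hq.one_lt
  · have h2 : l ^ t = q * c' + 1 := by rw [← hqc', Nat.sub_add_cancel (Nat.one_le_pow _ _ hl.pos)]
    have h3 : h * e ^ c * h⁻¹ = e ^ c := by
      rw [← conj_pow, ht, h2, ← pow_mul, show (q * c' + 1) * c = q * c * c' + c by ring, pow_add, pow_mul,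
        ← hqc, pow_orderOf_eq_one, one_pow, one_mul]
    exact mul_inv_eq_iff_eq_mul.mp h3

theorem fp3_card {E Y Z : Subgroup G} (h : FQ φ E Y Z) {R : Subgroup G} (hR : R ≤ Y) (h0 : R ≠ ⊥)
    (hZ : R ⊓ Z = ⊥) (hs : ∀ w, w ≠ 1 → ∃ e ∈ E, H64.Palfy.st φ (φ e w) = R) :
    Nat.card E * (Nat.card (H2.fixSub φ R) - 1) = Nat.card W - 1 := by
  haveI := h.nE
  obtain ⟨⟨y, hy⟩, y1⟩ := ne_bot_iff_exists_ne_one.mp h0
  replace y1 : y ≠ 1 := fun e => y1 (Subtype.ext e)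
  have yZ : y ∉ Z := fun hz => y1 (mem_bot.mp (hZ ▸ mem_inf.mpr ⟨hy, hz⟩))
  have cd : ∀ {V : Type _} [Group V] [Finite V], Nat.card {v : V // v ≠ 1} = Nat.card V - 1 := fun {V} _ _ => by
    classical
    have := Fintype.ofFinite V
    rw [Nat.card_eq_fintype_card, Nat.card_eq_fintype_card, Fintype.card_subtype_compl, Fintype.card_subtype_eq]
  rw [← cd, ← cd, ← Nat.card_prod]
  refine Nat.card_eq_of_bijective (fun p => ⟨φ p.1 p.2.1, fun e => p.2.2 (Subtype.ext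
    ((map_eq_one_iff _ (φ p.1).injective).mp e))⟩) ⟨?_, ?_⟩
  · rintro ⟨⟨e, he⟩, ⟨⟨v, hv⟩, v1⟩⟩ ⟨⟨e', he'⟩, ⟨⟨v', hv'⟩, v1'⟩⟩ hh
    have h1 : φ e v = φ e' v' := congrArg Subtype.val hh
    have h2 : φ (e'⁻¹ * e) v = v' := by
      rw [map_mul, MulAut.mul_apply, h1, ← MulAut.mul_apply, ← map_mul, inv_mul_cancel, map_one,
        MulAut.one_apply]
    have hd : e'⁻¹ * e ∈ E := mul_mem (inv_mem he') he
    have h3 := H64.Palfy.conj_mem_st (e'⁻¹ * e) (H64.Palfy.le_st.mpr hv hy)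
    rw [h2] at h3
    have h4 := h.st_le (fun e => v1' (Subtype.ext e)) (hR hy) y1 (H64.Palfy.le_st.mpr hv' hy) h3
    have h5 : e'⁻¹ * e * y * (e'⁻¹ * e)⁻¹ * y⁻¹ ∈ E ⊓ Y := mem_inf.mpr ⟨by
      rw [mul_assoc, mul_assoc, ← mul_assoc y]
      exact mul_mem hd (h.nE.conj_mem _ (inv_mem hd) y), mul_mem h4 (inv_mem (hR hy))⟩
    rw [h.inf, mem_bot, mul_inv_eq_one, mul_inv_eq_iff_eq_mul] at h5
    have h6 := h.fpf y (hR hy) yZ _ hd h5.symm
    rw [h6, map_one, MulAut.one_apply] at h2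
    obtain rfl : e' = e := inv_mul_eq_one.mp h6
    subst h2
    rfl
  · rintro ⟨w, hw⟩
    obtain ⟨e, he, hR'⟩ := hs w hw
    refine ⟨⟨⟨e⁻¹, inv_mem he⟩, ⟨φ e w, H64.Palfy.le_st.mp hR'.ge⟩, fun h1 => hw
      ((map_eq_one_iff _ (φ e).injective).mp (congrArg Subtype.val h1))⟩, Subtype.ext ?_⟩
    change φ e⁻¹ (φ e w) = w
    rw [← MulAut.mul_apply, ← map_mul, inv_mul_cancel, map_one, MulAut.one_apply]

theorem FQ.prime {E Y Z : Subgroup G} (h : FQ φ E Y Z) {l : ℕ} (hl : l.Prime)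
    (hW : IsPGroup l W) : (E ⊔ Z).index.Prime := by
  haveI := h.nE
  haveI : Z.Normal := ⟨fun z hz g => by rwa [mem_center_iff.mp (h.cen hz) g, mul_inv_cancel_right]⟩
  obtain ⟨r, R, hr, hR, cR, nR, hZ, hs⟩ := h.syl hl hW
  have R0 : R ≠ ⊥ := fun e => hr.ne_one (by rw [← cR, e, card_bot])
  have hc := h.fre hR hZ
  have hE := fp3_card h hR R0 hZ hs
  rw [cR] at hc
  obtain ⟨w0, hw0⟩ := exists_ne (1 : W)
  have inj : ∀ x ∈ E, φ x = 1 → x = 1 := fun x hx e => by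
    by_contra h1
    exact hw0 (h.semi x (mem_sup_left hx) h1 w0 (by rw [e, MulAut.one_apply]))
  obtain ⟨e0, he0⟩ := (isCyclic_iff_exists_zpowers_eq_top (α := E)).mp h.cyc
  have gen : ∀ x ∈ E, ∃ i : ℤ, (e0 : G) ^ i = x := fun x hx => by
    obtain ⟨i, hi⟩ := mem_zpowers_iff.mp (he0 ▸ mem_top (⟨x, hx⟩ : E) : (⟨x, hx⟩ : E) ∈ zpowers e0)
    exact ⟨i, congrArg Subtype.val hi⟩
  have ord : orderOf (φ e0) = Nat.card E := by
    rw [← orderOf_eq_card_of_zpowers_eq_top he0, orderOf_eq_orderOf_iff]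
    intro n
    rw [← map_pow]
    exact ⟨fun e => Subtype.ext (inj _ (pow_mem e0.2 n) e), fun e => by
      rw [← coe_pow, e, coe_one, map_one]⟩
  have back : ∀ x ∈ zpowers (φ e0), ∃ d ∈ E, φ d = x := fun x hx => by
    obtain ⟨i, rfl⟩ := mem_zpowers_iff.mp hx
    exact ⟨_, zpow_mem e0.2 i, map_zpow φ _ i⟩
  have dec : ∀ g : G, ∃ e ∈ E, ∃ y ∈ Y, e * y = g := fun g =>
    mem_sup_of_normal_left.mp (h.sup ▸ mem_top g)
  have uq : ∀ {s : ℕ}, s.Prime → s ∣ (E ⊔ Z).index → s = r := fun {s} hs' hd => by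
    by_contra hne
    haveI := Fact.mk hs'
    obtain ⟨q, hq⟩ := exists_prime_orderOf_dvd_card' (G := G ⧸ (E ⊔ Z)) s hd
    obtain ⟨g, rfl⟩ := QuotientGroup.mk_surjective q
    obtain ⟨e, he, y, hy, rfl⟩ := dec g
    rw [QuotientGroup.mk_mul, (QuotientGroup.eq_one_iff e).mpr (mem_sup_left he), one_mul] at hq
    have yZ : y ∉ Z := fun hz => by
      rw [(QuotientGroup.eq_one_iff y).mpr (mem_sup_right hz), orderOf_one] at hq
      exact hs'.ne_one hq.symm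
    have ys : y ^ s ∈ E ⊔ Z := by
      rw [← QuotientGroup.eq_one_iff, QuotientGroup.mk_pow, ← hq, pow_orderOf_eq_one]
    obtain ⟨x, hx, x1, cx⟩ := fld (e := φ e0) (h := φ y) hr hs' (Ne.symm hne) hc (by rw [ord, hE, hc])
      (fun x hx x1 w hw => by
        obtain ⟨d, hd, rfl⟩ := back x hx
        exact h.semi d (mem_sup_left hd) (fun e => x1 (by rw [e, map_one])) w hw)
      (by
        obtain ⟨i, hi⟩ := gen _ (h.nE.conj_mem _ e0.2 y)
        rw [← map_inv, ← map_mul, ← map_mul, ← hi, map_zpow]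
        exact zpow_mem_zpowers _ i)
      (by
        obtain ⟨d, hd, z, hz, e⟩ := mem_sup_of_normal_left.mp ys
        obtain ⟨i, rfl⟩ := gen d hd
        rw [← map_pow, ← map_mul, ← map_mul, ← e, mul_assoc, ← mem_center_iff.mp (h.cen hz), ← mul_assoc,
          ← mul_assoc, (Commute.zpow_self (e0 : G) i).eq])
    obtain ⟨d, hd, rfl⟩ := back x hx
    have h1 := inj (y * d * y⁻¹ * d⁻¹) (mul_mem (h.nE.conj_mem _ hd y) (inv_mem hd)) (by
      rw [map_mul, map_mul, map_mul, cx, map_inv, map_inv]; group)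
    rw [mul_inv_eq_one, mul_inv_eq_iff_eq_mul] at h1
    exact x1 (by rw [h.fpf y hy yZ d hd h1, map_one])
  have f1 : (E ⊔ Z).index ≠ 1 := fun e => h.lt fun y hy => by
    obtain ⟨d, hd, z, hz, e'⟩ := mem_sup_of_normal_left.mp (index_eq_one.mp e ▸ mem_top y : y ∈ E ⊔ Z)
    have h1 : d ∈ E ⊓ Y := mem_inf.mpr ⟨hd, (mul_mem_cancel_right (h.le hz)).mp (e' ▸ hy)⟩
    rw [h.inf, mem_bot] at h1
    rwa [← e', h1, one_mul]
  have fY : (E ⊔ Z).index ∣ Nat.card Y := by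
    have h1 : Y ⊔ (E ⊔ Z) = ⊤ := by rw [← sup_assoc, sup_comm Y, h.sup, top_sup_eq]
    rw [← relIndex_top_right, ← h1, relIndex_sup_right]
    exact index_dvd_card _
  have cY : r * R.relIndex Y = Nat.card Y := by
    rw [← cR, ← Nat.card_congr (subgroupOfEquivOfLe hR).toEquiv]
    exact card_mul_index _
  have h1 := Nat.eq_prime_pow_of_unique_prime_dvd (index_ne_zero_of_finite (H := E ⊔ Z)) uq
  generalize (E ⊔ Z).index.primeFactorsList.length = k at h1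
  rw [h1] at f1 fY ⊢
  match k with
  | 0 => exact absurd rfl f1
  | 1 => rwa [pow_one]
  | k + 2 =>
    rw [← cY, pow_succ', Nat.mul_dvd_mul_iff_left hr.pos] at fY
    exact absurd ((dvd_pow_self r (by omega)).trans fY) nR

end H84.NDA
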