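import Mathlib
import Cfsg.Agent.Lib.NDA.FP1
import Cfsg.Agent.Lib.NDA.FP3

/-! Project NDA, package FP0. -/

set_option autoImplicit false
set_option linter.unusedSectionVars false
open Cfsg Subgroup
open scoped commutatorElement

namespace H84.NDA

variable {G W : Type*} [Group G] [Finite G] [CommGroup W] [Finite W] [Nontrivial W]
  {φ : G →* MulAut W}

/-- restriction of the action to an invariant subgroup -/
def fp0_res (φ : G →* MulAut W) (U : Subgroup W) (hU : ∀ g, ∀ x ∈ U, φ g x ∈ U) : G →* MulAut U where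
  toFun g :=
    { toFun := fun x => ⟨φ g x, hU g x x.2⟩
      invFun := fun x => ⟨φ g⁻¹ x, hU _ x x.2⟩
      left_inv := fun x => Subtype.ext (by
        show φ g⁻¹ (φ g x) = x
        rw [← MulAut.mul_apply, ← map_mul, inv_mul_cancel, map_one, MulAut.one_apply])
      right_inv := fun x => Subtype.ext (H64.Palfy.app_inv φ g x)
      map_mul' := fun x y => Subtype.ext (map_mul (φ g) (x : W) y) }
  map_one' := MulEquiv.ext fun x => Subtype.ext (by
    show φ 1 x = x
    rw [map_one, MulAut.one_apply])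
  map_mul' a b := MulEquiv.ext fun x => Subtype.ext (by
    show φ (a * b) x = φ a (φ b x)
    rw [map_mul, MulAut.mul_apply])

theorem fp0_map {A : Subgroup G} [A.Normal] (h : FH φ A) {X U : Type*} [Group X] [Group U] [Nontrivial U]
    {π : G →* X} (hπ : Function.Surjective π) {ψ : X →* MulAut U} {ι : U →* W}
    (hι : Function.Injective ι) (e : ∀ g u, ι (ψ (π g) u) = φ g (ι u)) [(A.map π).Normal] :
    FH ψ (A.map π) ∧ (A.map π).index = A.index := by
  have hn : A.Normal := inferInstance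
  have n1 : ∀ u : U, u ≠ 1 → ι u ≠ 1 := fun u hu c => hu (hι (c.trans (map_one ι).symm))
  obtain ⟨u0, hu0⟩ := exists_ne (1 : U)
  obtain ⟨n0, hn0, hc0⟩ := SetLike.not_le_iff_exists.1 h.nc
  have k1 : ∀ k ∈ A, π k = 1 → k ∈ center G := fun k hk c => by
    by_contra d
    exact n1 u0 hu0 (h.fp k hk d _ (by rw [← e, c, map_one, MulAut.one_apply]))
  have cA : ∀ g, ∀ n ∈ A, ⁅g, n⁆ ∈ A := fun g n hA => mul_mem (hn.conj_mem n hA g) (inv_mem hA)
  have k2 : π.ker ≤ A := fun k hk => by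
    by_contra d
    refine hc0 (h.fr k d n0 hn0 (k1 _ (cA k n0 hn0) ?_))
    rw [map_commutatorElement, MonoidHom.mem_ker.1 hk, commutatorElement_one_left]
  obtain ⟨g0, hg0⟩ : ∃ g, g ∉ A := by
    by_contra! d
    exact hc0 (mem_center_iff.2 fun g => h.comm g (d g) n0 hn0)
  have k3 : ∀ n ∈ A, π n ∈ center X → n ∈ center G := fun n hA c =>
    h.fr g0 hg0 n hA (k1 _ (cA g0 n hA) (by
      rw [map_commutatorElement, commutatorElement_eq_one_iff_mul_comm]
      exact mem_center_iff.1 c _))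
  have k4 : ∀ n ∈ center G, π n ∈ center X := fun n c => mem_center_iff.2 fun x => by
    obtain ⟨g, rfl⟩ := hπ x
    rw [← map_mul, ← map_mul, mem_center_iff.1 c g]
  have i1 : (A.map π).index = A.index := index_map_eq _ hπ k2
  have i2 : ∀ u, (H64.Palfy.st ψ u).index = (H64.Palfy.st φ (ι u)).index := fun u => by
    rw [← index_comap_of_surjective _ hπ]
    congr 1
    ext g
    rw [mem_comap, H64.Palfy.mem_st, H64.Palfy.mem_st, ← e, hι.eq_iff]
  refine ⟨⟨?_, ?_, fun c => hc0 (k3 n0 hn0 (c ⟨n0, hn0, rfl⟩)), ?_, ?_, fun w hw => ?_,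
    fun v w hv hw => ?_⟩, i1⟩
  · rintro _ ⟨a, ha, rfl⟩ _ ⟨b, hb, rfl⟩
    rw [← map_mul, ← map_mul, h.comm a ha b hb]
  · have := h.cyc
    refine isCyclic_of_surjective (QuotientGroup.map A (A.map π) π (le_comap_map π A)) fun x => ?_
    obtain ⟨x, rfl⟩ := QuotientGroup.mk_surjective x
    obtain ⟨g, rfl⟩ := hπ x
    exact ⟨g, rfl⟩
  · rintro x hx _ ⟨n, hA, rfl⟩ c
    obtain ⟨g, rfl⟩ := hπ x
    rw [← map_commutatorElement] at c
    exact k4 n (h.fr g (fun d => hx ⟨g, d, rfl⟩) n hA (k3 _ (cA g n hA) c))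
  · rintro _ ⟨x, hx, rfl⟩ c w hw
    by_contra d
    exact n1 w d (h.fp x hx (fun d => c (k4 x d)) _ (by rw [← e, hw]))
  · rw [i1, i2]; exact h.nd1 _ (n1 w hw)
  · rw [i2, i2]; exact h.nd2 _ _ (n1 v hv) (n1 w hw)

theorem FH.prime {A : Subgroup G} [A.Normal] (h : FH φ A) : A.index.Prime := by
  obtain ⟨U, ⟨hU, hne⟩, hmin⟩ := (wellFounded_lt (α := Subgroup W)).has_min
    {U | (∀ g, ∀ x ∈ U, φ g x ∈ U) ∧ U ≠ ⊥} ⟨⊤, fun _ _ _ => mem_top _, top_ne_bot⟩
  have : Nontrivial U := (Subgroup.nontrivial_iff_ne_bot U).2 hne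
  let ρ := fp0_res φ U hU
  have hs := QuotientGroup.mk'_surjective ρ.ker
  have : (A.map (QuotientGroup.mk' ρ.ker)).Normal := Normal.map inferInstance _ hs
  obtain ⟨h', hi⟩ := fp0_map h hs (ψ := QuotientGroup.kerLift ρ) U.subtype_injective fun _ _ => rfl
  have hI : H64.Palfy.Irr (QuotientGroup.kerLift ρ) := fun V hV => by
    by_cases c : V = ⊥
    · exact Or.inl c
    refine Or.inr (map_injective U.subtype_injective ?_)
    rw [← MonoidHom.range_eq_map, range_subtype]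
    refine (map_subtype_le V).eq_or_lt.resolve_right (hmin _ ⟨?_, fun d => c ?_⟩)
    · rintro g _ ⟨x, hx, rfl⟩
      exact ⟨_, hV (g : G ⧸ ρ.ker) x hx, rfl⟩
    · exact (map_eq_bot_iff_of_injective _ U.subtype_injective).1 d
  obtain ⟨E, Y, Z, hq, e⟩ := h'.fq (QuotientGroup.kerLift_injective ρ) hI
  obtain ⟨l, hl, hd⟩ := Nat.exists_prime_and_dvd (Finite.one_lt_card (α := U)).ne'
  have := Fact.mk hl
  rw [← hi, ← e]
  exact hq.prime hl (H64.Palfy.isPGroup_of_irr hI mul_comm hd)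

end H84.NDA
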