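import Mathlib
import Cfsg.Agent.Lib.NDA.Defs

/-! Project NDA: the degrees in the Frobenius case. -/

set_option autoImplicit false
open Cfsg Subgroup
open scoped commutatorElement

namespace H84.NDA

variable {G : Type*} [Group G] [Finite G] {p : ℕ} {K N : Subgroup G} [K.Normal] [N.Normal]

theorem cb_eq (hB : H87.CaseB K p N) (hnd : H64.Palfy.ND G) {χ : G → ℂ}
    (hχ : IsIrrCharacter G χ) (hd : N.index ∣ charDegree χ) : charDegree χ = N.index := by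
  obtain ⟨τ, hτ, -, dτ⟩ := hB.deg
  have f1 := hB.one_lt
  rw [← dτ] at hd ⊢
  exact (hnd τ χ hτ hχ (by omega) hd).symm

theorem cb_eq' (hB : H87.CaseB K p N) (hnd : H64.Palfy.ND G) {χ : G → ℂ}
    (hχ : IsIrrCharacter G χ) (hd : charDegree χ ∣ N.index) :
    charDegree χ = 1 ∨ charDegree χ = N.index := by
  obtain ⟨τ, hτ, -, dτ⟩ := hB.deg
  rw [← dτ] at hd ⊢
  exact or_iff_not_imp_left.mpr fun h1 => hnd χ τ hχ hτ h1 hd

theorem cb_a1 (hB : H87.CaseB K p N) (hnd : H64.Palfy.ND G) {ψ : N → ℂ}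
    (hψ : IsIrrCharacter N ψ) (h1 : charDegree ψ ≠ 1) : p ∣ charDegree ψ :=
  (hB.deg_or_dvd hψ).resolve_left fun ⟨χ, hχ, e⟩ => h1 (by
    have := cb_eq hB hnd hχ (e ▸ Dvd.intro _ rfl)
    have f1 := hB.one_lt
    rw [e] at this
    nlinarith)

theorem cb_a2 (hB : H87.CaseB K p N) (hnd : H64.Palfy.ND G) {χ : G → ℂ}
    (hχ : IsIrrCharacter G χ) (hk : ⁅N, N⁆ ≤ H6.charKer χ) :
    charDegree χ = 1 ∨ charDegree χ = N.index := by
  obtain ⟨ψ, hψ, ho⟩ := H87.exists_under hχ N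
  have := ho.deg_dvd_mul hχ hψ
  rw [H87.deg_eq_one_of_commutator_le hψ fun x hx => (H6.mem_charKer (H6.irr_isCharacter hψ)).mpr
    (ho.apply_eq_of_mem_ker (H6.irr_isCharacter hχ) hψ ((H6.mem_charKer
      (H6.irr_isCharacter hχ)).mp (hk (H64.Palfy.mem_commutator_iff.mp hx)))), mul_one] at this
  exact cb_eq' hB hnd hχ this

theorem cb_a3 (hB : H87.CaseB K p N) (hnd : H64.Palfy.ND G) {χ : G → ℂ}
    (hχ : IsIrrCharacter G χ) (hk : ¬ ⁅N, N⁆ ≤ H6.charKer χ) : p ∣ charDegree χ := by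
  obtain ⟨ψ, hψ, ho⟩ := H87.exists_under hχ N
  exact (cb_a1 hB hnd hψ fun e => hk (ho.commutator_le_charKer hχ hψ e)).trans
    (ho.deg_dvd hχ hψ)

theorem cb_der_le (hB : H87.CaseB K p N) : ⁅N, N⁆ ≤ K :=
  commutator_le.mpr hB.comm

/-- a non-linear character of `N` is fixed by an element outside `N`. -/
theorem cb_inertia (hB : H87.CaseB K p N) (hnd : H64.Palfy.ND G) {ψ : N → ℂ}
    (hψ : IsIrrCharacter N ψ) (h1 : charDegree ψ ≠ 1) : ¬ H7.inertia ψ ≤ N := fun h => by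
  obtain ⟨χ, hχ, -, e⟩ := H87.exists_deg_eq_index_mul hψ h
  have := cb_eq hB hnd hχ (e ▸ Dvd.intro _ rfl)
  have f1 := hB.one_lt
  rw [e] at this
  exact h1 (by nlinarith)

end H84.NDA
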