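import Mathlib
import Cfsg.Agent.Lib.NDA.IE
import Cfsg.Agent.Lib.NDA.GL

/-! Project NDA, package G1a. -/

set_option autoImplicit false
open Cfsg Subgroup
open scoped commutatorElement

namespace H84.NDA

variable {G : Type*} [Group G] [Finite G] {p : ℕ}

private theorem g1a_layer {A : Type*} [Group A] [Group.IsSolvable A] {x : A} (hx : x ≠ 1) :
    ∃ i, x ∈ derivedSeries A i ∧ x ∉ derivedSeries A (i + 1) := by
  by_contra hc
  push Not at hc
  have key : ∀ i, x ∈ derivedSeries A i := by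
    intro i
    induction i with
    | zero => exact mem_top x
    | succ i ih => exact hc i ih
  obtain ⟨n, hn⟩ := (inferInstance : Group.IsSolvable A).solvable
  have := key n
  rw [hn, mem_bot] at this
  exact hx this

theorem fix_der [Group.IsSolvable G] (hp : p.Prime) {A P : Subgroup G} [A.Normal]
    (hP : IsPGroup p P) (hA : ¬ p ∣ Nat.card A) (hs : A ⊔ P = ⊤)
    (hd : ∀ ψ, IsIrrCharacter G ψ → charDegree ψ ≠ 1 → p ∣ charDegree ψ) {x : G} (h1 : x ∈ A)
    (h2 : x ∈ centralizer (P : Set G)) (h3 : x ∈ commutator G) : x = 1 := by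
  haveI := Fact.mk hp
  by_contra hne
  have hne' : (⟨x, h1⟩ : A) ≠ 1 := fun e => hne (congrArg Subtype.val e)
  obtain ⟨i, hi, hi'⟩ := g1a_layer hne'
  obtain ⟨k, hk⟩ := IsPGroup.iff_card.1 hP
  have hcop : (Nat.card P).Coprime (Nat.card A) := by
    rw [hk]
    exact Nat.Coprime.pow_left _ ((Nat.Prime.coprime_iff_not_dvd hp).2 hA)
  have hiv : ∀ j, Iv (act A P) ⊤ (derivedSeries A j) := fun j c _ y hy =>
    (characteristic_iff_le_comap.mp inferInstance (act A P c)) hy
  obtain ⟨μ, -, hμ, hμx⟩ := av hcop (hiv i) (hiv (i + 1)) (derivedSeries_succ A i).ge hi hi'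
    (fun c _ => by
      have e : act A P c ⟨x, h1⟩ = ⟨x, h1⟩ := by
        apply Subtype.ext
        change (c : G) * x * (c : G)⁻¹ = x
        rw [h2 c c.2, mul_inv_cancel_right]
      rw [e, inv_mul_cancel]; exact one_mem _)
  obtain ⟨θ, hθ, hov, hst⟩ := exists_over_inv hcop (hiv i) μ hμ
  have hin : H7.inertia θ = ⊤ := by
    rw [eq_top_iff, ← hs]
    refine sup_le (H7.le_inertia (H6.irr_isClassFunction hθ)) fun g hg => ?_
    rw [H7.mem_inertia']
    exact fun n => hst (mem_top (⟨g, hg⟩ : P)) n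
  have hidx : A.index ∣ Nat.card P := by
    have e : A.relIndex P = A.index := by
      rw [← relIndex_sup_left, hs, relIndex_top_right]
    rw [← e]
    exact relIndex_dvd_card A P
  obtain ⟨χ, hχ, hres⟩ := H31.extends_of_coprime A (hcop.coprime_dvd_left hidx) hθ
    (H7.inertia_eq_top_iff.1 hin)
  have hdeg : charDegree χ = charDegree θ := H87.deg_congr (hres 1)
  have hone : charDegree χ = 1 := by
    by_contra hc
    exact hA ((hd χ hχ hc).trans (hdeg ▸ H87.deg_dvd_card hθ))
  have hker : χ x = χ 1 := (H6.mem_charKer (H6.irr_isCharacter hχ)).1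
    (H87.commutator_le_charKer_of_deg_one (H6.irr_isCharacter hχ) hone h3)
  have hθx : θ ((⟨⟨x, h1⟩, hi⟩ : derivedSeries A i) : A) = θ 1 :=
    (hres ⟨x, h1⟩).symm.trans (hker.trans (hres 1))
  have := hov.apply_eq_of_mem_ker (H6.irr_isCharacter hθ) (H6.isIrrCharacter_hom μ) hθx
  apply hμx
  apply Units.ext
  simpa using this

end H84.NDA
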