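import Mathlib
import Cfsg.Agent.Lib.NDA.G1a

/-! Project NDA, package G1b. -/

set_option autoImplicit false
open Cfsg Subgroup
open scoped commutatorElement

namespace H84.NDA

variable {G : Type*} [Group G] [Finite G] {p : ℕ}

theorem exists_amb [Group.IsSolvable G] (hp : p.Prime) {N : Subgroup G} [N.Normal]
    (hN : ¬ p ∣ N.index)
    (hd : ∀ ψ, IsIrrCharacter N ψ → charDegree ψ ≠ 1 → p ∣ charDegree ψ) :
    ∃ (P B D H : Subgroup G), B.Normal ∧ Amb p N P B D H := by
  haveI := Fact.mk hp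
  obtain ⟨A0, hn, hc, k, hk⟩ := H87.exists_complement_of_dvd_deg hp hd
  obtain ⟨P⟩ : Nonempty (Sylow p G) := inferInstance
  have PN : (P : Subgroup G) ≤ N := H64.Palfy.sylow_le_of_normal hN P
  obtain ⟨A, hA⟩ : ∃ A, A = A0.map N.subtype := ⟨_, rfl⟩
  have AN : A ≤ N := hA ▸ map_subtype_le _
  have cA : (Nat.card A).Coprime p := by rwa [hA, card_map_of_injective N.subtype_injective]
  have mA : ∀ x ∈ N, (orderOf x).Coprime p → x ∈ A := fun x hx c => by
    have e : (⟨x, hx⟩ : N) ^ p ^ k ∈ A0 := hk ▸ A0.pow_index_mem _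
    have : (⟨x, hx⟩ : N) ∈ A0 := zpowers_le.2 e (mem_zpowers_pow_iff.2
      (Nat.Coprime.pow_left k (by rw [← orderOf_coe]; exact c.symm)))
    exact hA ▸ ⟨_, this, rfl⟩
  haveI nA : A.Normal := ⟨fun x hx g => mA _ (Normal.conj_mem inferInstance x (AN hx) g) (by
    rw [show orderOf (g * x * g⁻¹) = orderOf x from (MulAut.conj g).orderOf_eq x]
    exact cA.coprime_dvd_left (A.orderOf_dvd_natCard hx))⟩
  obtain ⟨n, hPn⟩ := IsPGroup.iff_card.1 P.isPGroup'
  have cop : (Nat.card (P : Subgroup G)).Coprime (Nat.card A) := hPn ▸ cA.symm.pow_left n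
  have AP : ∀ x ∈ A, x ∈ (P : Subgroup G) → x = 1 := fun x a b =>
    mem_bot.1 ((inf_eq_bot_of_coprime cop).le ⟨b, a⟩)
  have s0 : A0 ⊔ (P : Subgroup G).subgroupOf N = ⊤ := by
    rw [← index_eq_one]
    have a1 := index_dvd_of_le (le_sup_left : A0 ≤ A0 ⊔ (P : Subgroup G).subgroupOf N)
    have a2 := (index_dvd_of_le (le_sup_right : _ ≤ A0 ⊔ (P : Subgroup G).subgroupOf N)).trans
      (relIndex_dvd_index_of_le PN)
    rw [hk] at a1
    exact Nat.eq_one_of_dvd_coprimes ((hp.coprime_iff_not_dvd.2 P.not_dvd_index).pow_left k) a1 a2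
  have s1 : A ⊔ P = N := by
    have := congrArg (map N.subtype) s0
    rwa [Subgroup.map_sup, ← hA, map_subgroupOf_eq_of_le PN, ← MonoidHom.range_eq_map, range_subtype] at this
  have dec : ∀ y ∈ N, ∃ a ∈ A, ∃ x ∈ (P : Subgroup G), a * x = y := fun y hy =>
    mem_sup_of_normal_left.1 (s1 ▸ hy)
  have fix : ∀ x ∈ A ⊓ centralizer ((P : Subgroup G) : Set G), x ∈ ⁅N, N⁆ → x = 1 := fun x hx c => by
    obtain ⟨y, hy, rfl⟩ : x ∈ A0.map N.subtype := hA ▸ hx.1
    rw [← map_subtype_commutator] at c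
    obtain ⟨z, hz, e⟩ := c
    obtain rfl : z = y := Subtype.ext e
    rw [fix_der hp (P.isPGroup'.comap_subtype (K := N)) (hp.coprime_iff_not_dvd.1 hc.symm) s0 hd hy
      (fun t ht => Subtype.ext (hx.2 t ht)) hz]
    rfl
  have nD : ∀ a ∈ A, a ∈ normalizer ((P : Subgroup G) : Set G) →
      a ∈ A ⊓ centralizer ((P : Subgroup G) : Set G) := fun a ha c => ⟨ha, fun x hx => by
    have := AP (a * x * a⁻¹ * x⁻¹) (by
      rw [mul_assoc, mul_assoc, ← mul_assoc x]
      exact mul_mem ha (nA.conj_mem _ (inv_mem ha) x))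
      (mul_mem ((mem_normalizer_iff.1 c x).1 hx) (inv_mem hx))
    rw [mul_inv_eq_one, mul_inv_eq_iff_eq_mul] at this
    exact this.symm⟩
  have DH : A ⊓ centralizer ((P : Subgroup G) : Set G) ≤ normalizer ((P : Subgroup G) : Set G) :=
    inf_le_right.trans (centralizer_le_normalizer _)
  have nd : ∀ X ≤ A, ¬ p ∣ Nat.card X := fun X hX c =>
    hp.coprime_iff_not_dvd.1 cA.symm (c.trans (card_dvd_of_le hX))
  refine ⟨P, A ⊓ ⁅N, N⁆, A ⊓ centralizer ((P : Subgroup G) : Set G), _, inferInstance, P.isPGroup',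
    P.not_dvd_index, PN, rfl, nd _ inf_le_left, ?_, ?_, ?_, ?_, fun a ha b hb => ?_, nd _ inf_le_left,
    inf_le_right, fun h hh d hd => ⟨nA.conj_mem _ hd.1 h, fun x hx => ?_⟩⟩
  · exact eq_bot_iff.2 fun x hx => fix x (nD x hx.1.1 hx.2) hx.1.2
  · rw [eq_top_iff, ← Sylow.normalizer_sup_eq_top' P PN]
    refine sup_le le_sup_right (s1.ge.trans (sup_le ?_ (le_normalizer.trans le_sup_right)))
    refine (H2.commutator_sup_centralizer (A := P) (K := A) (normalizer_eq_top A ▸ le_top) cop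
      (Or.inl inferInstance)).ge.trans (sup_le_sup (le_inf ?_ (commutator_mono AN PN)) DH)
    exact commutator_le_left _ _
  · refine le_antisymm (commutator_le.2 fun y hy y' hy' => ?_) (sup_le inf_le_right (commutator_mono PN PN))
    obtain ⟨a, ha, x, hx, rfl⟩ := dec y hy
    obtain ⟨a', ha', x', hx', rfl⟩ := dec y' hy'
    rw [← inv_mul_cancel_right ⁅a * x, a' * x'⁆ ⁅x, x'⁆]
    refine mul_mem_sup (mem_inf.2 ⟨?_, mul_mem (commutator_mem_commutator hy hy')
      (inv_mem (commutator_mem_commutator (PN hx) (PN hx')))⟩) (commutator_mem_commutator hx hx')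
    rw [← QuotientGroup.eq_one_iff]
    have e := (QuotientGroup.eq_one_iff a).2 ha
    have e' := (QuotientGroup.eq_one_iff a').2 ha'
    simp only [commutatorElement_def, QuotientGroup.mk_mul, QuotientGroup.mk_inv, e, e', one_mul,
      mul_inv_cancel]
  · refine le_antisymm (fun y hy => ?_) (sup_le (le_inf le_normalizer PN) (le_inf DH (inf_le_left.trans AN)))
    obtain ⟨a, ha, x, hx, rfl⟩ := dec y hy.2
    exact mul_mem (mem_sup_right (nD a ha ((Subgroup.mul_mem_cancel_right _ (le_normalizer hx)).1 hy.1)))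
      (mem_sup_left hx)
  · exact commutatorElement_eq_one_iff_mul_comm.1 (fix _
      (mul_mem (mul_mem (mul_mem ha hb) (inv_mem ha)) (inv_mem hb))
      (commutator_mem_commutator (AN ha.1) (AN hb.1)))
  · have := hd.2 _ ((mem_normalizer_iff''.1 hh x).1 hx)
    calc _ = h * (h⁻¹ * x * h * d) * h⁻¹ := by group
      _ = _ := by rw [this]; group

end H84.NDA
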