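import Mathlib
import Cfsg.Agent.Lib.NDA.G0

/-! Project NDA, package G2a. -/

set_option autoImplicit false
open Cfsg Subgroup
open scoped commutatorElement

namespace H84.NDA

variable {G : Type*} [Group G] [Finite G] {p : ℕ}

theorem kz_normal {N : Subgroup G} [N.Normal] : (kz N).Normal := by
  refine ⟨fun x hx h => ⟨Normal.conj_mem inferInstance _ hx.1 h, fun g => ?_⟩⟩
  have e : ⁅g, h * x * h⁻¹⁆ = h * ⁅h⁻¹ * g * h, x⁆ * h⁻¹ := by
    simp only [commutatorElement_def]; group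
  rw [e]
  exact Normal.conj_mem inferInstance _ (hx.2 _) h

theorem kz_le {K N : Subgroup G} [K.Normal] [N.Normal] (hB : H87.CaseB K p N) : kz N ≤ K := by
  intro x hx
  obtain ⟨g, hg⟩ : ∃ g, g ∉ N := by
    by_contra hc
    push Not at hc
    exact hB.ne_top (eq_top_iff.2 fun g _ => hc g)
  exact hB.fpf g hg x hx.1 (cb_der_le hB (hx.2 g))

theorem g2a_inertia {K N : Subgroup G} [K.Normal] [N.Normal] (hB : H87.CaseB K p N)
    (hnd : H64.Palfy.ND G) (μ : N →* ℂˣ) {g : G} (hg : g ∉ N)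
    (h : g ∈ H7.inertia fun n => (μ n : ℂ)) : (H7.inertia fun n => (μ n : ℂ)) = ⊤ := by
  have hμ := H6.isIrrCharacter_hom μ
  obtain ⟨χ, hχ, ho⟩ := H87.exists_over hμ
  have hd := ho.deg_eq_of_isCyclic (H64.Palfy.caseB_cyc hB) hμ hχ
  rw [H87.deg_hom, mul_one] at hd
  have hle := H7.le_inertia (H6.irr_isClassFunction hμ)
  rcases cb_eq' hB hnd hχ (hd ▸ index_dvd_of_le hle) with h1 | h1
  · exact index_eq_one.1 (hd ▸ h1)
  · have h2 := relIndex_mul_index hle
    rw [← hd, h1] at h2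
    have h3 := (Nat.mul_eq_right (index_ne_zero_of_finite (H := N))).1 h2
    exact absurd (relIndex_eq_one.1 h3 h) hg

/-- `v ↦ [g, v]` on the abelianization of `N`. -/
noncomputable def g2aMap (N : Subgroup G) [N.Normal] (g : G) : Abelianization N →* Abelianization N :=
  Abelianization.map (MulAut.conjNormal g : MulAut N).toMonoidHom / MonoidHom.id _

theorem g2aMap_of {N : Subgroup G} [hN : N.Normal] (g : G) (x : N) :
    g2aMap N g (Abelianization.of x) =
      Abelianization.of (⟨g * x * g⁻¹, hN.conj_mem x x.2 g⟩ * x⁻¹ : N) := by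
  rw [g2aMap, MonoidHom.div_apply, MonoidHom.id_apply, Abelianization.map_of, map_mul, map_inv,
    div_eq_mul_inv]
  rfl

theorem g2aMap_ker {N : Subgroup G} [hN : N.Normal] (g : G) (x : N) :
    Abelianization.of x ∈ (g2aMap N g).ker ↔ ⁅g, (x : G)⁆ ∈ ⁅N, N⁆ := by
  rw [MonoidHom.mem_ker, g2aMap_of, ← MonoidHom.mem_ker, Abelianization.ker_of,
    H64.Palfy.mem_commutator_iff]
  rfl

theorem g2a_gen {N : Subgroup G} [N.Normal] {c : G} (hc : ∀ x : G ⧸ N, x ∈ zpowers (c : G ⧸ N))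
    {n : G} (hn : n ∈ N) (h : ⁅c, n⁆ ∈ ⁅N, N⁆) (g : G) : ⁅g, n⁆ ∈ ⁅N, N⁆ := by
  let S : Subgroup G := (centralizer {(n : G ⧸ ⁅N, N⁆)}).comap (QuotientGroup.mk' _)
  have hS : ∀ x, x ∈ S ↔ ⁅x, n⁆ ∈ ⁅N, N⁆ := fun x => by
    rw [mem_comap, mem_centralizer_singleton_iff, ← QuotientGroup.eq_one_iff,
      ← commutatorElement_eq_one_iff_mul_comm]
    rfl
  obtain ⟨k, hk⟩ := mem_zpowers_iff.1 (hc g)
  rw [← QuotientGroup.mk_zpow, QuotientGroup.eq] at hk
  have := mul_mem (zpow_mem ((hS c).2 h) k) ((hS _).2 (commutator_mem_commutator hk hn))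
  rwa [mul_inv_cancel_left, hS] at this

theorem kz_of_comm {K N : Subgroup G} [K.Normal] [N.Normal] (hB : H87.CaseB K p N)
    (hnd : H64.Palfy.ND G) {g n : G} (hg : g ∉ N) (hn : n ∈ N) (h : ⁅g, n⁆ ∈ ⁅N, N⁆) :
    n ∈ kz N := by
  obtain ⟨c', hc⟩ := (H64.Palfy.caseB_cyc hB).exists_generator
  obtain ⟨c, rfl⟩ := QuotientGroup.mk_surjective c'
  have hs : ∀ v : Abelianization N, ∃ x, Abelianization.of x = v := QuotientGroup.mk_surjective
  have hr : (g2aMap N c).range ≤ (g2aMap N g).range := by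
    rintro _ ⟨v, rfl⟩
    obtain ⟨x, rfl⟩ := hs v
    rw [g2aMap_of]
    refine H64.Palfy.mem_of_forall_hom (L := (g2aMap N g).range.comap Abelianization.of)
      (fun y hy => ?_) fun μ hμ => ?_
    · rw [← Abelianization.ker_of, MonoidHom.mem_ker] at hy
      rw [mem_comap, hy]
      exact one_mem _
    · have h1 := g2a_inertia hB hnd μ hg (H7.mem_inertia'.2 fun y => by
        have := hμ _ ⟨Abelianization.of y, g2aMap_of g y⟩
        rw [map_mul, map_inv, mul_inv_eq_one] at this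
        rw [this])
      have h2 := H7.mem_inertia'.1 (h1.ge (mem_top c)) x
      rw [map_mul, map_inv, mul_inv_eq_one]
      exact Units.val_injective h2
  have hk : (g2aMap N c).ker ≤ (g2aMap N g).ker := fun v hv => by
    obtain ⟨x, rfl⟩ := hs v
    rw [g2aMap_ker] at hv ⊢
    exact g2a_gen hc x.2 hv g
  have h1 := card_le_of_le hr
  rw [← index_ker, ← index_ker] at h1
  have h2 := relIndex_mul_index hk
  have h3 := le_antisymm h1 (Nat.le_of_dvd (Nat.pos_of_ne_zero index_ne_zero_of_finite) (index_dvd_of_le hk))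
  rw [h3] at h2
  have h4 := relIndex_eq_one.1 ((Nat.mul_eq_right index_ne_zero_of_finite).1 h2)
  exact ⟨hn, g2a_gen hc hn ((g2aMap_ker c ⟨n, hn⟩).1 (h4 ((g2aMap_ker g ⟨n, hn⟩).2 h)))⟩

end H84.NDA
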