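import Mathlib
import Cfsg.Agent.Lib.NDA.G2a

/-! Project NDA, package G2c. -/

set_option autoImplicit false
open Cfsg Subgroup
open scoped commutatorElement

namespace H84.NDA

variable {G : Type*} [Group G] [Finite G] {p : ℕ}

theorem g2c_left {Q : Type*} [Group Q] {a b : Q} (h : Commute a ⁅a, b⁆) (j : ℕ) :
    ⁅a ^ j, b⁆ = ⁅a, b⁆ ^ j := by
  induction j with
  | zero => simp
  | succ j ih =>
    have e : ⁅a ^ (j + 1), b⁆ = a * ⁅a ^ j, b⁆ * a⁻¹ * ⁅a, b⁆ := by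
      rw [pow_succ']
      generalize a ^ j = c
      simp only [commutatorElement_def]; group
    rw [e, ih, (h.pow_right j).eq, mul_inv_cancel_right, pow_succ]

theorem g2c_right {Q : Type*} [Group Q] {a b : Q} (h : Commute b ⁅a, b⁆) (j : ℕ) :
    ⁅a, b ^ j⁆ = ⁅a, b⁆ ^ j := by
  rw [← commutatorElement_inv, g2c_left (by rw [← commutatorElement_inv]; exact h.inv_right),
    ← inv_pow, commutatorElement_inv]

theorem kz_fr {K N : Subgroup G} [K.Normal] [N.Normal] (hB : H87.CaseB K p N)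
    (hnd : H64.Palfy.ND G) (hq : NoQ G) {g n : G} (hg : g ∉ N) (hn : n ∈ N)
    (h : ⁅g, n⁆ ∈ kz N) : n ∈ kz N := by
  haveI : (kz N).Normal := kz_normal
  let π := QuotientGroup.mk' ⁅N, N⁆
  have p1 : ∀ x, π x = 1 ↔ x ∈ ⁅N, N⁆ := fun x => QuotientGroup.eq_one_iff x
  have p2 : ∀ a b, ⁅a, b⁆ ∈ ⁅N, N⁆ → Commute (π a) (π b) := fun a b e =>
    commutatorElement_eq_one_iff_commute.1 (by rw [← map_commutatorElement, p1]; exact e)
  have cN : ∀ a b : G, ⁅a, b⁆ ∈ N := fun a b => hB.le (commutator_mem_commutator (mem_top a) (mem_top b))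
  have s1 : ∀ a : G, ⁅a, n⁆ ∈ kz N := fun a => kz_of_comm hB hnd hg (cN a n) (by
    have e : ⁅g, ⁅a, n⁆⁆ = ⁅g, a⁆ * (a * ⁅g, n⁆) * (n * a⁻¹ * ⁅g, a⁆⁻¹ * n⁻¹) * ⁅g, n⁆⁻¹ * ⁅a, n⁆⁻¹ := by
      simp only [commutatorElement_def]; group
    have c1 := (p2 _ _ (commutator_mem_commutator (cN g a) (Normal.conj_mem inferInstance n hn a))).eq
    have c2 := (p2 _ _ (h.2 a)).eq
    have c3 := (p2 _ _ (h.2 (n * a⁻¹ * ⁅g, a⁆⁻¹ * n⁻¹))).eq
    rw [← p1, e]
    generalize ⁅g, a⁆ = c at c1 c3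
    generalize ⁅g, n⁆ = m at c2 c3
    simp only [map_mul, map_inv, commutatorElement_def] at c1 c2 c3 ⊢
    generalize π c = c, π m = m, π a = a, π n = n at c1 c2 c3
    rw [c2, mul_assoc c, mul_assoc m, mul_assoc c]
    calc c * (m * (a * (n * a⁻¹ * c⁻¹ * n⁻¹)) * m⁻¹) * (a * n * a⁻¹ * n⁻¹)⁻¹
        = c * (m * a) * ((n * a⁻¹ * c⁻¹ * n⁻¹) * m⁻¹) * (a * n * a⁻¹ * n⁻¹)⁻¹ := by group
      _ = c * (a * m) * (m⁻¹ * (n * a⁻¹ * c⁻¹ * n⁻¹)) * (a * n * a⁻¹ * n⁻¹)⁻¹ := by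
        rw [c2, (Commute.inv_right c3).eq]
      _ = c * (a * n * a⁻¹) * c⁻¹ * n⁻¹ * (a * n * a⁻¹ * n⁻¹)⁻¹ := by group
      _ = 1 := by rw [c1]; group)
  have s2 : ∀ (k : ℕ) (a : G), ⁅a, n ^ k⁆ ∈ kz N := fun k a => by
    induction k with
    | zero => rw [pow_zero, commutatorElement_one_right]; exact one_mem _
    | succ k ih =>
      have e : ⁅a, n ^ (k + 1)⁆ = ⁅a, n⁆ * (n * ⁅a, n ^ k⁆ * n⁻¹) := by
        rw [pow_succ']
        generalize n ^ k = c
        simp only [commutatorElement_def]; group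
      rw [e]
      exact mul_mem (s1 a) (Normal.conj_mem inferInstance _ ih n)
  by_contra hc
  obtain ⟨r, hr, hd⟩ := Nat.exists_prime_and_dvd (n := orderOf (QuotientGroup.mk' (kz N) n))
    fun e => hc ((QuotientGroup.eq_one_iff n).1 (orderOf_eq_one_iff.1 e))
  have ho := orderOf_pow_orderOf_div (orderOf_pos _).ne' hd
  rw [← map_pow] at ho
  have s3 := s2 (orderOf (QuotientGroup.mk' (kz N) n) / r)
  have hn' := pow_mem hn (orderOf (QuotientGroup.mk' (kz N) n) / r)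
  generalize n ^ (orderOf (QuotientGroup.mk' (kz N) n) / r) = x at ho s3 hn'
  have x1 : x ∉ kz N := fun e => hr.ne_one (by
    rw [← ho, orderOf_eq_one_iff]; exact (QuotientGroup.eq_one_iff x).2 e)
  have x2 : x ^ r ∈ kz N := (QuotientGroup.eq_one_iff _).1 (by
    rw [← ho]; exact (map_pow (QuotientGroup.mk' (kz N)) x _).trans (pow_orderOf_eq_one _))
  have s4 : ∀ a : G, π ⁅a, x⁆ ^ r = 1 := fun a => by
    have := p2 _ _ ((s3 a).2 x)
    rw [map_commutatorElement] at this ⊢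
    rw [← g2c_right this, ← map_pow, ← map_commutatorElement, p1]
    exact x2.2 a
  have s5 : ∀ a : G, a ^ r ∈ N := fun a => by
    by_contra ha
    refine x1 (kz_of_comm hB hnd ha hn' ?_)
    have := p2 _ _ ((s3 a).2 a)
    rw [map_commutatorElement] at this
    rw [← p1, map_commutatorElement, map_pow, g2c_left this, ← map_commutatorElement, s4]
  let L : Subgroup G :=
    { carrier := {y | y ∈ N ∧ (orderOf (π y)).Coprime r}
      one_mem' := ⟨one_mem _, by simp⟩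
      mul_mem' := fun {a b} ha hb => ⟨mul_mem ha.1 hb.1, by
        rw [map_mul]
        exact (Nat.Coprime.mul_left ha.2 hb.2).coprime_dvd_left
          (p2 _ _ (commutator_mem_commutator ha.1 hb.1)).orderOf_mul_dvd_mul_orderOf⟩
      inv_mem' := fun {a} ha => ⟨inv_mem ha.1, by rw [map_inv, orderOf_inv]; exact ha.2⟩ }
  haveI : L.Normal := ⟨fun a ha b => ⟨Normal.conj_mem inferInstance a ha.1 b, by
    rw [map_mul, map_mul, map_inv, ← MulAut.conj_apply, MulEquiv.orderOf_eq]; exact ha.2⟩⟩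
  have pg : IsPGroup r (G ⧸ L) := fun q => by
    obtain ⟨a, rfl⟩ := QuotientGroup.mk_surjective q
    obtain ⟨k, j, hj, e⟩ := Nat.exists_eq_pow_mul_and_not_dvd (orderOf_pos (π (a ^ r))).ne' r hr.ne_one
    refine ⟨k + 1, ?_⟩
    rw [← QuotientGroup.mk_pow, QuotientGroup.eq_one_iff, pow_succ', pow_mul]
    refine ⟨pow_mem (s5 a) _, ?_⟩
    rw [map_pow]
    refine ((Nat.Prime.coprime_iff_not_dvd hr).2 hj).symm.coprime_dvd_left (orderOf_dvd_of_pow_eq_one ?_)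
    rw [← pow_mul, ← e, pow_orderOf_eq_one]
  have hm := (hq r L hr pg (commutator_mem_commutator (mem_top g) (mem_top x))).2
  exact x1 (kz_of_comm hB hnd hg hn' ((p1 _).1 (orderOf_eq_one_iff.1
    (hm.eq_one_of_dvd (orderOf_dvd_of_pow_eq_one (s4 g))))))

end H84.NDA
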