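import Mathlib
import Cfsg.Agent.Lib.NDA.G2c
import Cfsg.Agent.Lib.NDA.TS

/-! Project NDA, package G2b. -/

set_option autoImplicit false
open Cfsg Subgroup
open scoped commutatorElement

namespace H84.NDA

variable {G : Type*} [Group G] [Finite G] {p : ℕ}

omit [Finite G] in
theorem g2b_der_le {N : Subgroup G} [N.Normal] : ⁅N, N⁆ ≤ kz N := fun x hx =>
  ⟨commutator_le_left N N hx, fun g => by
    rw [commutatorElement_def]
    exact mul_mem (Normal.conj_mem inferInstance _ hx g) (inv_mem hx)⟩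

theorem kz_vanish {K N : Subgroup G} [K.Normal] [N.Normal] (hB : H87.CaseB K p N)
    (hnd : H64.Palfy.ND G) (hq : NoQ G) {ψ : N → ℂ} (hψ : IsIrrCharacter N ψ)
    (h1 : charDegree ψ ≠ 1) (x : N) (hx : (x : G) ∉ kz N) : ψ x = 0 := by
  refine ts (J := G) (φ := (MulAut.conjNormal : G →* MulAut N)) (S := ⊤) (A := ⊤)
    (B := (kz N).subgroupOf N) le_top
    (commutator_le.2 fun a _ b _ => g2b_der_le (commutator_mem_commutator a.2 b.2))
    (fun _ _ _ _ => mem_top _) (fun c _ y hy => kz_normal.conj_mem _ hy c)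
    (fun c _ d _ => ⟨⟨⁅c, d⁆, hB.le (commutator_mem_commutator (mem_top c) (mem_top d))⟩, mem_top _,
      fun z _ => Subtype.ext (by
        simp only [MulAut.conjNormal_apply, coe_mul, coe_inv, commutatorElement_def]; group)⟩)
    (fun a => ψ a.1) (fun a y => H6.irr_isClassFunction hψ y.1 a.1) (fun ρ _ => ?_) ⟨x, mem_top x⟩ hx
  obtain ⟨c, hc, hcN⟩ := SetLike.not_le_iff_exists.1 (cb_inertia hB hnd
    (H6.isIrrCharacter_mul_hom hψ (ρ.comp topEquiv.symm.toMonoidHom)) (by rwa [H87.deg_mul_hom]))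
  refine ⟨c, mem_top c, fun y _ hy => kz_fr hB hnd hq hcN y.2 ?_, fun y y' e => ?_⟩
  · have e : ⁅c, (y : G)⁆ = y * ((y : G)⁻¹ * (c * y * c⁻¹)) * (y : G)⁻¹ := by
      rw [commutatorElement_def]; group
    exact e ▸ kz_normal.conj_mem _ hy _
  · obtain rfl : y' = ⟨MulAut.conjNormal c y.1, mem_top _⟩ := Subtype.ext e
    exact H7.mem_inertia'.1 hc y.1

theorem kz_conj {K N : Subgroup G} [K.Normal] [N.Normal] (hB : H87.CaseB K p N)
    (hnd : H64.Palfy.ND G) (hq : NoQ G) {x b : G} (h1 : x ∈ N) (hx : x ∉ kz N)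
    (hb : b ∈ ⁅N, N⁆) : ∃ n ∈ N, ⁅n, x⁆ = b := by
  rw [← map_subtype_commutator] at hb
  obtain ⟨b, hb, rfl⟩ := hb
  obtain ⟨n, hn⟩ := isConj_iff.1 (H64.Palfy.isConj_of_vanish (x := (⟨x, h1⟩ : N))
    (fun χ hχ hd => kz_vanish hB hnd hq hχ hd _ hx) (Normal.conj_mem' inferInstance b hb ⟨x, h1⟩))
  refine ⟨n, n.2, ?_⟩
  have e : (n : G) * x * (n : G)⁻¹ = x * (x⁻¹ * b * x) := congrArg Subtype.val hn
  rw [commutatorElement_def, e, coe_subtype]
  group

theorem Amb.dec {N P B D H : Subgroup G} [N.Normal] [B.Normal] (h : Amb p N P B D H) {n : G}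
    (hn : n ∈ N) : ∃ b ∈ B, ∃ x ∈ P, ∃ d ∈ D, n = b * x * d := by
  have BN : B ≤ N := (le_sup_left.trans h.der.ge).trans (commutator_le_left N N)
  obtain ⟨b, hb, y, hy, rfl⟩ := mem_sup_of_normal_left.1 (h.sup.ge (mem_top n))
  have h1 : y ∈ ((P ⊔ D : Subgroup G) : Set G) :=
    h.infN.le ⟨hy, by simpa using mul_mem (inv_mem (BN hb)) hn⟩
  rw [coe_mul_of_right_le_normalizer_left P D (h.cenD.trans (centralizer_le_normalizer _))] at h1
  obtain ⟨x, hx, d, hd, rfl⟩ := h1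
  exact ⟨b, hb, x, hx, d, hd, (mul_assoc _ _ _).symm⟩

theorem Amb.le_kz {K N P B D H : Subgroup G} [K.Normal] [N.Normal] [B.Normal]
    (h : Amb p N P B D H) (hB : H87.CaseB K p N) (hnd : H64.Palfy.ND G) (hq : NoQ G)
    (hP : ⁅P, P⁆ ≠ ⊥) : D ≤ kz N := by
  intro d hd
  by_contra hk
  obtain ⟨⟨b, hb⟩, b1⟩ := ne_bot_iff_exists_ne_one.1 hP
  obtain ⟨n, hn, e⟩ := kz_conj hB hnd hq (h.infN.ge (mem_sup_right hd)).2 hk
    (commutator_mono h.le h.le hb)
  obtain ⟨b', hb', x, hx, d', hd', rfl⟩ := h.dec hn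
  have c : x * d' * d = d * (x * d') := by
    rw [mul_assoc, h.commD d' hd' d hd, ← mul_assoc, h.cenD hd x hx, mul_assoc]
  have e' : b = b' * (d * b'⁻¹ * d⁻¹) := by
    rw [← e, commutatorElement_def, mul_assoc b', mul_assoc b', c]; group
  have bB : b ∈ B := e' ▸ mul_mem hb' (Normal.conj_mem inferInstance _ (inv_mem hb') d)
  have bH : b ∈ H := h.nor ▸ le_normalizer (commutator_le_self P hb)
  exact b1 (Subtype.ext (mem_bot.1 (h.inf.le ⟨bB, bH⟩)))

end H84.NDA
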