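import Mathlib
import Cfsg.Agent.Lib.NDA.Defs
import Cfsg.Agent.Lib.NDA.DL

/-! Project NDA, package G3a. -/

set_option autoImplicit false
open Cfsg Subgroup
open scoped commutatorElement Pointwise

namespace H84.NDA

variable {G : Type*} [Group G] [Finite G] {p : ℕ}

omit [Finite G] in
theorem g3a_dg {P J : Subgroup G} [P.Normal] (h2 : P ⊔ J = ⊤) {θ : P → ℂ} (hθ : IsIrrCharacter P θ) :
    dg (act P J) θ = (H7.inertia θ).index * charDegree θ := by
  have e : stab (act P J) θ = (H7.inertia θ).subgroupOf J := by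
    ext c
    rw [mem_stab, mem_subgroupOf, H7.mem_inertia']
    exact forall_congr' fun x => iff_of_eq (congrArg (· = θ x)
      (congrArg θ (Subtype.ext (MulAut.conjNormal_apply (c : G) x))))
  rw [dg, e, dl_index h2 (H7.le_inertia (H6.irr_isClassFunction hθ))]

theorem g3a_ker {P J : Subgroup G} [P.Normal] (hc : (Nat.card P).Coprime (Nat.card J)) :
    (act P J).ker = (P ⊔ centralizer (P : Set G)).subgroupOf J := by
  ext j
  rw [MonoidHom.mem_ker, mem_subgroupOf]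
  have c1 : ∀ c : G, (MulAut.conjNormal c : MulAut P) = 1 ↔ c ∈ centralizer (P : Set G) := fun c =>
    ⟨fun h x hx => (mul_inv_eq_iff_eq_mul.mp ((MulAut.conjNormal_apply c ⟨x, hx⟩).symm.trans
      (congrArg Subtype.val (DFunLike.congr_fun h ⟨x, hx⟩)))).symm,
     fun h => MulEquiv.ext fun x => Subtype.ext ((MulAut.conjNormal_apply c x).trans
      (mul_inv_eq_iff_eq_mul.mpr (h x x.2).symm))⟩
  refine ⟨fun h => mem_sup_right ((c1 j).mp h), fun h => ?_⟩
  obtain ⟨x, hx, c, hcc, e⟩ := mem_sup_of_normal_left.mp h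
  have e1 : act P J j = MulAut.conjNormal x := by
    show MulAut.conjNormal (j : G) = _
    rw [← e, map_mul, (c1 c).mpr hcc, mul_one]
  have a1 : act P J j ^ Nat.card J = 1 := by rw [← map_pow, pow_card_eq_one', map_one]
  have a2 : act P J j ^ Nat.card P = 1 := by
    have : x ^ Nat.card P = 1 := congrArg Subtype.val (pow_card_eq_one' (x := (⟨x, hx⟩ : P)))
    rw [e1, ← map_pow, this, map_one]
  have := pow_gcd_eq_one.mpr ⟨a2, a1⟩
  rwa [hc.gcd_eq_one, pow_one] at this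

theorem HP.bridge {P : Subgroup G} [P.Normal] (h : HP p P) {S : Subgroup G}
    (hS : ¬ p ∣ Nat.card S) : ∃ J : Subgroup G, S ≤ J ∧ P ⊓ J = ⊥ ∧ P ⊔ J = ⊤ ∧
      PJ p (act P J) ∧ (act P J).ker.index = (P ⊔ centralizer (P : Set G)).index ∧
      (∀ χ, IsIrrCharacter G χ → ∃ θ, IsIrrCharacter P θ ∧ charDegree χ = dg (act P J) θ) ∧
      ∀ θ, IsIrrCharacter P θ → ∃ χ, IsIrrCharacter G χ ∧ charDegree χ = dg (act P J) θ := by
  have : Fact p.Prime := ⟨h.prime⟩
  obtain ⟨n, hn⟩ := IsPGroup.iff_card.mp h.pg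
  have cop : ∀ {m}, ¬ p ∣ m → (Nat.card P).Coprime m := fun hm =>
    hn ▸ ((Nat.Prime.coprime_iff_not_dvd h.prime).mpr hm).pow_left n
  obtain ⟨J0, hJ0⟩ := exists_right_complement'_of_coprime (cop h.idx)
  obtain ⟨g, -, hg⟩ := H3.exists_le_conj_complement P (cop h.idx) J0 S hJ0 (cop hS)
    (Or.inl (haveI := h.pg.isNilpotent; inferInstance))
  have cJ : Nat.card (MulAut.conj g • J0 : Subgroup G) = P.index :=
    (Nat.card_congr (equivSMul _ _).toEquiv).symm.trans hJ0.symm.index_eq_card.symm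
  generalize MulAut.conj g • J0 = J at hg cJ
  have hJ : IsComplement' P J := isComplement'_of_coprime (cJ ▸ P.card_mul_index) (cJ ▸ cop h.idx)
  have h1 := hJ.disjoint.eq_bot
  have h2 := hJ.sup_eq_top
  have ext : ∀ {θ : P → ℂ} (hθ : IsIrrCharacter P θ), ∃ (hT : P ≤ H7.inertia θ) (ψ : H7.inertia θ → ℂ),
      IsIrrCharacter (H7.inertia θ) ψ ∧ ∀ x : P, ψ ⟨x, hT x.2⟩ = θ x := fun hθ =>
    have hT := H7.le_inertia (H6.irr_isClassFunction hθ)
    ⟨hT, H31.extends_le_of_coprime hT hθ le_rfl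
      (cop fun d => h.idx (d.trans (relIndex_dvd_index_of_le hT))).symm⟩
  have down : ∀ χ, IsIrrCharacter G χ → ∃ θ, IsIrrCharacter P θ ∧ charDegree χ = dg (act P J) θ :=
    fun χ hχ => by
      obtain ⟨θ, hθ, ho⟩ := H87.exists_under hχ P
      obtain ⟨hT, ψ, hψ, e⟩ := ext hθ
      obtain ⟨β, hβ, hk, d⟩ := H87.Over.exists_of_ext hT hθ le_rfl hψ e hχ ho
      have : charDegree β = 1 := H87.deg_eq_one_of_commutator_le hβ (le_trans
        (commutator_le.mpr fun a _ b _ => h.comm (commutator_mem_commutator (mem_top (a : G)) (mem_top (b : G)))) hk)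
      exact ⟨θ, hθ, by rw [d, this, mul_one, g3a_dg h2 hθ]⟩
  have up : ∀ θ, IsIrrCharacter P θ → ∃ χ, IsIrrCharacter G χ ∧ charDegree χ = dg (act P J) θ :=
    fun θ hθ => by
      obtain ⟨hT, ψ, hψ, e⟩ := ext hθ
      obtain ⟨χ, hχ, -, d⟩ := H87.exists_over_of_ext hT hθ le_rfl hψ e H6.isIrrCharacter_one fun _ _ _ => rfl
      exact ⟨χ, hχ, by rw [d, H87.deg_one, mul_one, g3a_dg h2 hθ]⟩
  have hk : (act P J).ker.index = (P ⊔ centralizer (P : Set G)).index := by
    rw [g3a_ker (cJ ▸ cop h.idx), dl_index h2 le_sup_left]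
  refine ⟨J, hg, h1, h2, ⟨h.prime, h.pg, cJ ▸ h.idx, fun a b => ?_, fun ψ η hψ hη d1 d => ?_, ?_, fun e => ?_,
    fun e => h.nab ?_⟩, hk, down, up⟩
  · have : ⁅(a : G), (b : G)⁆ = 1 := mem_bot.mp (h1 ▸ (⟨h.comm
      (commutator_mem_commutator (mem_top _) (mem_top _)), (⁅a, b⁆ : J).2⟩ : _ ∈ P ⊓ J))
    exact Subtype.ext (commutatorElement_eq_one_iff_mul_comm.mp this)
  · obtain ⟨χ, hχ, e⟩ := up ψ hψ
    obtain ⟨χ', hχ', e'⟩ := up η hη
    rw [← e] at d1
    rw [← e, ← e'] at d ⊢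
    exact h.nd χ χ' hχ hχ' d1 d
  · obtain ⟨τ, hτ, d⟩ := h.deg
    obtain ⟨θ, hθ, e⟩ := down τ hτ
    obtain ⟨k, hθk⟩ := H87.deg_pow_of_isPGroup h.pg hθ
    have d1 : charDegree θ = 1 := by
      rcases k with _ | k
      · rw [hθk, pow_zero]
      refine absurd (dvd_trans ?_ (index_dvd_of_le (le_sup_left : P ≤ P ⊔ centralizer (P : Set G)))) h.idx
      rw [← d, e, dg, hθk]
      exact Dvd.dvd.mul_left (dvd_pow_self p k.succ_ne_zero) _
    obtain ⟨lam, rfl⟩ := H6.exists_hom_of_char_one_eq_one (H6.irr_isCharacter hθ)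
      ((H87.deg_eq_one_iff (H6.irr_isCharacter hθ)).mp d1)
    refine ⟨lam, le_antisymm (relIndex_eq_one.mp ?_) (ker_le_stab _ _)⟩
    have := relIndex_mul_index (ker_le_stab (act P J) fun x => (lam x : ℂ))
    rw [dg, d1, mul_one, d, ← hk] at e
    rw [← e] at this
    exact Nat.eq_of_mul_eq_mul_right (Nat.pos_of_ne_zero index_ne_zero_of_finite) (this.trans (one_mul _).symm)
  · rw [e, index_top] at hk
    exact h.ne (index_eq_one.mp hk.symm)
  · rw [← map_subtype_commutator, e, Subgroup.map_bot]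

end H84.NDA
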