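import Mathlib
import Cfsg.Agent.Lib.NDA.G2b
import Cfsg.Agent.Lib.NDA.DL

/-! Project NDA, package G3b. -/

set_option autoImplicit false
open Cfsg Subgroup
open scoped commutatorElement

namespace H84.NDA

variable {G : Type*} [Group G] [Finite G] {p : ℕ}

theorem Amb.normal {N P B D H : Subgroup G} (h : Amb p N P B D H) :
    (P.subgroupOf H).Normal := h.nor ▸ normal_in_normalizer

theorem Amb.hp {K N P B D H : Subgroup G} [K.Normal] [N.Normal] [B.Normal]
    (h : Amb p N P B D H) (hB : H87.CaseB K p N) (hnd : H64.Palfy.ND G) (hD : D ≤ kz N)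
    (hP : ⁅P, P⁆ ≠ ⊥) : HP p (P.subgroupOf H) := by
  haveI := Fact.mk hB.prime
  haveI := h.normal
  have PH : P ≤ H := h.nor ▸ le_normalizer
  have DH : D ≤ H := (le_sup_right.trans h.infN.ge).trans inf_le_left
  have BN' : B ≤ ⁅N, N⁆ := le_sup_left.trans h.der.ge
  have BN : B ≤ N := BN'.trans (commutator_le_left N N)
  have BK : B ≤ K := BN'.trans (cb_der_le hB)
  have PD : Disjoint P D := by
    obtain ⟨k, hk⟩ := IsPGroup.iff_card.1 h.pg
    exact disjoint_of_coprime_natCard
      (hk ▸ ((Nat.Prime.coprime_iff_not_dvd hB.prime).2 h.copD).pow_left k)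
  have cen : ∀ g ∈ H, ∀ d ∈ D, g * d = d * g := fun g hg d hd => by
    have h1 : ⁅g, d⁆ ∈ D := mul_mem (h.norD g hg d hd) (inv_mem hd)
    obtain ⟨b, hb, x, hx, e⟩ := mem_sup_of_normal_left.1 (h.der.le ((hD hd).2 g))
    have hx' := commutator_le_self P hx
    have h2 : b = 1 := mem_bot.1 (h.inf.le ⟨hb, (mul_mem_cancel_right (PH hx')).1 (e ▸ DH h1)⟩)
    rw [h2, one_mul] at e
    exact commutatorElement_eq_one_iff_mul_comm.1 (disjoint_def.1 PD (e ▸ hx') h1)
  have dec : ∀ x : H, (x : G) ∈ N → ∃ y ∈ P.subgroupOf H, ∃ d ∈ center H, x = y * d :=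
    fun x hx => by
      have h1 : (x : G) ∈ ((P ⊔ D : Subgroup G) : Set G) := h.infN.le ⟨x.2, hx⟩
      rw [coe_mul_of_right_le_normalizer_left P D
        (h.cenD.trans (centralizer_le_normalizer _))] at h1
      obtain ⟨y, hy, d, hd, e⟩ := h1
      exact ⟨⟨y, PH hy⟩, hy, ⟨d, DH hd⟩,
        mem_center_iff.2 fun g => Subtype.ext (cen g g.2 d hd), Subtype.ext e.symm⟩
  have key : P.subgroupOf H ⊔ centralizer (P.subgroupOf H : Set H) = N.subgroupOf H := by
    refine le_antisymm (sup_le (fun x hx => h.le hx) fun g hg => ?_) fun x hx => ?_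
    · by_contra hn
      refine hB.lt.not_ge fun n hn' => ?_
      obtain ⟨b, hb, x, hx, d, hd, rfl⟩ := h.dec hn'
      refine mul_mem (mul_mem (BK hb) (hB.fpf g hn x (h.le hx) ?_)) (kz_le hB (hD hd))
      rw [commutatorElement_eq_one_iff_mul_comm.2
        (congrArg Subtype.val (hg ⟨x, PH hx⟩ hx)).symm]
      exact one_mem _
    · obtain ⟨y, hy, d, hd, rfl⟩ := dec x hx
      exact mul_mem (mem_sup_left hy) (mem_sup_right (center_le_centralizer _ hd))
  have idx := dl_index h.sup BN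
  refine ⟨hB.prime, h.pg.of_equiv (subgroupOfEquivOfLe PH).symm,
    fun k => h.idx (k.trans (relIndex_dvd_index_of_le PH)), ?_, fun θ η hθ hη h1 h2 => ?_,
    fun k => ?_, ?_, fun k => hP ?_⟩
  · haveI := H64.Palfy.caseB_cyc hB
    refine Normal.quotient_commutative_iff_commutator_le.1
      (MonoidHom.isMulCommutative_of_isCyclic_of_ker_le_center
        (QuotientGroup.map (P.subgroupOf H) N H.subtype fun x hx => h.le hx) fun a ha => ?_)
    obtain ⟨a, rfl⟩ := QuotientGroup.mk_surjective a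
    obtain ⟨y, hy, d, hd, rfl⟩ := dec a ((QuotientGroup.eq_one_iff (a : G)).1 ha)
    rw [QuotientGroup.mk_mul, (QuotientGroup.eq_one_iff y).2 hy, one_mul]
    refine mem_center_iff.2 fun g => ?_
    obtain ⟨g, rfl⟩ := QuotientGroup.mk_surjective g
    rw [← QuotientGroup.mk_mul, mem_center_iff.1 hd g, QuotientGroup.mk_mul]
  · obtain ⟨χ, hχ, -, e⟩ := compl_infl h.inf h.sup hθ
    obtain ⟨ψ, hψ, -, e'⟩ := compl_infl h.inf h.sup hη
    have e1 : charDegree θ = charDegree χ := H87.deg_congr (e 1).symm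
    have e2 : charDegree η = charDegree ψ := H87.deg_congr (e' 1).symm
    rw [e1] at h1 h2 ⊢
    rw [e2] at h2 ⊢
    exact hnd χ ψ hχ hψ h1 h2
  · rw [key] at k
    rw [k, index_top] at idx
    exact hB.ne_top (index_eq_one.1 idx.symm)
  · obtain ⟨τ, h1, h2, h3⟩ := hB.deg
    exact ⟨_, compl_res h.sup h1 (BK.trans h2), by rw [H87.deg_res, h3, key, idx]⟩
  · have := congrArg (map H.subtype) k
    rwa [map_commutator, Subgroup.map_bot, subgroupOf_map_subtype, inf_of_le_left PH] at this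

end H84.NDA
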