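import Mathlib
import Cfsg.Agent.Lib.NDA.G3a
import Cfsg.Agent.Lib.NDA.C4

/-! Project NDA, package G3c. -/

set_option autoImplicit false
open Cfsg Subgroup
open scoped commutatorElement

namespace H84.NDA

variable {G : Type*} [Group G] [Finite G] {p : ℕ}

theorem HP.cm_eq {P J : Subgroup G} [P.Normal] (h2 : P ⊔ J = ⊤) (hJ : PJ p (act P J)) :
    (cm (act P J)).map P.subtype = commutator G := by
  have dec : ∀ g : G, ∃ x ∈ P, ∃ c ∈ J, x * c = g := fun g => by
    have : g ∈ ((P ⊔ J : Subgroup G) : Set G) := by rw [h2]; trivial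
    rw [normal_mul] at this
    exact this
  have key : ∀ (x : P) (c : J), ((x⁻¹ * act P J c x : P) : G) = ⁅(x : G)⁻¹, (c : G)⁆ := fun x c => by
    simp [commutatorElement_def, mul_assoc]
  refine le_antisymm ?_ ?_
  · rw [map_le_iff_le_comap]
    refine H2.actComm_le.2 fun c _ x _ => ?_
    rw [mem_comap, coe_subtype, key]
    exact commutator_mem_commutator (mem_top _) (mem_top _)
  have hn : ((cm (act P J)).map P.subtype).Normal := ⟨by
    rintro _ ⟨m, hm, rfl⟩ g
    obtain ⟨x, hx, c, hc, rfl⟩ := dec g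
    refine ⟨_, cm_normal.conj_mem _ (iv_cm (φ := act P J) ⊤ ⟨c, hc⟩ (mem_top _) m hm) ⟨x, hx⟩, ?_⟩
    simp [mul_assoc]⟩
  set M := (cm (act P J)).map P.subtype with hM
  have cm1 : ∀ a b : G, ⁅a, b⁆ ∈ M ↔ Commute (QuotientGroup.mk' M a) (QuotientGroup.mk' M b) := fun a b => by
    rw [← commutatorElement_eq_one_iff_commute, ← map_commutatorElement, QuotientGroup.mk'_apply,
      QuotientGroup.eq_one_iff]
  have pp : ∀ a ∈ P, ∀ b ∈ P, Commute (QuotientGroup.mk' M a) (QuotientGroup.mk' M b) := fun a ha b hb =>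
    (cm1 a b).1 ⟨⁅(⟨a, ha⟩ : P), ⟨b, hb⟩⁆,
      hJ.comm_le_cm (commutator_mem_commutator (mem_top _) (mem_top _)), rfl⟩
  have jj : ∀ a ∈ J, ∀ b ∈ J, Commute (QuotientGroup.mk' M a) (QuotientGroup.mk' M b) := fun a ha b hb =>
    (show Commute a b from congrArg Subtype.val (hJ.comm ⟨a, ha⟩ ⟨b, hb⟩)).map _
  have pj : ∀ a ∈ P, ∀ b ∈ J, Commute (QuotientGroup.mk' M a) (QuotientGroup.mk' M b) := fun a ha b hb => by
    refine (cm1 a b).1 ⟨_, H2.mem_actComm (φ := act P J) (b := ⟨b, hb⟩) (mem_top _)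
      (x := (⟨a, ha⟩ : P)⁻¹) (mem_top _), ?_⟩
    rw [coe_subtype, key]; simp
  refine commutator_le.2 fun g _ g' _ => (cm1 g g').2 ?_
  obtain ⟨x, hx, c, hc, rfl⟩ := dec g
  obtain ⟨x', hx', c', hc', rfl⟩ := dec g'
  rw [map_mul, map_mul]
  exact ((pp _ hx _ hx').mul_right (pj _ hx _ hc')).mul_left (((pj _ hx' _ hc).symm).mul_right (jj _ hc _ hc'))

theorem HP.main {P : Subgroup G} [P.Normal] (h : HP p P) :
    (∃ f d e, ∀ χ, IsIrrCharacter G χ → charDegree χ = 1 ∨ charDegree χ = f ∨ charDegree χ = d ∨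
      charDegree χ = e) ∧ derivedSeries G 3 = ⊥ := by
  obtain ⟨J, -, -, -, hJ, -, h1, -⟩ := h.bridge (S := ⊥) (by rw [card_bot]; exact h.prime.not_dvd_one)
  obtain ⟨h3, d, e, hde⟩ := hJ.pm
  refine ⟨⟨(act P J).ker.index, d, e, fun χ hχ => ?_⟩, ?_⟩
  · obtain ⟨θ, hθ, e1⟩ := h1 χ hχ
    rw [e1]
    by_cases c : charDegree θ = 1
    · rcases hJ.dg_one hθ c with e2 | e2
      exacts [.inl e2, .inr (.inl e2)]
    · exact .inr (.inr (hde θ hθ c))
  · have d1 : derivedSeries G 1 ≤ (⊤ : Subgroup P).map P.subtype := by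
      rw [← MonoidHom.range_eq_map, range_subtype, derivedSeries_one]; exact h.comm
    have d2 : derivedSeries G 2 ≤ (ga P 1).map P.subtype := by
      rw [derivedSeries_succ, ga_one, _root_.commutator_def, map_commutator]
      exact commutator_mono d1 d1
    have d3 : ⁅ga P 1, ga P 1⁆ ≤ ga P 3 := commutator_le.2 fun x hx y hy => comm_ga (i := 1) (j := 1) hx hy
    rw [eq_bot_iff, derivedSeries_succ]
    refine (commutator_mono d2 d2).trans ?_
    rw [← map_commutator]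
    refine (map_mono d3).trans ?_
    rw [h3, Subgroup.map_bot]

theorem HP.nab' {P : Subgroup G} [P.Normal] (h : HP p P) :
    ⁅commutator G, commutator G⁆ ≠ ⊥ := by
  obtain ⟨J, -, -, h2, hJ, -⟩ := h.bridge (S := ⊥) (by rw [card_bot]; exact h.prime.not_dvd_one)
  rw [← HP.cm_eq h2 hJ, ← map_commutator, hJ.cm_comm]
  exact fun e => hJ.nab ((map_eq_bot_iff_of_injective _ P.subtype_injective).1 e)

end H84.NDA
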