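import Mathlib
import Cfsg.Agent.Lib.NDA.G3c
import Cfsg.Agent.Lib.NDA.EXC

/-! Project NDA, package G3d. -/

set_option autoImplicit false
open Cfsg Subgroup
open scoped commutatorElement

namespace H84.NDA

variable {G : Type*} [Group G] [Finite G] {p : ℕ}

theorem HP.exc {P : Subgroup G} [P.Normal] (h : HP p P) {T : Subgroup G}
    (hT : ∀ a ∈ T, ∀ b ∈ T, a * b = b * a)
    (hm : ∀ χ, IsIrrCharacter G χ → charDegree χ ≠ 1 → charDegree χ ∣ T.index →
      charDegree χ = T.index) {x : G} (hx : x ∈ commutator G) (hc : ∀ t ∈ T, t * x = x * t) :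
    x = 1 := by
  have := Fact.mk h.prime
  have i1 : ¬ p ∣ P.relIndex T := fun k => h.idx (k.trans (relIndex_dvd_index_of_normal P T))
  obtain ⟨n, hn⟩ := IsPGroup.iff_card.1 (h.pg.comap_of_injective T.subtype T.subtype_injective)
  obtain ⟨H, hH⟩ := exists_right_complement'_of_coprime (N := P.subgroupOf T) (by
    rw [show Nat.card (P.subgroupOf T) = p ^ n from hn]
    exact ((Nat.Prime.coprime_iff_not_dvd h.prime).2 i1).pow_left n)
  have cS : Nat.card (H.map T.subtype) = P.relIndex T := by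
    rw [card_map_of_injective T.subtype_injective, ← hH.symm.index_eq_card]; rfl
  obtain ⟨J, hSJ, h1, h2, hJ, -, -, h3⟩ := h.bridge (S := H.map T.subtype) (cS ▸ i1)
  have hST := map_subtype_le H
  set S := H.map T.subtype
  have e1 : P.index = Nat.card J := by
    rw [← relIndex_top_right, ← h2, relIndex_sup_left, ← inf_relIndex_right, h1, relIndex_bot_left]
  have e2 := relIndex_mul_index (inf_le_left : T ⊓ P ≤ T)
  have e3 := relIndex_mul_index (inf_le_right : T ⊓ P ≤ P)
  have e4 := card_mul_index (S.subgroupOf J)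
  rw [inf_relIndex_left, ← cS] at e2
  rw [Nat.card_congr (subgroupOfEquivOfLe hSJ).toEquiv] at e4
  rw [inf_relIndex_right, e1, ← e4, ← e2, mul_left_comm] at e3
  have e5 : (T.subgroupOf P).index * (S.subgroupOf J).index = T.index :=
    Nat.eq_of_mul_eq_mul_left Nat.card_pos e3
  obtain ⟨y, hy, rfl⟩ := (HP.cm_eq h2 hJ).ge hx
  have fx : ∀ y : P, (∀ t ∈ T, t * y = y * t) → y ∈ H2.fixSub (act P J) (S.subgroupOf J) :=
    fun y k c hc => Subtype.ext (mul_inv_eq_iff_eq_mul.2 (k c (hST hc)))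
  refine congrArg Subtype.val (hJ.exc (S := S.subgroupOf J) (T := T.subgroupOf P) (fun k => ?_)
    (fun a ha b hb => Subtype.ext (hT a ha b hb)) (fun a ha => fx a fun t ht => hT t ht a ha)
    (fun ψ hψ => ?_) hy (fx y hc))
  · have hL : T ≤ P ⊔ centralizer (P : Set G) := fun t ht => by
      obtain ⟨⟨a, b⟩, e⟩ := hH.2 ⟨t, ht⟩
      rw [← show (a : G) * b = t from congrArg Subtype.val e]
      refine mul_mem (mem_sup_left a.2) (mem_sup_right fun z hz => ?_)
      have m : ((b : T) : G) ∈ S := ⟨b, b.2, rfl⟩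
      exact (mul_inv_eq_iff_eq_mul.1 (congrArg Subtype.val
        (DFunLike.congr_fun (k (x := ⟨_, hSJ m⟩) m) ⟨z, hz⟩))).symm
    obtain ⟨τ, hτ, e⟩ := h.deg
    have e6 := hm τ hτ (e ▸ fun k => h.ne (index_eq_one.1 k)) (e ▸ index_dvd_of_le hL)
    have e7 := relIndex_mul_index hL
    rw [← e6, e, mul_eq_right₀ index_ne_zero_of_finite, relIndex_eq_one] at e7
    exact h.nab (eq_bot_iff.2 (commutator_le.2 fun a ha b hb => commutatorElement_eq_one_iff_mul_comm.2
      (hT a (e7 (mem_sup_left ha)) b (e7 (mem_sup_left hb)))))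
  · obtain ⟨χ, hχ, e⟩ := h3 ψ hψ
    rw [e5, ← e]
    exact hm χ hχ

end H84.NDA
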