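import Mathlib
import Cfsg.Agent.Lib.NDA.G3d
import Cfsg.Agent.Lib.FrobC.Local
import Cfsg.Agent.Lib.LocStruct.SylowIn

/-! Project NDA, package G4. -/

set_option autoImplicit false
open Cfsg Subgroup
open scoped commutatorElement

namespace H84.NDA

variable {G : Type*} [Group G] [Finite G] {p : ℕ}

theorem HP.no_act {P : Subgroup G} [P.Normal] (h : HP p P) {W : Type*} [Group W] [Finite W]
    [Nontrivial W] (φ : G →* MulAut W) (hW : ¬ p ∣ Nat.card W)
    (h1 : ∀ w, w ≠ 1 → ∀ a ∈ H64.Palfy.st φ w, ∀ b ∈ H64.Palfy.st φ w, a * b = b * a)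
    (h2 : ∀ w, w ≠ 1 → ∀ χ, IsIrrCharacter G χ → charDegree χ ≠ 1 →
      charDegree χ ∣ (H64.Palfy.st φ w).index → charDegree χ = (H64.Palfy.st φ w).index) :
    False := by
  classical
  have : Fact p.Prime := ⟨h.prime⟩
  have hM : IsPGroup p (commutator G) := h.pg.to_le h.comm
  have ne : commutator G ≠ ⊥ := fun e => h.nab' (by rw [e, commutator_bot_left])
  obtain ⟨z, hz, ho⟩ := H69.exists_orderOf_eq_prime (hM.to_le inf_le_left) (H69.center_ne_bot hM ne)
  have zp : z ^ p = 1 := ho ▸ pow_orderOf_eq_one z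
  have key : ∀ y ∈ commutator G, y ^ p = 1 → y ∈ zpowers z := fun y hy yp => by
    have c : Commute y z := hz.2 y hy
    have hA : zpowers y ⊔ zpowers z ≤ commutator G := sup_le (zpowers_le_of_mem hy) (zpowers_le_of_mem hz.1)
    have mem : ∀ a ∈ zpowers y ⊔ zpowers z, ∃ i j : ℤ, a = y ^ i * z ^ j := fun a ha => by
      obtain ⟨_, ⟨i, rfl⟩, _, ⟨j, rfl⟩, e⟩ := (H69.mem_sup_of_le_normalizer_right
        (H69.le_normalizer_of_le_centralizer (zpowers_le_of_mem (by
          rw [H69.centralizer_zpowers]; exact mem_centralizer_singleton_iff.2 c)))).1 ha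
      exact ⟨i, j, e⟩
    have cm : IsMulCommutative (zpowers y ⊔ zpowers z : Subgroup G) := ⟨⟨fun a b => Subtype.ext (by
      obtain ⟨i, j, e⟩ := mem a a.2
      obtain ⟨k, l, e'⟩ := mem b b.2
      rw [coe_mul, coe_mul, e, e']
      exact (((Commute.refl y).zpow_zpow i k).mul_right (c.zpow_zpow i l)).mul_left
        ((c.symm.zpow_zpow j k).mul_right ((Commute.refl z).zpow_zpow j l)))⟩⟩
    obtain ⟨n, hn⟩ := IsPGroup.iff_card.1 (hM.to_le hA)
    obtain ⟨A0, h0, a, ha, e, w, w1, hw⟩ := H64.Palfy.exists_cocyc (φ := φ) cm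
      (hn ▸ ((Nat.Prime.coprime_iff_not_dvd h.prime).2 hW).pow_left n)
    have b0 : A0 = ⊥ := eq_bot_iff.2 fun x hx =>
      h.exc (h1 w w1) (h2 w w1) (hA (h0 hx)) fun t ht => h1 w w1 t ht x (hw hx)
    rw [b0, bot_sup_eq] at e
    have ap : a ^ p = 1 := by
      obtain ⟨i, j, rfl⟩ := mem a ha
      rw [(c.zpow_zpow i j).mul_pow, ← zpow_natCast, ← zpow_natCast, ← zpow_mul, ← zpow_mul, mul_comm i, mul_comm j,
        zpow_mul, zpow_mul, zpow_natCast, zpow_natCast, yp, zp, one_zpow, one_zpow, one_mul]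
    have e2 : zpowers z = zpowers a := eq_of_le_of_card_ge (e ▸ le_sup_right) (by
      rw [Nat.card_zpowers, Nat.card_zpowers, ho]
      exact Nat.le_of_dvd h.prime.pos (orderOf_dvd_of_pow_eq_one ap))
    rw [e2, e]
    exact mem_sup_left (mem_zpowers y)
  by_cases p2 : p = 2
  · obtain ⟨w, w1⟩ := exists_ne (1 : W)
    have z1 : z ≠ 1 := fun e => h.prime.one_lt.ne' (by rw [← ho, e, orderOf_one])
    refine z1 (h.exc (h1 w w1) (h2 w w1) hz.1 fun t _ => ?_)
    have m := key (t * z * t⁻¹) (Normal.conj_mem inferInstance z hz.1 t) (by rw [conj_pow, zp]; simp)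
    obtain ⟨k, hk, e⟩ := Finset.mem_image.1 (mem_zpowers_iff_mem_range_orderOf.1 m)
    rw [ho, p2, Finset.mem_range] at hk
    interval_cases k
    · exact (z1 (by simpa using e.symm)).elim
    · rw [pow_one] at e
      exact mul_inv_eq_iff_eq_mul.1 e.symm
  · have := H48.isCyclic_of_forall_pow_eq_one_mem p2 hM inferInstance key
    refine h.nab' (commutator_eq_bot_iff_le_centralizer.2 fun a ha b hb => ?_)
    let := IsCyclic.commGroup (α := commutator G)
    exact congrArg Subtype.val (mul_comm (⟨b, hb⟩ : commutator G) ⟨a, ha⟩)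

end H84.NDA
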