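import Mathlib
import Cfsg.Agent.Lib.NDA.G2b
import Cfsg.Agent.Lib.NDA.DL
import Cfsg.Agent.Lib.NDA.FP0

/-! Project NDA, package G5. -/

set_option autoImplicit false
open Cfsg Subgroup
open scoped commutatorElement

namespace H84.NDA

variable {G : Type*} [Group G] [Finite G] {p : ℕ}

theorem Amb.prime [Group.IsSolvable G] {K N P B D H : Subgroup G} [K.Normal] [N.Normal] [B.Normal]
    (h : Amb p N P B D H) (hB : H87.CaseB K p N) (hnd : H64.Palfy.ND G) (hq : NoQ G)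
    (hP : ⁅P, P⁆ = ⊥) (h0 : B ≠ ⊥) : N.index.Prime := by
  have eB : ⁅N, N⁆ = B := by rw [h.der, hP, sup_bot_eq]
  have BN : B ≤ N := eB ▸ commutator_le_left N N
  have BG : B ≤ commutator G := eB ▸ commutator_mono le_top le_top
  have dec : ∀ g : G, ∃ b ∈ B, ∃ k ∈ H, b * k = g := fun g => by
    have : g ∈ ((B ⊔ H : Subgroup G) : Set G) := h.sup ▸ mem_top g
    rw [normal_mul] at this
    exact this
  have one : ∀ {a b : H}, ⁅(a : G), (b : G)⁆ ∈ B → a * b = b * a := fun {a b} k =>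
    Subtype.ext (commutatorElement_eq_one_iff_mul_comm.1 (mem_bot.1 (h.inf ▸
      (⟨k, H.mul_mem (H.mul_mem (H.mul_mem a.2 b.2) (H.inv_mem a.2)) (H.inv_mem b.2)⟩ : _ ∈ B ⊓ H))))
  have cm : ∀ a ∈ N.subgroupOf H, ∀ b ∈ N.subgroupOf H, a * b = b * a := fun a ha b hb =>
    one (eB ▸ commutator_mem_commutator ha hb)
  have cen : ∀ {x : H}, (x : G) ∈ N → (x ∈ center H ↔ (x : G) ∈ kz N) := fun {x} hx => by
    refine ⟨fun k => ⟨hx, fun g => ?_⟩, fun k => mem_center_iff.2 fun g => one (eB ▸ k.2 g)⟩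
    obtain ⟨b, hb, c, hc, rfl⟩ := dec g
    have e : c * x = x * c := congrArg Subtype.val (mem_center_iff.1 k ⟨c, hc⟩)
    rw [eB, show ⁅b * c, (x : G)⁆ = b * (c * x * c⁻¹ * b⁻¹ * (x : G)⁻¹) by
      simp only [commutatorElement_def]; group, e, mul_inv_cancel_right]
    exact mul_mem hb (Normal.conj_mem inferInstance _ (inv_mem hb) _)
  have idx : (N.subgroupOf H).index = N.index := by
    change N.relIndex H = _
    rw [← relIndex_sup_left H N, top_le_iff.1 (h.sup.ge.trans (sup_le_sup_right BN H)), relIndex_top_right]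
  have : Finite (B →* ℂˣ) := H64.Palfy.finite_dual
  have : Nontrivial (B →* ℂˣ) := by
    obtain ⟨x, hx, hn⟩ := SetLike.exists_of_lt (Group.IsSolvable.commutator_lt_of_ne_bot h0)
    obtain ⟨ν, hν⟩ := H64.Palfy.exists_hom_of_not_mem (x := ⟨x, hx⟩) hn
    exact ⟨ν, 1, fun e => hν (by rw [e]; rfl)⟩
  have := H64.Palfy.caseB_cyc hB
  rw [← idx]
  refine FH.prime (W := B →* ℂˣ) (φ := dl B H) ⟨cm, ?_, fun k => hB.lt.not_ge fun n hn => ?_, fun g hg n hn k => ?_,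
    fun x hx hc w e => ?_, fun w hw k => ?_, fun v w hv hw k => ?_⟩
  · refine isCyclic_of_injective (QuotientGroup.map (N.subgroupOf H) N H.subtype le_rfl)
      ((injective_iff_map_eq_one _).2 fun a ha => ?_)
    obtain ⟨a, rfl⟩ := QuotientGroup.mk_surjective a
    exact (QuotientGroup.eq_one_iff _).2 ((QuotientGroup.eq_one_iff (a : G)).1 ha)
  · obtain ⟨b, hb, c, hc, rfl⟩ := dec n
    have cN : c ∈ N := (mul_mem_cancel_left (BN hb)).1 hn
    exact mul_mem (cb_der_le hB (eB ▸ hb)) (kz_le hB ((cen (x := ⟨c, hc⟩) cN).1 (k cN)))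
  · refine (cen hn).2 (kz_fr hB hnd hq hg hn ((cen (x := ⁅g, n⁆) ?_).1 k))
    exact N.mul_mem (Normal.conj_mem ‹N.Normal› _ hn (g : G)) (N.inv_mem hn)
  · have e' := H64.Palfy.mem_st_dualA.1 (show (x : G) ∈ H64.Palfy.st (H64.Palfy.dual B) w from e)
    refine MonoidHom.ext fun b => ?_
    obtain ⟨n, hn, en⟩ := kz_conj (x := x) (b := b) hB hnd hq hx (fun k => hc ((cen hx).2 k)) (eB.ge b.2)
    obtain ⟨b', hb', c, hc', rfl⟩ := dec n
    have cN : c ∈ N := (mul_mem_cancel_left (BN hb')).1 hn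
    have e1 : c * x = x * c := congrArg Subtype.val (cm ⟨c, hc'⟩ cN x hx)
    have e2 : b = ⟨b', hb'⟩ * MulAut.conjNormal (x : G) (⟨b', hb'⟩ : B)⁻¹ := Subtype.ext (by
      rw [← en, show ⁅b' * c, (x : G)⁆ = b' * (c * x * c⁻¹ * b'⁻¹ * (x : G)⁻¹) by
        simp only [commutatorElement_def]; group, e1, mul_inv_cancel_right]
      rfl)
    rw [e2, map_mul, e', ← map_mul, mul_inv_cancel, map_one, MonoidHom.one_apply]
  · obtain ⟨⟨χ, hχ, hk, e⟩, -⟩ := dl_main h.inf h.sup BG hnd hw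
    rw [← e, idx] at k
    exact hB.not_dvd (cb_eq hB hnd hχ k ▸ cb_a3 hB hnd hχ (eB ▸ hk))
  · obtain ⟨⟨χ, hχ, hk, e⟩, -⟩ := dl_main h.inf h.sup BG hnd hv
    obtain ⟨⟨ψ, hψ, -, e'⟩, -⟩ := dl_main h.inf h.sup BG hnd hw
    rw [← e, ← e'] at k ⊢
    exact hnd χ ψ hχ hψ (fun d => hk (BG.trans ((H87.deg_eq_one_iff_commutator_le hχ).1 d))) k

end H84.NDA
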