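import Mathlib
import Cfsg.Agent.Lib.NDA.G3b
import Cfsg.Agent.Lib.NDA.G4

/-! Project NDA, package G7. -/

set_option autoImplicit false
open Cfsg Subgroup
open scoped commutatorElement

namespace H84.NDA

variable {G : Type*} [Group G] [Finite G] {p : ℕ}

theorem Amb.bot [Group.IsSolvable G] {K N P B D H : Subgroup G} [K.Normal] [N.Normal] [B.Normal]
    (h : Amb p N P B D H) (hB : H87.CaseB K p N) (hnd : H64.Palfy.ND G) (hq : NoQ G)
    (hP : ⁅P, P⁆ ≠ ⊥) : B = ⊥ := by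
  by_contra h0
  have hp := h.hp hB hnd (h.le_kz hB hnd hq hP) hP
  have := h.normal
  have := H64.Palfy.finite_dual (G := B)
  have := Fact.mk hB.prime
  have hle : B ≤ commutator G := (le_sup_left.trans h.der.ge).trans (commutator_mono le_top le_top)
  obtain ⟨x, hx, hx'⟩ := SetLike.exists_of_lt
    (H3.commutator_self_lt_of_isSolvable (inferInstance : Group.IsSolvable B) h0)
  obtain ⟨ν, hν⟩ := H64.Palfy.exists_hom_of_not_mem (x := ⟨x, hx⟩) hx'
  have : Nontrivial (B →* ℂˣ) := ⟨ν, 1, fun e => hν (by rw [e]; rfl)⟩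
  refine hp.no_act (W := B →* ℂˣ) (dl B H) (fun hd => h.copB ?_)
    (fun w hw => (dl_main h.inf h.sup hle hnd (w := w) hw).2) fun w hw χ hχ h1 hd => ?_
  · obtain ⟨w, hw⟩ := exists_prime_orderOf_dvd_card' p hd
    rw [← hw]
    refine orderOf_dvd_of_pow_eq_one (MonoidHom.ext fun b => ?_)
    rw [MonoidHom.pow_apply, ← map_pow, pow_card_eq_one', map_one, MonoidHom.one_apply]
  · obtain ⟨χ0, h2, -, e0⟩ := (dl_main h.inf h.sup hle hnd hw).1
    obtain ⟨χ', h3, -, e⟩ := compl_infl h.inf h.sup hχ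
    have d : charDegree χ' = charDegree χ := H87.deg_congr (e 1)
    rw [← e0, ← d] at hd ⊢
    exact hnd _ _ h3 h2 (d ▸ h1) hd

theorem Amb.nab [Group.IsSolvable G] {K N P B D H : Subgroup G} [K.Normal] [N.Normal] [B.Normal]
    (h : Amb p N P B D H) (hB : H87.CaseB K p N) (hnd : H64.Palfy.ND G) (hq : NoQ G)
    (hP : ⁅P, P⁆ ≠ ⊥) :
    (∃ f d e, ∀ χ, IsIrrCharacter G χ → charDegree χ = 1 ∨ charDegree χ = f ∨ charDegree χ = d ∨
      charDegree χ = e) ∧ derivedSeries G 3 = ⊥ := by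
  have hb := h.bot hB hnd hq hP
  have := h.normal
  obtain ⟨⟨f, d, e, k⟩, k3⟩ := (h.hp hB hnd (h.le_kz hB hnd hq hP) hP).main
  refine ⟨⟨f, d, e, fun χ hχ => ?_⟩, ?_⟩
  · have := k _ (compl_res h.sup hχ (hb.trans_le bot_le))
    rwa [show charDegree (fun x : H => χ x) = charDegree χ from H87.deg_congr rfl] at this
  · have hH : H = ⊤ := by rw [← h.sup, hb, bot_sup_eq]
    have s : Function.Surjective H.subtype := fun g => ⟨⟨g, hH ▸ mem_top g⟩, rfl⟩
    rw [← map_derivedSeries_eq s, k3, Subgroup.map_bot]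

end H84.NDA
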