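import Mathlib
import Cfsg.Agent.Lib.NDA.G1b
import Cfsg.Agent.Lib.NDA.G5
import Cfsg.Agent.Lib.NDA.G7

/-! Project NDA: at most four degrees and derived length at most three. -/

set_option autoImplicit false
open Cfsg Subgroup
open scoped commutatorElement

namespace H84.NDA

variable {G : Type*} [Group G] [Finite G]

theorem main_three {f d : ℕ} (h : ∀ χ, IsIrrCharacter G χ → charDegree χ = 1 ∨ charDegree χ = f ∨
    charDegree χ = d) : (∃ f d e, ∀ χ, IsIrrCharacter G χ → charDegree χ = 1 ∨ charDegree χ = f ∨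
      charDegree χ = d ∨ charDegree χ = e) ∧ derivedSeries G 3 = ⊥ := by
  refine ⟨⟨f, d, d, fun χ hχ => (h χ hχ).imp_right (Or.imp_right Or.inl)⟩,
    H87.derivedSeries_three_eq_bot ?_⟩
  have hs : charDegrees G ⊆ {1, f, d} := by
    rintro _ ⟨χ, rfl⟩
    exact h _ χ.2
  refine (Set.ncard_le_ncard hs (Set.toFinite _)).trans ?_
  refine (Set.ncard_insert_le _ _).trans (Nat.succ_le_succ ?_)
  exact (Set.ncard_insert_le _ _).trans (by simp)

theorem main_caseA (hnd : H64.Palfy.ND G) {K Z : Subgroup G} {p : ℕ} {τ : G → ℂ}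
    (hK : H87.MaxNA K) (hA : H87.CaseA K p Z τ) :
    ∃ d, ∀ χ, IsIrrCharacter G χ → charDegree χ = 1 ∨ charDegree χ = d := by
  haveI := hK.normal
  haveI := Fact.mk hA.prime
  have hd : ∀ χ, IsIrrCharacter G χ → charDegree χ ≠ 1 → p ∣ charDegree χ := fun χ hχ h1 => by
    by_contra hp
    obtain ⟨η, hη, e⟩ := hA.exists_deg_mul_of_not_dvd hχ hp
    have := hnd χ η hχ hη h1 (e ▸ Dvd.intro_left _ rfl)
    have h1 := hA.one_lt
    have h2 := H87.deg_pos hχ
    nlinarith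
  obtain ⟨A, hAn, cA, k, iA⟩ := H87.exists_complement_of_dvd_deg hA.prime hd
  have hAK : A ≤ K := fun a ha => by
    obtain ⟨j, hj⟩ := hA.pow_mem a
    have h1 : orderOf (a : G ⧸ K) ∣ p ^ j := orderOf_dvd_of_pow_eq_one (by
      rw [← QuotientGroup.mk_pow]; exact (QuotientGroup.eq_one_iff _).mpr hj)
    have h2 : orderOf (a : G ⧸ K) ∣ Nat.card A :=
      (orderOf_map_dvd (QuotientGroup.mk' K) a).trans (A.orderOf_dvd_natCard ha)
    exact (QuotientGroup.eq_one_iff _).mp (orderOf_eq_one_iff.mp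
      (Nat.eq_one_of_dvd_coprimes (cA.pow_right j) h2 h1))
  obtain ⟨-, d, -, h⟩ := hnd.single hA.prime cA iA fun e => hK.not_le (e.trans hAK)
  exact ⟨d, h⟩

theorem main [Group.IsSolvable G] (hnd : H64.Palfy.ND G) :
    (∃ f d e, ∀ χ, IsIrrCharacter G χ → charDegree χ = 1 ∨ charDegree χ = f ∨
      charDegree χ = d ∨ charDegree χ = e) ∧ derivedSeries G 3 = ⊥ := by
  have two : ∀ {d : ℕ}, (∀ χ, IsIrrCharacter G χ → charDegree χ = 1 ∨ charDegree χ = d) →
      (∃ f d e, ∀ χ, IsIrrCharacter G χ → charDegree χ = 1 ∨ charDegree χ = f ∨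
      charDegree χ = d ∨ charDegree χ = e) ∧ derivedSeries G 3 = ⊥ := fun {d} h =>
    main_three (d := d) fun χ hχ => (h χ hχ).imp_right Or.inl
  by_cases hab : commutator G ≤ ⊥
  · exact two (d := 1) fun χ hχ => Or.inl (H87.deg_eq_one_of_commutator_le hχ (hab.trans bot_le))
  by_cases hq : NoQ G
  swap
  · simp only [NoQ, not_forall] at hq
    obtain ⟨r, L, hL, hr, hp, hn⟩ := hq
    obtain ⟨K, hK, hLK⟩ := H87.exists_maxNA hL hn
    haveI := hK.normal
    rcases hK.cases_of_isSolvable with ⟨p, Z, τ, hA⟩ | ⟨q, N, hB⟩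
    · obtain ⟨d, hd⟩ := main_caseA hnd hK hA
      exact two hd
    · refine (hB.false_of_isPGroup hr (hp.of_surjective
        (QuotientGroup.map L K (MonoidHom.id G) hLK) fun x => ?_)).elim
      obtain ⟨g, rfl⟩ := QuotientGroup.mk_surjective x
      exact ⟨g, rfl⟩
  obtain ⟨K, hK, -⟩ := H87.exists_maxNA (L := (⊥ : Subgroup G)) inferInstance hab
  haveI := hK.normal
  rcases hK.cases_of_isSolvable with ⟨p, Z, τ, hA⟩ | ⟨p, N, hB⟩
  · obtain ⟨d, hd⟩ := main_caseA hnd hK hA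
    exact two hd
  haveI := hB.normal
  by_cases h0 : ⁅N, N⁆ = ⊥
  · exact two fun χ hχ => cb_a2 hB hnd hχ (h0.le.trans bot_le)
  obtain ⟨P, B, D, H, hBn, h⟩ := exists_amb hB.prime hB.not_dvd fun ψ hψ => cb_a1 hB hnd hψ
  by_cases hP : ⁅P, P⁆ = ⊥
  swap
  · exact h.nab hB hnd hq hP
  have e : ⁅N, N⁆ = B := by rw [h.der, hP, sup_bot_eq]
  have hf := h.prime hB hnd hq hP (e ▸ h0)
  have hc : H64.Palfy.HC N := fun χ hχ hk => by
    refine ((Nat.Prime.coprime_iff_not_dvd hf).mpr fun hd => hB.not_dvd ?_).symm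
    rw [← cb_eq hB hnd hχ hd]
    exact cb_a3 hB hnd hχ hk
  obtain ⟨y, r, hr, hR⟩ := H64.Palfy.caseB_cr hB hc (e ▸ h.copB) h0
  haveI := Fact.mk hr
  obtain ⟨d, hd⟩ := hR.single hnd
  refine main_three (f := N.index) (d := d) fun χ hχ => ?_
  by_cases hk : ⁅N, N⁆ ≤ H6.charKer χ
  · exact (cb_a2 hB hnd hχ hk).imp_right Or.inl
  · exact Or.inr (Or.inr (hd χ hχ hk))

theorem card_le_four {f d e : ℕ} (h : ∀ χ, IsIrrCharacter G χ → charDegree χ = 1 ∨
    charDegree χ = f ∨ charDegree χ = d ∨ charDegree χ = e) : Nat.card ↥(charDegrees G) ≤ 4 := by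
  have hs : charDegrees G ⊆ {1, f, d, e} := by
    rintro _ ⟨χ, rfl⟩
    exact h _ χ.2
  rw [Nat.card_coe_set_eq]
  refine (Set.ncard_le_ncard hs (Set.toFinite _)).trans ?_
  refine (Set.ncard_insert_le _ _).trans (Nat.succ_le_succ ?_)
  refine (Set.ncard_insert_le _ _).trans (Nat.succ_le_succ ?_)
  exact (Set.ncard_insert_le _ _).trans (by simp)

end H84.NDA
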